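import Mathlib
import Cfsg.Agent.H37.Card
import Cfsg.Agent.H97.Schur

/-!
Perfect central extensions of `PSL₃(4)` with kernel of exponent 2 have kernel of order at most 4.
-/

set_option autoImplicit false

namespace H76.L34

open Matrix Subgroup
open scoped commutatorElement

variable {F : Type*} [Field F] [Fintype F]

theorem two_eq_zero_of_card_four (hF : Fintype.card F = 4) : (2 : F) = 0 := by
  have h := FiniteField.cast_card_eq_zero F
  rw [hF, show ((4 : ℕ) : F) = 2 * 2 by norm_num] at h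
  exact mul_self_eq_zero.1 h

theorem add_self_four (hF : Fintype.card F = 4) (a : F) : a + a = 0 := by
  linear_combination a * two_eq_zero_of_card_four hF

theorem cube_four (hF : Fintype.card F = 4) {a : F} (ha : a ≠ 0) : a * a * a = 1 := by
  have h := FiniteField.pow_card_sub_one_eq_one a ha
  rw [hF] at h
  rw [← h]; ring

theorem exists_omega (hF : Fintype.card F = 4) :
    ∃ w : F, w ≠ 0 ∧ w ≠ 1 ∧ w * w + w + 1 = 0 := by
  classical
  have : ({0, 1}ᶜ : Finset F).Nonempty := by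
    rw [← Finset.card_pos, Finset.card_compl, hF, Finset.card_pair zero_ne_one]
    norm_num
  obtain ⟨w, hw⟩ := this
  simp only [Finset.mem_compl, Finset.mem_insert, Finset.mem_singleton, not_or] at hw
  refine ⟨w, hw.1, hw.2, ?_⟩
  have h : (w - 1) * (w * w + w + 1) = 0 := by linear_combination cube_four hF hw.1
  exact (mul_eq_zero.1 h).resolve_left (sub_ne_zero.2 hw.2)

theorem cases_four (hF : Fintype.card F = 4) {w : F} (hw : w * w + w + 1 = 0) (a : F) :
    a = 0 ∨ a = 1 ∨ a = w ∨ a = w * w := by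
  by_cases h0 : a = 0
  · exact Or.inl h0
  by_cases h1 : a = 1
  · exact Or.inr (Or.inl h1)
  have h : (a - 1) * (a * a + a + 1) = 0 := by linear_combination cube_four hF h0
  have h' := (mul_eq_zero.1 h).resolve_left (sub_ne_zero.2 h1)
  have h'' : (a - w) * (a - w * w) = 0 := by
    linear_combination h' - a * hw + (w - 1) * hw
  rcases mul_eq_zero.1 h'' with e | e
  · exact Or.inr (Or.inr (Or.inl (sub_eq_zero.1 e)))
  · exact Or.inr (Or.inr (Or.inr (sub_eq_zero.1 e)))

section lifts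

variable {G S : Type*} [Group G] [Group S]

theorem mul_self_eq_of_map_eq (π : G →* S) (hc : π.ker ≤ center G)
    (h2 : ∀ z ∈ π.ker, z * z = 1) {x y : G} (h : π x = π y) : x * x = y * y := by
  have hz : y⁻¹ * x ∈ π.ker := by simp [MonoidHom.mem_ker, h]
  have hcz := mem_center_iff.1 (hc hz) y
  have hx : x = y * (y⁻¹ * x) := (mul_inv_cancel_left y x).symm
  calc x * x = (y * (y⁻¹ * x)) * (y * (y⁻¹ * x)) := by rw [← hx]
    _ = (y * (y⁻¹ * x)) * ((y⁻¹ * x) * y) := by rw [hcz]
    _ = y * ((y⁻¹ * x) * (y⁻¹ * x)) * y := by group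
    _ = y * y := by rw [h2 _ hz, mul_one]

/-- Lifts of an elementary abelian group on whose nonzero elements the inner automorphisms of the
base act transitively (in the way given) commute. -/
theorem lifts_commute (hF : Fintype.card F = 4) {w : F} (hw : w * w + w + 1 = 0) (hw1 : w ≠ 1)
    (hw0 : w ≠ 0) (π : G →* S) (hs : Function.Surjective π) (hc : π.ker ≤ center G)
    (h2 : ∀ z ∈ π.ker, z * z = 1) (ψ : F → F → S)
    (hψ : ∀ a b a' b', ψ a b * ψ a' b' = ψ (a + a') (b + b')) (T W U : S)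
    (hT : ∀ a b, T * ψ a b = ψ (w * w * a) (w * b) * T)
    (hW : ∀ a b, W * ψ a b = ψ b a * W)
    (hU : ∀ a b, U * ψ a b = ψ a (a + b) * U)
    {a b a' b' : F} {x y : G} (hx : π x = ψ a b) (hy : π y = ψ a' b') :
    x * y = y * x ∧ x * x = 1 := by
  choose σ hσ using fun v : F × F => hs (ψ v.1 v.2)
  let q : F × F → G := fun v => σ v * σ v
  have hq : ∀ (v : F × F) (x : G), π x = ψ v.1 v.2 → x * x = q v := fun v x hx =>
    mul_self_eq_of_map_eq π hc h2 (hx.trans (hσ v).symm)
  have hψ0 : ψ 0 0 = 1 := by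
    have := hψ 0 0 0 0
    simpa using this
  have hqker : ∀ v, q v ∈ π.ker := fun v => by
    simp only [MonoidHom.mem_ker, q, map_mul, hσ, hψ, add_self_four hF, hψ0]
  have hinv : ∀ (R : S) (v v' : F × F), R * ψ v.1 v.2 = ψ v'.1 v'.2 * R → q v' = q v := by
    intro R v v' h
    obtain ⟨g, rfl⟩ := hs R
    have h1 : π (g * σ v * g⁻¹) = ψ v'.1 v'.2 := by
      rw [map_mul, map_mul, map_inv, hσ, h, mul_inv_cancel_right]
    rw [← hq v' _ h1, show g * σ v * g⁻¹ * (g * σ v * g⁻¹) = g * q v * g⁻¹ by simp only [q]; group,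
      mem_center_iff.1 (hc (hqker v)) g, mul_inv_cancel_right]
  have qT : ∀ a b, q (w * w * a, w * b) = q (a, b) := fun a b => hinv T (a, b) _ (hT a b)
  have qW : ∀ a b, q (b, a) = q (a, b) := fun a b => hinv W (a, b) _ (hW a b)
  have qU : ∀ a b, q (a, a + b) = q (a, b) := fun a b => hinv U (a, b) _ (hU a b)
  have h3 : w * w * w = 1 := cube_four hF hw0
  have qa : ∀ a : F, a ≠ 0 → q (a, 0) = q (1, 0) := by
    intro a ha
    have e1 : q (w * w, 0) = q (1, 0) := by simpa using qT 1 0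
    rcases cases_four hF hw a with rfl | rfl | h | h
    · exact absurd rfl ha
    · rfl
    · have := qT (w * w) 0
      subst a
      rw [mul_zero, e1, show w * w * (w * w) = w by linear_combination w * h3] at this
      exact this
    · subst a; exact e1
  have qaa : ∀ a : F, a ≠ 0 → q (a, a) = q (1, 0) := by
    intro a ha
    have := qU a 0
    rw [add_zero] at this
    rw [this, qa a ha]
  have qall : ∀ v : F × F, v ≠ 0 → q v = q (1, 0) := by
    rintro ⟨a, b⟩ hv
    by_cases ha : a = 0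
    · subst ha
      have hb : b ≠ 0 := fun h => hv (by rw [h]; rfl)
      rw [qW b 0, qa b hb]
    by_cases hb : b = 0
    · rw [hb]; exact qa a ha
    have hww : w * w ≠ 0 := mul_ne_zero hw0 hw0
    obtain ⟨l, rfl⟩ : ∃ l, b = l * a := ⟨b / a, (div_mul_cancel₀ b ha).symm⟩
    rcases cases_four hF hw l with rfl | rfl | h | h
    · simp at hb
    · rw [one_mul]; exact qaa a ha
    · subst l
      rw [← qT, show w * (w * a) = w * w * a by ring, qaa _ (mul_ne_zero hww ha)]
    · subst l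
      rw [← qT, ← qT, show w * w * (w * w * a) = w * a by linear_combination (w * a) * h3,
        show w * (w * (w * w * a)) = w * a by linear_combination (w * a) * h3,
        qaa _ (mul_ne_zero hw0 ha)]
  have hcomm : ∀ (v v' : F × F) (x y : G), π x = ψ v.1 v.2 → π y = ψ v'.1 v'.2 →
      ⁅x, y⁆ ∈ π.ker ∧ q (v + v') * ⁅x, y⁆ = q v * q v' := by
    intro v v' x y hx hy
    have hk : ⁅x, y⁆ ∈ π.ker := by
      rw [MonoidHom.mem_ker, map_commutatorElement, hx, hy, commutatorElement_eq_one_iff_mul_comm,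
        hψ, hψ, add_comm v.1, add_comm v.2]
    refine ⟨hk, ?_⟩
    rw [← hq (v + v') (x * y) (by rw [map_mul, hx, hy, hψ]; rfl), ← hq v x hx, ← hq v' y hy]
    have hcz := mem_center_iff.1 (hc hk)
    calc x * y * (x * y) * ⁅x, y⁆ = x * (y * x * (y * ⁅x, y⁆)) := by group
      _ = x * (y * x * (⁅x, y⁆ * y)) := by rw [hcz y]
      _ = x * (y * x * ⁅x, y⁆ * y) := by group
      _ = x * (⁅x, y⁆ * (y * x) * y) := by rw [hcz (y * x)]
      _ = x * x * (y * y) := by rw [commutatorElement_def]; group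
  have hk1 : q (1, 0) = 1 := by
    have hc' : ∀ v v' : F × F, v ≠ 0 → v' ≠ 0 → v + v' ≠ 0 → ⁅σ v, σ v'⁆ = q (1, 0) := by
      intro v v' hv hv' hvv
      have := (hcomm v v' _ _ (hσ v) (hσ v')).2
      rw [qall v hv, qall v' hv', qall _ hvv] at this
      exact mul_left_cancel this
    have n1 : ((1 : F), (0 : F)) ≠ 0 := by simp
    have n2 : ((0 : F), (1 : F)) ≠ 0 := by simp
    have n3 : (w, (1 : F)) ≠ 0 := by simp
    have n4 : ((0 : F), (1 : F)) + (w, 1) = (w, 0) := by simp [add_self_four hF]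
    have n5 : ((1 : F), (0 : F)) + (0, 1) ≠ 0 := by simp
    have n6 : ((1 : F), (0 : F)) + (w, 1) ≠ 0 := by simp
    have n7 : ((1 : F), (0 : F)) + (w, 0) ≠ 0 := by
      simp only [Prod.mk_add_mk, add_zero, ne_eq, Prod.mk_eq_zero, and_true]
      intro h
      exact hw1 (by linear_combination h - two_eq_zero_of_card_four hF)
    have n8 : (w, (0 : F)) ≠ 0 := by simp [hw0]
    have hl : π (σ (0, 1) * σ (w, 1)) = ψ (w, (0 : F)).1 (w, (0 : F)).2 := by
      rw [map_mul, hσ, hσ, hψ]
      simp [add_self_four hF]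
    have := (hcomm (1, 0) (w, 0) _ _ (hσ (1, 0)) hl).2
    rw [commutatorElement_mul_right_eq_mul_conj, hc' _ _ n1 n2 n5, hc' _ _ n1 n3 n6,
      qall _ n7, qall _ n8, mul_assoc (q (1, 0)) (σ (0, 1)) (q (1, 0)),
      mem_center_iff.1 (hc (hqker (1, 0))) (σ (0, 1))] at this
    have h' : q (1, 0) * (q (1, 0) * q (1, 0)) = q (1, 0) * q (1, 0) := by
      simpa [mul_assoc] using this
    have h'' := mul_left_cancel h'
    exact (mul_eq_left (a := q (1, 0))).1 h''
  have q1 : ∀ v, q v = 1 := by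
    intro v
    by_cases hv : v = 0
    · subst hv
      apply h2
      rw [MonoidHom.mem_ker, hσ]
      exact hψ0
    · rw [qall v hv, hk1]
  refine ⟨?_, (hq (a, b) x hx).trans (q1 _)⟩
  have := (hcomm (a, b) (a', b') x y hx hy).2
  rw [q1, q1, q1, one_mul, one_mul, commutatorElement_eq_one_iff_mul_comm] at this
  exact this

end lifts

/-- The matrix `[[1,a,b],[0,1,c],[0,0,1]]`. -/
def uni (a b c : F) : SpecialLinearGroup (Fin 3) F :=
  ⟨!![1, a, b; 0, 1, c; 0, 0, 1], by simp [Matrix.det_fin_three]⟩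

theorem uni_mul (a b c a' b' c' : F) :
    uni a b c * uni a' b' c' = uni (a + a') (b + b' + a * c') (c + c') := by
  apply Subtype.ext
  show (uni a b c).val * (uni a' b' c').val = _
  ext i j
  fin_cases i <;> fin_cases j <;> simp [uni, Matrix.mul_apply, Fin.sum_univ_three] <;> ring

theorem uni_zero : uni (0 : F) 0 0 = 1 := by
  apply Subtype.ext
  ext i j
  fin_cases i <;> fin_cases j <;> simp [uni]

/-- The group of upper unitriangular matrices. -/
def uniGroup (F : Type*) [Field F] [Fintype F] : Subgroup (SpecialLinearGroup (Fin 3) F) where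
  carrier := Set.range fun v : F × F × F => uni v.1 v.2.1 v.2.2
  one_mem' := ⟨(0, 0, 0), uni_zero⟩
  mul_mem' := by
    rintro _ _ ⟨v, rfl⟩ ⟨v', rfl⟩
    exact ⟨(_, _, _), (uni_mul _ _ _ _ _ _).symm⟩
  inv_mem' := by
    rintro _ ⟨v, rfl⟩
    refine ⟨(-v.1, -v.2.1 + v.1 * v.2.2, -v.2.2), eq_inv_of_mul_eq_one_right ?_⟩
    rw [uni_mul, ← uni_zero]
    congr 1 <;> ring

theorem card_uniGroup : Nat.card (uniGroup F) = Nat.card F ^ 3 := by
  have hinj : Function.Injective fun v : F × F × F => uni v.1 v.2.1 v.2.2 := by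
    rintro ⟨a, b, c⟩ ⟨a', b', c'⟩ h
    have h' := congrArg Subtype.val h
    have e1 := congr_fun (congr_fun h' 0) 1
    have e2 := congr_fun (congr_fun h' 0) 2
    have e3 := congr_fun (congr_fun h' 1) 2
    simp [uni] at e1 e2 e3
    simp [e1, e2, e3]
  rw [show Nat.card (uniGroup F) = Nat.card (Set.range fun v : F × F × F => uni v.1 v.2.1 v.2.2)
      from rfl, Nat.card_range_of_injective hinj, Nat.card_prod, Nat.card_prod]
  ring

/-- `mk ∘ uni`. -/
def puni (a b c : F) : ProjectiveSpecialLinearGroup (Fin 3) F := QuotientGroup.mk (uni a b c)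

theorem puni_mul (a b c a' b' c' : F) :
    puni a b c * puni a' b' c' = puni (a + a') (b + b' + a * c') (c + c') := by
  rw [puni, puni, puni, ← QuotientGroup.mk_mul, uni_mul]

theorem eq_zero_of_puni_eq_one {b : F} (h : puni 0 b 0 = 1) : b = 0 := by
  rw [puni, QuotientGroup.eq_one_iff] at h
  obtain ⟨r, -, hr⟩ := Matrix.SpecialLinearGroup.mem_center_iff.1 h
  have := congr_fun (congr_fun hr 0) 2
  simpa [uni] using this.symm

theorem puni_conj (M : SpecialLinearGroup (Fin 3) F) {a b c a' b' c' : F}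
    (h : (M : Matrix (Fin 3) (Fin 3) F) * !![1, a, b; 0, 1, c; 0, 0, 1] =
      !![1, a', b'; 0, 1, c'; 0, 0, 1] * (M : Matrix (Fin 3) (Fin 3) F)) :
    (QuotientGroup.mk M : ProjectiveSpecialLinearGroup (Fin 3) F) * puni a b c =
      puni a' b' c' * QuotientGroup.mk M := by
  rw [puni, puni, ← QuotientGroup.mk_mul, ← QuotientGroup.mk_mul]
  exact congrArg _ (Subtype.ext h)

variable {G : Type*} [Group G] [Finite G]

theorem card_ker_le_four (hF : Fintype.card F = 4) (π : G →* ProjectiveSpecialLinearGroup (Fin 3) F)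
    (hs : Function.Surjective π) (hc : π.ker ≤ center G) (h2 : ∀ z ∈ π.ker, z * z = 1)
    (hperf : commutator G = ⊤) : Nat.card π.ker ≤ 4 := by
  obtain ⟨w, hw0, hw1, hw⟩ := exists_omega hF
  have h3 : w * w * w = 1 := cube_four hF hw0
  have htwo := two_eq_zero_of_card_four hF
  -- row group
  let T : SpecialLinearGroup (Fin 3) F :=
    ⟨!![1, 0, 0; 0, w, 0; 0, 0, w * w],
      by simp [Matrix.det_fin_three]; linear_combination h3⟩
  let W : SpecialLinearGroup (Fin 3) F :=
    ⟨!![1, 0, 0; 0, 0, 1; 0, 1, 0],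
      by simp [Matrix.det_fin_three]; linear_combination -htwo⟩
  let U : SpecialLinearGroup (Fin 3) F :=
    ⟨!![1, 0, 0; 0, 1, 1; 0, 0, 1], by simp [Matrix.det_fin_three]⟩
  let T' : SpecialLinearGroup (Fin 3) F :=
    ⟨!![w * w, 0, 0; 0, w, 0; 0, 0, 1],
      by simp [Matrix.det_fin_three]; linear_combination h3⟩
  let W' : SpecialLinearGroup (Fin 3) F :=
    ⟨!![0, 1, 0; 1, 0, 0; 0, 0, 1],
      by simp [Matrix.det_fin_three]; linear_combination -htwo⟩
  let U' : SpecialLinearGroup (Fin 3) F :=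
    ⟨!![1, 0, 0; 1, 1, 0; 0, 0, 1], by simp [Matrix.det_fin_three]⟩
  have hrow : ∀ {a b a' b' : F} {x y : G}, π x = puni a b 0 → π y = puni a' b' 0 →
      x * y = y * x := by
    intro a b a' b' x y hx hy
    refine (lifts_commute hF hw hw1 hw0 π hs hc h2 (fun a b => puni a b 0) ?_
      (QuotientGroup.mk T) (QuotientGroup.mk W) (QuotientGroup.mk U) ?_ ?_ ?_ hx hy).1
    · intro a b a' b'
      simp [puni_mul]
    · intro a b
      refine puni_conj T ?_
      ext i j
      fin_cases i <;> fin_cases j <;> simp [T, Matrix.mul_apply, Fin.sum_univ_three] <;>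
        first
          | linear_combination (-a) * h3
          | linear_combination (-b) * h3
          | ring
    · intro a b
      refine puni_conj W ?_
      ext i j
      fin_cases i <;> fin_cases j <;> simp [W, Matrix.mul_apply, Fin.sum_univ_three]
    · intro a b
      refine puni_conj U ?_
      ext i j
      fin_cases i <;> fin_cases j <;> simp [U, Matrix.mul_apply, Fin.sum_univ_three]
      linear_combination (-a) * htwo
  have hcol : ∀ {a b a' b' : F} {x y : G}, π x = puni 0 a b → π y = puni 0 a' b' →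
      x * y = y * x := by
    intro a b a' b' x y hx hy
    refine (lifts_commute hF hw hw1 hw0 π hs hc h2 (fun a b => puni 0 a b) ?_
      (QuotientGroup.mk T') (QuotientGroup.mk W') (QuotientGroup.mk U') ?_ ?_ ?_ hx hy).1
    · intro a b a' b'
      simp [puni_mul]
    · intro a b
      refine puni_conj T' ?_
      ext i j
      fin_cases i <;> fin_cases j <;> simp [T', Matrix.mul_apply, Fin.sum_univ_three]
    · intro a b
      refine puni_conj W' ?_
      ext i j
      fin_cases i <;> fin_cases j <;> simp [W', Matrix.mul_apply, Fin.sum_univ_three]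
    · intro a b
      refine puni_conj U' ?_
      ext i j
      fin_cases i <;> fin_cases j <;> simp [U', Matrix.mul_apply, Fin.sum_univ_three]
  -- the Sylow subgroup
  have hker2 : IsPGroup 2 π.ker := fun z =>
    ⟨1, Subtype.ext (by simpa [pow_two] using h2 z.1 z.2)⟩
  let B : Subgroup (ProjectiveSpecialLinearGroup (Fin 3) F) :=
    (uniGroup F).map (QuotientGroup.mk' _)
  have hB : IsPGroup 2 B := (IsPGroup.of_card (n := 6)
    (by rw [card_uniGroup, Nat.card_eq_fintype_card, hF]; norm_num)).map _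
  have hP : IsPGroup 2 (B.comap π) := hB.comap_of_ker_isPGroup π hker2
  have hidx : ¬ 2 ∣ (B.comap π).index := by
    rw [Subgroup.index_comap_of_surjective _ hs]
    intro hd
    have hd' := hd.trans (Subgroup.index_map_dvd (H := uniGroup F) (QuotientGroup.mk'_surjective _))
    have hm := (uniGroup F).card_mul_index
    have hsl := H37.card_SL_fin (F := F) 3 (by norm_num)
    rw [← hm, card_uniGroup, Nat.card_eq_fintype_card, hF, Fin.prod_univ_three] at hsl
    norm_num at hsl
    omega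
  let P : Sylow 2 G := hP.toSylow hidx
  have hPcoe : (P : Subgroup G) = B.comap π := hP.toSylow_coe hidx
  -- chosen commutators
  choose τ hτ using fun c : F => hs (puni 0 0 c)
  choose σ hσ using fun a : F => hs (puni a 0 0)
  have hg : ∀ a c, π ⁅σ a, τ c⁆ = puni 0 (a * c) 0 := by
    intro a c
    rw [map_commutatorElement, hσ, hτ, commutatorElement_def, mul_inv_eq_iff_eq_mul,
      mul_inv_eq_iff_eq_mul]
    simp [puni_mul]
  have hrr : ∀ {a b : F} {x : G}, π x = puni a b 0 → ∀ a' c, x * ⁅σ a', τ c⁆ = ⁅σ a', τ c⁆ * x :=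
    fun hx a' c => hrow hx (hg a' c)
  have hcr : ∀ {b c' : F} {x : G}, π x = puni 0 b c' → ∀ a' c, x * ⁅σ a', τ c⁆ = ⁅σ a', τ c⁆ * x :=
    fun hx a' c => hcol hx (hg a' c)
  have gs : ∀ {a b : F} {x : G} {c : F} {y : G}, π x = puni a b 0 → π y = puni 0 0 c →
      ⁅x, y⁆ = ⁅σ a, τ c⁆ := by
    intro a b x c y hx hy
    obtain ⟨r, hr⟩ := hs (puni 0 b 0)
    have hz : (σ a * r)⁻¹ * x ∈ π.ker := by
      rw [MonoidHom.mem_ker, map_mul, map_inv, map_mul, hσ, hr, hx, puni_mul, inv_mul_eq_one]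
      simp
    have hzy : (τ c)⁻¹ * y ∈ π.ker := by simp [MonoidHom.mem_ker, hy, hτ]
    have ey : y = τ c * ((τ c)⁻¹ * y) := (mul_inv_cancel_left _ _).symm
    have ex : x = σ a * r * ((σ a * r)⁻¹ * x) := (mul_inv_cancel_left _ _).symm
    have c1 : ∀ g : G, ⁅g, y⁆ = ⁅g, τ c⁆ := by
      intro g
      rw [ey, commutatorElement_mul_right_eq_mul_conj,
        commutatorElement_eq_one_iff_mul_comm.2 (mem_center_iff.1 (hc hzy) g)]
      simp
    rw [c1, ex, commutatorElement_mul_left_eq_conj_mul,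
      commutatorElement_eq_one_iff_mul_comm.2 (mem_center_iff.1 (hc hz) (τ c)).symm,
      mul_one, mul_inv_cancel, one_mul, commutatorElement_mul_left_eq_conj_mul,
      commutatorElement_eq_one_iff_mul_comm.2 (hcol hr (hτ c)), mul_one, mul_inv_cancel, one_mul]
  have gadd : ∀ a a' c, ⁅σ (a + a'), τ c⁆ = ⁅σ a, τ c⁆ * ⁅σ a', τ c⁆ := by
    intro a a' c
    rw [← gs (b := 0) (x := σ a * σ a') (by rw [map_mul, hσ, hσ, puni_mul]; simp) (hτ c),
      commutatorElement_mul_left_eq_conj_mul, hrr (hσ a) a' c, mul_inv_cancel_right]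
    exact hrow (hg _ _) (hg _ _)
  have gadd' : ∀ a c c', ⁅σ a, τ (c + c')⁆ = ⁅σ a, τ c⁆ * ⁅σ a, τ c'⁆ := by
    intro a c c'
    rw [← gs (b := 0) (y := τ c * τ c') (hσ a) (by rw [map_mul, hτ, hτ, puni_mul]; simp),
      commutatorElement_mul_right_eq_mul_conj, mul_assoc ⁅σ a, τ c⁆ (τ c), hcr (hτ c) a c',
      ← mul_assoc, mul_inv_cancel_right]
  let Φ : Multiplicative (F × F) →* G := MonoidHom.mk'
    (fun v => ⁅σ v.toAdd.1, τ 1⁆ * ⁅σ v.toAdd.2, τ w⁆) (by
      intro v v'
      simp only [toAdd_mul, Prod.fst_add, Prod.snd_add, gadd]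
      exact (Commute.mul_mul_mul_comm (hrow (hg _ _) (hg _ _)) _ _))
  have hΦg : ∀ a c, ⁅σ a, τ c⁆ ∈ Φ.range := by
    intro a c
    have m1 : ⁅σ a, τ 1⁆ ∈ Φ.range := ⟨Multiplicative.ofAdd (a, 0), by
      show ⁅σ a, τ 1⁆ * ⁅σ 0, τ w⁆ = _
      have := gadd 0 0 w
      rw [add_zero] at this
      rw [show ⁅σ 0, τ w⁆ = 1 from left_eq_mul.1 this, mul_one]⟩
    have m2 : ⁅σ a, τ w⁆ ∈ Φ.range := ⟨Multiplicative.ofAdd (0, a), by
      show ⁅σ 0, τ 1⁆ * ⁅σ a, τ w⁆ = _
      have := gadd 0 0 (1 : F)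
      rw [add_zero] at this
      rw [show ⁅σ 0, τ 1⁆ = 1 from left_eq_mul.1 this, one_mul]⟩
    rcases cases_four hF hw c with rfl | rfl | h | h
    · have := gadd' a 0 0
      rw [add_zero] at this
      rw [left_eq_mul.1 this]
      exact one_mem _
    · exact m1
    · subst c; exact m2
    · subst c
      rw [show w * w = w + 1 by linear_combination hw - (w + 1) * htwo, gadd']
      exact mul_mem m2 m1
  have hdec : ∀ g ∈ (P : Subgroup G), ∃ (a b c : F) (x y : G),
      g = x * y ∧ π x = puni a b 0 ∧ π y = puni 0 0 c ∧ x ∈ (P : Subgroup G) := by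
    intro g hg'
    rw [hPcoe] at hg'
    obtain ⟨_, ⟨⟨a, b, c⟩, rfl⟩, hv⟩ := hg'
    obtain ⟨x, hx⟩ := hs (puni a (b - a * c) 0)
    refine ⟨a, b - a * c, c, x, x⁻¹ * g, (mul_inv_cancel_left x g).symm, hx, ?_, ?_⟩
    · rw [map_mul, map_inv, inv_mul_eq_iff_eq_mul, hx, puni_mul]
      simpa [puni] using hv.symm
    · rw [hPcoe, Subgroup.mem_comap, hx]
      exact ⟨uni a (b - a * c) 0, ⟨(a, b - a * c, 0), rfl⟩, rfl⟩
  have hΦc : ∀ g ∈ (P : Subgroup G), ∀ d ∈ Φ.range, g * d * g⁻¹ = d := by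
    intro g hg' d hd
    obtain ⟨a, b, c, x, y, rfl, hx, hy, -⟩ := hdec g hg'
    obtain ⟨u, rfl⟩ := hd
    have e1 : ∀ a' c', Commute (x * y) ⁅σ a', τ c'⁆ := fun a' c' =>
      Commute.mul_left (hrr hx a' c') (hcr hy a' c')
    have e2 : Commute (x * y) (Φ u) := (e1 _ _).mul_right (e1 _ _)
    rw [e2.eq, mul_inv_cancel_right]
  have hcomm : ⁅(P : Subgroup G), (P : Subgroup G)⁆ ≤ Φ.range := by
    refine Subgroup.commutator_le.2 fun g hg' g' hg'' => ?_
    obtain ⟨a, b, c, x, y, rfl, hx, hy, hxP⟩ := hdec g hg'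
    obtain ⟨a', b', c', x', y', rfl, hx', hy', hx'P⟩ := hdec g' hg''
    have exy' : ⁅x, y'⁆ ∈ Φ.range := by
      rw [gs hx hy']
      exact hΦg _ _
    have eyx' : ⁅y, x'⁆ ∈ Φ.range := by
      rw [← commutatorElement_inv, gs hx' hy]
      exact inv_mem (hΦg _ _)
    rw [commutatorElement_mul_left_eq_conj_mul, commutatorElement_mul_right_eq_mul_conj,
      commutatorElement_mul_right_eq_mul_conj, commutatorElement_eq_one_iff_mul_comm.2 (hrow hx hx'),
      commutatorElement_eq_one_iff_mul_comm.2 (hcol hy hy'), one_mul, mul_one, mul_inv_cancel_right,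
      hΦc x hxP _ eyx', hΦc x' hx'P _ exy']
    exact mul_mem eyx' exy'
  have hker : ∀ z ∈ π.ker, ∃ a : F, Φ (Multiplicative.ofAdd (a * w, a)) = z := by
    intro z hz
    have hzP : z ∈ (P : Subgroup G) := by
      rw [hPcoe, Subgroup.mem_comap, MonoidHom.mem_ker.1 hz]
      exact one_mem _
    have h1 := H97.mem_commutator_sylow P (hc hz) (by rw [hperf]; trivial) hzP
    have h2' : z ∈ ⁅(P : Subgroup G), (P : Subgroup G)⁆ := by
      rw [← Subgroup.map_subtype_commutator]
      exact ⟨_, h1, rfl⟩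
    obtain ⟨u, rfl⟩ := hcomm h2'
    rw [MonoidHom.mem_ker] at hz
    change π (⁅σ u.toAdd.1, τ 1⁆ * ⁅σ u.toAdd.2, τ w⁆) = 1 at hz
    simp only [map_mul, hg, puni_mul, add_zero, zero_mul, mul_one] at hz
    refine ⟨u.toAdd.2, congrArg Φ ?_⟩
    apply Multiplicative.toAdd.injective
    refine Prod.ext ?_ rfl
    simp only [toAdd_ofAdd]
    linear_combination eq_zero_of_puni_eq_one hz - u.toAdd.1 * htwo
  let S : Set G := Set.range fun a : F => Φ (Multiplicative.ofAdd (a * w, a))
  calc Nat.card π.ker ≤ Nat.card S :=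
        Nat.card_mono S.toFinite (fun z hz => hker z hz)
    _ ≤ Nat.card F := Finite.card_range_le _
    _ = 4 := by rw [Nat.card_eq_fintype_card, hF]

end H76.L34
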