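import Cfsg.Agent.H76.ExcFinite

/-!
Canonical lifts of root elements over the field with two elements.
-/

set_option autoImplicit false
set_option linter.unusedSectionVars false

namespace H76.Exc

open Cfsg.Lie Subgroup
open scoped commutatorElement

variable {D : ChevalleyDatum} (C : H54.Ctx D) {F : Type*} [Field F] [Fintype F]
  {Γ : Type*} [Group Γ] {π : Γ →* ↥(D.group F)} (hs : Function.Surjective π)
  (hc : π.ker ≤ center Γ) (h2 : Fintype.card F = 2)

include C in
theorem oneTerm_chainEntry {N k a b : ℕ} (h : oneTerm D N k a b = true) :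
    D.chainEntry a b ≠ [] := by
  obtain ⟨-, -, -, -, c, -, -, hc⟩ := oneTerm_spec C h
  intro he
  have hm : (k, c, 1, 1) ∈ D.commTerms a b := by rw [hc]; simp
  simp only [ChevalleyDatum.commTerms, List.mem_filterMap, List.mem_cons, List.not_mem_nil,
    or_false] at hm
  obtain ⟨x, hx, hk⟩ := hm
  obtain ⟨k', hk1, hk2⟩ := Option.map_eq_some_iff.1 hk
  rcases hx with rfl | rfl | rfl | rfl | rfl | rfl | rfl <;>
    simp [ChevalleyDatum.chainRoot, he] at hk1 hk2 ⊢

include h2

theorem eq_one_of_ne_zero {t : F} (ht : t ≠ 0) : t = 1 := by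
  have := FiniteField.pow_card_sub_one_eq_one t ht
  rwa [h2, show 2 - 1 = 1 from rfl, pow_one] at this

theorem neg_one_eq : (-1 : F) = 1 := eq_one_of_ne_zero h2 (by simp)

theorem units_eq_one (c : Fˣ) : c = 1 := Units.ext (eq_one_of_ne_zero h2 c.ne_zero)

include hs hc

omit hc h2 in
/-- The lift given by a pair of summands. -/
noncomputable def pairLift (a b : ℕ) : Γ :=
  ⁅Function.surjInv hs (xg C b (1 : F)), Function.surjInv hs (xg C a (1 : F))⁆

omit hc in
theorem pairLift_proj {k a b : ℕ} (h : oneTerm D 1 k a b = true) :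
    π (pairLift C hs a b) = xg C k 1 := by
  obtain ⟨ha, hb, h3, h4, c, hc1, hc2, hc'⟩ := oneTerm_spec C h
  have e := oneTerm_comm C ha hb h3 h4 hc' (1 : F) 1
  rw [neg_one_eq h2, mul_one, mul_one] at e
  rw [pairLift, map_commutatorElement, Function.surjInv_eq hs, Function.surjInv_eq hs, e,
    eq_one_of_ne_zero h2 (cast_ne_zero_of_natAbs C (N := 1) (fun n h h' => by
      obtain rfl : n = 1 := by omega
      simp) hc1 hc2)]

theorem pairLift_conj (i : Fin D.rank) {a b : ℕ} (ha : a < D.nroots) (hb : b < D.nroots) (g : Γ)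
    (hg : π g = ng C i) : g * pairLift C hs a b * g⁻¹ =
      pairLift C hs (D.reflectRoot i.val a) (D.reflectRoot i.val b) := by
  have hr : ∀ r, r < D.nroots → ng C i * xg C r (1 : F) * (ng C i)⁻¹ =
      xg C (D.reflectRoot i.val r) 1 := fun r hr => by
    rw [ng_conj C i hr, mul_one, eq_one_of_ne_zero h2 (eps_ne_zero C _ _)]
  rw [pairLift, pairLift, conjugate_commutatorElement]
  refine Cover.comm_congr π hc ?_ ?_
  · rw [map_mul, map_mul, map_inv, hg, Function.surjInv_eq hs, Function.surjInv_eq hs, hr b hb]
  · rw [map_mul, map_mul, map_inv, hg, Function.surjInv_eq hs, Function.surjInv_eq hs, hr a ha]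

section

variable (hp : pairTwoOK D = true)
include hp

theorem commLift_two : ∀ r < D.nroots, ∀ s < D.nroots, commOK D r s = true → CommLift C π r s := by
  refine root_top_rec C (fun r => ∀ s < D.nroots, commOK D r s = true → CommLift C π r s) ?_ ?_
  · intro r hr htop s hs' hcm
    simp only [pairTwoOK, List.all_eq_true, List.mem_range, Bool.or_eq_true, Bool.not_eq_true',
      beq_iff_eq, Bool.and_eq_true, List.any_eq_true] at hp
    rcases (hp r hr).resolve_left (by simp [htop]) s hs' with (h | h) | ⟨k, -, -, h⟩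
    · simp only [commOK, Bool.or_eq_true, beq_iff_eq, Bool.and_eq_true, bne_iff_ne] at hcm
      rcases hcm with e | e
      · exact absurd (h.symm.trans e) (C.hC.neg_ne hr)
      · exact absurd h e.1
    · exact commLift_of_decomp hs hc (fun n h1 h1' => by
        obtain rfl : n = 1 := by omega
        simp) hr h.2
    · obtain ⟨-, -, h3, -, c, -, -, hc'⟩ := oneTerm_spec C h
      simp [commOK, hc', h3] at hcm
  · intro i r hr ih s hs' hcm
    exact commLift_of_reflect hs hc i hr hs'
      (ih _ (C.hC.reflect_lt i.isLt hs') (commOK_reflect C i hr hs' hcm))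

omit hs hc h2 hp in
/-- Every pair starting in a top root commutes or has a single term. -/
def pairShapeOK (D : ChevalleyDatum) : Bool :=
  (List.range D.nroots).all fun r => !topRoot D r ||
    (List.range D.nroots).all fun s => (s == D.neg r) || commOK D r s ||
      (List.range D.nroots).any fun k => (D.chainRoot r s 1 == some k) && oneTerm D 1 k r s

omit hs hc h2 in
theorem pairShape_of_pairTwo : pairShapeOK D = true := by
  simp only [pairTwoOK, pairShapeOK, List.all_eq_true, List.mem_range, Bool.or_eq_true,
    Bool.and_eq_true] at hp ⊢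
  intro r hr
  refine (hp r hr).imp id fun h s hs => ?_
  rcases h s hs with (h' | h') | h'
  exacts [Or.inl (Or.inl h'), Or.inl (Or.inr h'.1), Or.inr h']

end

/-! In the rest the commuting of lifts of commuting root elements is a hypothesis. -/

variable (hp : pairShapeOK D = true)
  (hcl : ∀ r < D.nroots, ∀ s < D.nroots, commOK D r s = true → CommLift C π r s)
include hp hcl

variable (hj : joinOK D = true)
include hj

theorem pairLift_indep : ∀ k < D.nroots, ∀ a b a' b', oneTerm D 1 k a b = true →
    oneTerm D 1 k a' b' = true → pairLift C hs a b = pairLift C hs a' b' := by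
  refine root_top_rec C (fun k => ∀ a b a' b', oneTerm D 1 k a b = true →
    oneTerm D 1 k a' b' = true → pairLift C hs a b = pairLift C hs a' b') ?_ ?_
  · intro r hr htop
    simp only [joinOK, List.all_eq_true, List.mem_range, Bool.or_eq_true, Bool.not_eq_true',
      List.any_eq_true] at hj
    obtain ⟨a₀, -, h⟩ := (hj r hr).resolve_left (by simp [htop])
    split at h
    · exact absurd h Bool.false_ne_true
    rename_i b₀ _
    simp only [List.all_eq_true, List.mem_range] at h
    suffices ∀ a b, oneTerm D 1 r a b = true → pairLift C hs a b = pairLift C hs a₀ b₀ from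
      fun a b a' b' e e' => (this a b e).trans (this a' b' e').symm
    intro a
    induction a using Nat.strong_induction_on with
    | _ a ih =>
    intro b hab
    obtain ⟨ha, hb, -⟩ := oneTerm_spec C hab
    have hrow : ∃ e ∈ H52.rowList D a, e.1 = b := by
      have hne := oneTerm_chainEntry C hab
      rw [H52.chainEntry_eq_rowGet] at hne
      exact ⟨_, H52.rowGet_mem _ _ hne, rfl⟩
    obtain ⟨e, he, heb⟩ := hrow
    have h' := h a ha
    split at h'
    · rename_i ha0
      simp only [beq_iff_eq] at ha0
      simp only [List.all_eq_true, Bool.or_eq_true, Bool.not_eq_true', beq_iff_eq] at h'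
      have := (h' e he).resolve_left (by simp [heb, hab])
      rw [ha0, ← heb, this]
    · simp only [Bool.or_eq_true, List.any_eq_true, List.all_eq_true, Bool.not_eq_true',
        Bool.and_eq_true, List.mem_range, beq_iff_eq] at h'
      rcases h' with ⟨j, hj', ⟨⟨hfix, hlt⟩, hc1⟩, hc2⟩ | h'
      swap
      · exact absurd hab (by simp [← heb, h' e he])
      simp only [Nat.blt_eq] at hlt
      obtain ⟨g, hg⟩ := hs (ng C (⟨j, hj'⟩ : Fin D.rank))
      have hlt' := ih _ hlt (D.reflectRoot j b) (by
        have := oneTerm_reflect C ⟨j, hj'⟩ hab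
        rwa [hfix] at this)
      rw [← pairLift_conj C hs hc h2 ⟨j, hj'⟩ ha hb g hg] at hlt'
      have hcg : Commute g (pairLift C hs a b) := by
        have hp' := C.hC.simple_lt hj'
        have hn' := C.hC.neg_lt hp'
        obtain ⟨u, hu⟩ := hs (xg C (D.simple j) (1 : F))
        obtain ⟨v, hv⟩ := hs (xg C (D.neg (D.simple j)) (-1 : F))
        have hπ := pairLift_proj C hs h2 hab
        have c1 := (hcl r hr _ hp' hc1 _ _ _ _ hπ hu).symm
        have c2 := (hcl r hr _ hn' hc2 _ _ _ _ hπ hv).symm
        have hz : (u * v * u)⁻¹ * g ∈ center Γ := hc (by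
          rw [MonoidHom.mem_ker, map_mul, map_inv, map_mul, map_mul, hu, hv, hg, ng_eq,
            inv_mul_cancel])
        have := ((c1.mul_left c2).mul_left c1).mul_left
          (show Commute ((u * v * u)⁻¹ * g) (pairLift C hs a b) from
            (mem_center_iff.1 hz _).symm)
        rwa [mul_inv_cancel_left] at this
      rwa [hcg.eq, mul_inv_cancel_right] at hlt'
  · intro i r hr ih a b a' b' e e'
    obtain ⟨g, hg⟩ := hs (ng C i)
    have h := ih _ _ _ _ (oneTerm_reflect C i e) (oneTerm_reflect C i e')
    obtain ⟨ha, hb, -⟩ := oneTerm_spec C e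
    obtain ⟨ha', hb', -⟩ := oneTerm_spec C e'
    rw [← pairLift_conj C hs hc h2 i ha hb g hg, ← pairLift_conj C hs hc h2 i ha' hb' g hg] at h
    exact mul_left_cancel (mul_right_cancel h)

omit hc h2 hp hcl hj in
open Classical in
/-- The lifted root element. -/
noncomputable def twoX (r : ℕ) (t : F) : Γ :=
  if h : t ≠ 0 ∧ ∃ a b, oneTerm D 1 r a b = true then
    pairLift C hs h.2.choose h.2.choose_spec.choose else 1

omit hc h2 hp hcl hj in
theorem twoX_zero (r : ℕ) : twoX C hs r (0 : F) = 1 := by simp [twoX]

theorem twoX_eq {r a b : ℕ} (hr : r < D.nroots) (h : oneTerm D 1 r a b = true) {t : F}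
    (ht : t ≠ 0) : twoX C hs r t = pairLift C hs a b := by
  have he : t ≠ 0 ∧ ∃ a b, oneTerm D 1 r a b = true := ⟨ht, a, b, h⟩
  rw [twoX, dif_pos he]
  exact pairLift_indep C hs hc h2 hp hcl hj r hr _ _ _ _ he.2.choose_spec.choose_spec h

variable (hsp : splitOK D = true)
include hsp

omit hs hc h2 hp hcl hj in
theorem exists_split {r : ℕ} (hr : r < D.nroots) : ∃ a b, oneTerm D 1 r a b = true ∧
    commOK D r b = true := by
  simp only [splitOK, List.all_eq_true, List.mem_range, List.any_eq_true] at hsp
  obtain ⟨a, -, h⟩ := hsp r hr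
  split at h
  · exact absurd h Bool.false_ne_true
  · rename_i b _
    simp only [Bool.and_eq_true] at h
    exact ⟨a, b, h.1.1, h.2⟩

theorem twoX_proj {r : ℕ} (hr : r < D.nroots) (t : F) : π (twoX C hs r t) = xg C r t := by
  by_cases ht : t = 0
  · subst ht; rw [twoX_zero, map_one, xg_zero]
  · obtain ⟨a, b, h, -⟩ := exists_split hsp hr
    rw [twoX_eq C hs hc h2 hp hcl hj hr h ht, pairLift_proj C hs h2 h, eq_one_of_ne_zero h2 ht]

theorem twoX_add {r : ℕ} (hr : r < D.nroots) (t u : F) :
    twoX C hs r t * twoX C hs r u = twoX C hs r (t + u) := by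
  by_cases ht : t = 0
  · subst ht; rw [twoX_zero, one_mul, zero_add]
  by_cases hu : u = 0
  · subst hu; rw [twoX_zero, mul_one, add_zero]
  obtain rfl := eq_one_of_ne_zero h2 ht
  obtain rfl := eq_one_of_ne_zero h2 hu
  have h11 : (1 : F) + 1 = 0 := by
    nth_rewrite 1 [← neg_one_eq h2]
    exact neg_add_cancel 1
  obtain ⟨a, b, h, hb⟩ := exists_split hsp hr
  obtain ⟨-, hbn, -⟩ := oneTerm_spec C h
  rw [h11, twoX_zero, twoX_eq C hs hc h2 hp hcl hj hr h ht, pairLift]
  set B := Function.surjInv hs (xg C b (1 : F))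
  set A := Function.surjInv hs (xg C a (1 : F))
  have hcm : Commute B ⁅B, A⁆ := by
    refine (hcl r hr b hbn hb _ _ (1 : F) 1 ?_ (Function.surjInv_eq hs _)).symm
    exact pairLift_proj C hs h2 h
  have e : ⁅B * B, A⁆ = ⁅B, A⁆ * ⁅B, A⁆ := by
    rw [commutatorElement_mul_left_eq_conj_mul, hcm.eq, mul_inv_cancel_right]
  rw [← e, Cover.comm_congr π hc (x' := 1) (y' := A) (by
    rw [map_mul, map_one, Function.surjInv_eq hs, xg_add, h11, xg_zero]) rfl,
    commutatorElement_one_left]

theorem twoX_conj_n (i : Fin D.rank) {r : ℕ} (hr : r < D.nroots) (g : Γ) (hg : π g = ng C i)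
    (t : F) : g * twoX C hs r t * g⁻¹ =
      twoX C hs (D.reflectRoot i.val r) ((C.T.eps i.val r : F) * t) := by
  by_cases ht : t = 0
  · subst ht; rw [mul_zero, twoX_zero, twoX_zero, mul_one, mul_inv_cancel]
  obtain ⟨a, b, h, -⟩ := exists_split hsp hr
  obtain ⟨ha, hb, -⟩ := oneTerm_spec C h
  rw [twoX_eq C hs hc h2 hp hcl hj hr h ht,
    twoX_eq C hs hc h2 hp hcl hj (C.hC.reflect_lt i.isLt hr) (oneTerm_reflect C i h)
      (mul_ne_zero (eps_ne_zero C _ _) ht), pairLift_conj C hs hc h2 i ha hb g hg]

/-- The lifts over two elements. -/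
noncomputable def twoLiftsGen : Lifts C π where
  X := twoX C hs
  proj r hr t := twoX_proj C hs hc h2 hp hcl hj hsp hr t
  add r hr t u := twoX_add C hs hc h2 hp hcl hj hsp hr t u
  conj_n i r hr g hg t := twoX_conj_n C hs hc h2 hp hcl hj hsp i hr g hg t
  conj_h c r hr g hg t := by
    have hc1 : c = 1 := funext fun i => units_eq_one h2 (c i)
    have hgc : g ∈ center Γ := hc (by rw [MonoidHom.mem_ker, hg, hc1, map_one])
    rw [units_eq_one h2 (chi D c r), Units.val_one, one_mul, ← mem_center_iff.1 hgc,
      mul_inv_cancel_right]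
  good := by
    refine root_top_rec C (fun r => ∀ s < D.nroots, s ≠ r → s ≠ D.neg r →
      Good D (twoX C hs) r s) ?_ ?_
    · intro r hr htop s hs' hne hne' t u
      by_cases ht : t = 0
      · subst ht
        rw [neg_zero, twoX_zero, one_mul, mul_one]
        exact subset_closure ⟨s, by simp [tgt], u, rfl⟩
      by_cases hu : u = 0
      · subst hu
        rw [twoX_zero, mul_one, twoX_add C hs hc h2 hp hcl hj hsp hr, neg_add_cancel, twoX_zero]
        exact one_mem _
      obtain rfl := eq_one_of_ne_zero h2 ht
      obtain rfl := eq_one_of_ne_zero h2 hu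
      rw [neg_one_eq h2]
      simp only [pairShapeOK, List.all_eq_true, List.mem_range, Bool.or_eq_true, Bool.not_eq_true',
        beq_iff_eq, Bool.and_eq_true, List.any_eq_true] at hp
      have hproj := fun m (hm : m < D.nroots) => twoX_proj C hs hc h2 (by
        simp only [pairShapeOK, List.all_eq_true, List.mem_range, Bool.or_eq_true,
          Bool.not_eq_true', beq_iff_eq, Bool.and_eq_true, List.any_eq_true]; exact hp) hcl hj hsp hm
          (1 : F)
      rcases (hp r hr).resolve_left (by simp [htop]) s hs' with (h | h) | ⟨k, hk, -, h⟩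
      · exact absurd h hne'
      · have hd := hcl r hr s hs' h _ _ _ _ (hproj r hr) (hproj s hs')
        have hadd := twoX_add C hs hc h2 (by
          simp only [pairShapeOK, List.all_eq_true, List.mem_range, Bool.or_eq_true,
            Bool.not_eq_true', beq_iff_eq, Bool.and_eq_true, List.any_eq_true]; exact hp) hcl hj hsp hr
            (1 : F) 1
        rw [hd.eq, mul_assoc, hadd, show (1 : F) + 1 = 0 by
          nth_rewrite 1 [← neg_one_eq h2]; exact neg_add_cancel 1, twoX_zero, mul_one]
        exact subset_closure ⟨s, by simp [tgt], 1, rfl⟩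
      · have hp' : pairShapeOK D = true := by
          simp only [pairShapeOK, List.all_eq_true, List.mem_range, Bool.or_eq_true,
            Bool.not_eq_true', beq_iff_eq, Bool.and_eq_true, List.any_eq_true]; exact hp
        have hinv : ∀ m, m < D.nroots → (twoX C hs m (1 : F))⁻¹ = twoX C hs m 1 := fun m hm => by
          refine inv_eq_of_mul_eq_one_right ?_
          rw [twoX_add C hs hc h2 hp' hcl hj hsp hm, show (1 : F) + 1 = 0 by
            nth_rewrite 1 [← neg_one_eq h2]; exact neg_add_cancel 1, twoX_zero]
        have e : twoX C hs r (1 : F) * twoX C hs s 1 * twoX C hs r 1 =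
            twoX C hs s 1 * ⁅twoX C hs s (1 : F), twoX C hs r 1⁆ := by
          rw [commutatorElement_def, hinv s hs', hinv r hr]
          have hss : twoX C hs s (1 : F) * twoX C hs s 1 = 1 := by
            nth_rewrite 1 [← hinv s hs']; exact inv_mul_cancel _
          simp only [← mul_assoc, hss, one_mul]
        obtain ⟨-, -, -, -, c, -, -, hc'⟩ := oneTerm_spec C h
        have ef : ⁅twoX C hs s (1 : F), twoX C hs r 1⁆ = twoX C hs k 1 := by
          rw [twoX_eq C hs hc h2 hp' hcl hj hk h one_ne_zero, pairLift]
          exact Cover.comm_congr π hc (by rw [hproj s hs', Function.surjInv_eq hs])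
            (by rw [hproj r hr, Function.surjInv_eq hs])
        rw [e, ef]
        exact mul_mem (subset_closure ⟨s, by simp [tgt], 1, rfl⟩)
          (subset_closure ⟨k, by simp [tgt, hc'], 1, rfl⟩)
    · intro i r hr ih s hs' h1 h3
      exact good_of_reflect hs hc (twoX C hs)
        (fun i r hr g hg t => twoX_conj_n C hs hc h2 hp hcl hj hsp i hr g hg t) i hr hs'
        (ih _ (C.hC.reflect_lt i.isLt hs') (ne_reflect C i hr hs' h1)
          (ne_neg_reflect C i hr hs' h3))

section
omit hp hcl hj hsp
variable (hp₂ : pairTwoOK D = true) (hj : joinOK D = true) (hsp : splitOK D = true)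

/-- The lifts over two elements when every commuting pair has a decomposition. -/
noncomputable def twoLifts : Lifts C π :=
  twoLiftsGen C hs hc h2 (pairShape_of_pairTwo hp₂) (commLift_two C hs hc h2 hp₂) hj hsp

end

end H76.Exc
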