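import Cfsg.Agent.H76.D4TwoCover
import Cfsg.Agent.H76.ExcTwo

/-!
The multiplier of the group of type D₄ over two elements is a four-group: every central extension
is controlled by the commutators of lifts of three kinds of orthogonal root elements.
-/

set_option autoImplicit false
set_option linter.unusedSectionVars false
set_option maxRecDepth 100000

namespace H76.Exc

open Cfsg.Lie Subgroup
open scoped commutatorElement

universe u

variable {F : Type u} [Field F] [Fintype F] (h2 : Fintype.card F = 2)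
  {Γ : Type u} [Group Γ] {π : Γ →* ↥(chevD4.group F)} (hs : Function.Surjective π)
  (hc : π.ker ≤ center Γ)

omit [Fintype F] in
/-- The commutator of lifts of two root elements. -/
noncomputable def rootComm (r s : ℕ) : Γ :=
  ⁅Function.surjInv hs (xg ctxD4 r (1 : F)), Function.surjInv hs (xg ctxD4 s (1 : F))⁆

/-- Pairs that are all handled by the decompositions or lie in one of three kinds. -/
def pairKindsOK : Bool :=
  (List.range 24).all fun r => !topRoot chevD4 r || (r == 23 &&
    (List.range 24).all fun s => !commOK chevD4 23 s || (s == 23) || decompOK chevD4 1 23 s ||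
      (s == 5) || (s == 18) || (s == 11) || (s == 12) || (s == 10) || (s == 13))

theorem pairKinds : pairKindsOK = true := by decide +kernel

theorem pairShapeD4 : pairShapeOK chevD4 = true := by decide +kernel
theorem joinD4 : joinOK chevD4 = true := by decide +kernel
theorem splitD4 : splitOK chevD4 = true := by decide +kernel

/-- Facts on a few roots of D₄. -/
theorem d4Facts :
    chevD4.reflectRoot 0 5 = 18 ∧ chevD4.reflectRoot 3 11 = 12 ∧ chevD4.reflectRoot 2 10 = 13 ∧
    chevD4.reflectRoot 0 23 = 23 ∧ chevD4.reflectRoot 3 23 = 23 ∧ chevD4.reflectRoot 2 23 = 23 ∧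
    oneTerm chevD4 1 23 14 22 = true ∧ decompOK chevD4 1 23 22 = true ∧
    commOK chevD4 23 22 = true ∧
    commOK chevD4 23 5 = true ∧ commOK chevD4 23 11 = true ∧ commOK chevD4 23 10 = true ∧
    commOK chevD4 10 11 = true ∧ commOK chevD4 5 23 = true ∧ commOK chevD4 5 10 = true ∧
    commOK chevD4 5 11 = true ∧ wordRun chevD4 5 [1, 3, 2, 1, 0] = 23 ∧
    wordRun chevD4 10 [1, 3, 2, 1, 0] = 11 ∧ wordRun chevD4 11 [1, 3, 2, 1, 0] = 10 := by
  decide +kernel

include hs hc

theorem rootComm_mem_center {r s : ℕ} (hr : r < 24) (hs' : s < 24) (h : commOK chevD4 r s = true) :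
    rootComm hs r s ∈ center Γ := hc (by
  rw [MonoidHom.mem_ker, rootComm, map_commutatorElement, Function.surjInv_eq hs,
    Function.surjInv_eq hs, commutatorElement_eq_one_iff_commute]
  exact commOK_spec ctxD4 hr hs' h 1 1)

theorem rootComm_eq {r s : ℕ} {a b : Γ} (ha : π a = xg ctxD4 r 1) (hb : π b = xg ctxD4 s 1) :
    ⁅a, b⁆ = rootComm hs r s :=
  Cover.comm_congr π hc (ha.trans (Function.surjInv_eq hs _).symm)
    (hb.trans (Function.surjInv_eq hs _).symm)

include h2

theorem rootComm_reflect (i : Fin chevD4.rank) {r s : ℕ} (hr : r < 24) (hs' : s < 24)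
    (h : commOK chevD4 r s = true) :
    rootComm hs (chevD4.reflectRoot i.val r) (chevD4.reflectRoot i.val s) = rootComm hs r s := by
  obtain ⟨g, hg⟩ := hs (ng ctxD4 i)
  have e : ∀ q, q < 24 → π (g * Function.surjInv hs (xg ctxD4 q (1 : F)) * g⁻¹) =
      xg ctxD4 (chevD4.reflectRoot i.val q) 1 := by
    intro q hq
    rw [map_mul, map_mul, map_inv, hg, Function.surjInv_eq hs,
      ng_conj ctxD4 i (show q < chevD4.nroots from hq), mul_one,
      eq_one_of_ne_zero h2 (eps_ne_zero ctxD4 _ _)]
  rw [← rootComm_eq hs hc (e r hr) (e s hs'), ← conjugate_commutatorElement]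
  show g * rootComm hs r s * g⁻¹ = _
  rw [mem_center_iff.1 (rootComm_mem_center hs hc hr hs' h) g, mul_inv_cancel_right]

theorem rootComm_word : ∀ (w : List ℕ), (∀ i ∈ w, i < 4) → ∀ {r s : ℕ}, r < 24 → s < 24 →
    commOK chevD4 r s = true →
    rootComm hs (wordRun chevD4 r w) (wordRun chevD4 s w) = rootComm hs r s ∧
      wordRun chevD4 r w < 24 ∧ wordRun chevD4 s w < 24 ∧
      commOK chevD4 (wordRun chevD4 r w) (wordRun chevD4 s w) = true := by
  intro w
  induction w with
  | nil => intro _ r s hr hs' h; exact ⟨rfl, hr, hs', h⟩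
  | cons i w ih =>
    intro hw r s hr hs' h
    obtain ⟨h1, h3, h4, h5⟩ := ih (fun j hj => hw j (List.mem_cons_of_mem _ hj)) hr hs' h
    have hi : i < chevD4.rank := hw i List.mem_cons_self
    refine ⟨?_, ctxD4.hC.reflect_lt (D := chevD4) hi h3, ctxD4.hC.reflect_lt (D := chevD4) hi h4,
      commOK_reflect ctxD4 ⟨i, hi⟩ h3 h4 h5⟩
    rw [← h1]
    exact rootComm_reflect h2 hs hc ⟨i, hi⟩ h3 h4 h5

omit h2 in
theorem rootComm_sq [Fintype F] (h2 : Fintype.card F = 2) {r s : ℕ} (hr : r < 24) (hs' : s < 24)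
    (h : commOK chevD4 r s = true) : rootComm hs r s * rootComm hs r s = 1 := by
  set a := Function.surjInv hs (xg ctxD4 r (1 : F))
  set b := Function.surjInv hs (xg ctxD4 s (1 : F))
  have hz : ⁅a, b⁆ ∈ center Γ := rootComm_mem_center hs hc hr hs' h
  have e : ⁅a * a, b⁆ = rootComm hs r s * rootComm hs r s := by
    rw [commutatorElement_mul_left_eq_conj_mul, mem_center_iff.1 hz a, mul_inv_cancel_right]
    rfl
  rw [← e, Cover.comm_congr π hc (x' := 1) (y' := b) ?_ rfl, commutatorElement_one_left]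
  rw [map_mul, map_one, Function.surjInv_eq hs, xg_add, show (1 : F) + 1 = 0 by
    nth_rewrite 1 [← neg_one_eq h2]; exact neg_add_cancel 1, xg_zero]

/-- The three commutator values. -/
noncomputable def kindGroup : Subgroup Γ :=
  closure {rootComm hs 23 5, rootComm hs 23 11, rootComm hs 23 10}

theorem kind_le_center : kindGroup hs ≤ center Γ := by
  obtain ⟨-, -, -, -, -, -, -, -, -, h5, h11, h10, -⟩ := d4Facts
  refine (closure_le _).2 ?_
  rintro _ (rfl | rfl | rfl)
  exacts [rootComm_mem_center hs hc (by norm_num) (by norm_num) h5,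
    rootComm_mem_center hs hc (by norm_num) (by norm_num) h11,
    rootComm_mem_center hs hc (by norm_num) (by norm_num) h10]

theorem rootComm_mem_kind : ∀ r < 24, ∀ s < 24, commOK chevD4 r s = true →
    rootComm hs r s ∈ kindGroup hs := by
  obtain ⟨r0, r3, r2, f0, f3, f2, -, -, -, h5, h11, h10, -⟩ := d4Facts
  refine root_top_rec ctxD4 (fun r => ∀ s < 24, commOK chevD4 r s = true →
    rootComm hs r s ∈ kindGroup hs) ?_ ?_
  · intro r hr htop s hs' hcm
    have h := pairKinds
    simp only [pairKindsOK, List.all_eq_true, List.mem_range, Bool.or_eq_true, Bool.not_eq_true',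
      Bool.and_eq_true, beq_iff_eq] at h
    obtain ⟨rfl, h⟩ := (h r hr).resolve_left (by simp [htop])
    have m5 : rootComm hs 23 5 ∈ kindGroup hs := subset_closure (by simp)
    have m11 : rootComm hs 23 11 ∈ kindGroup hs := subset_closure (by simp)
    have m10 : rootComm hs 23 10 ∈ kindGroup hs := subset_closure (by simp)
    have hN1 : ∀ n : ℕ, 1 ≤ n → n ≤ 1 → (n : F) ≠ 0 := by
      intro n h1 h1'
      obtain rfl : n = 1 := by omega
      simp
    rcases h s hs' with (((((((h | rfl) | h) | rfl) | rfl) | rfl) | rfl) | rfl) | rfl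
    · simp [hcm] at h
    · rw [rootComm, commutatorElement_self]; exact one_mem _
    · have := commLift_of_decomp (C := ctxD4) (π := π) hs hc hN1 hr h _ _ _ _
        (Function.surjInv_eq hs (xg ctxD4 23 (1 : F))) (Function.surjInv_eq hs (xg ctxD4 s (1 : F)))
      rw [rootComm, commutatorElement_eq_one_iff_commute.2 this]
      exact one_mem _
    · exact m5
    · have := rootComm_reflect h2 hs hc ⟨0, by decide⟩ (r := 23) (s := 5) (by norm_num) (by norm_num) h5
      rw [f0, r0] at this
      rwa [this]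
    · exact m11
    · have := rootComm_reflect h2 hs hc ⟨3, by decide⟩ (r := 23) (s := 11) (by norm_num) (by norm_num) h11
      rw [f3, r3] at this
      rwa [this]
    · exact m10
    · have := rootComm_reflect h2 hs hc ⟨2, by decide⟩ (r := 23) (s := 10) (by norm_num) (by norm_num) h10
      rw [f2, r2] at this
      rwa [this]
  · intro i r hr ih s hs' hcm
    rw [← rootComm_reflect h2 hs hc i hr hs' hcm]
    exact ih _ (ctxD4.hC.reflect_lt (D := chevD4) i.isLt hs') (commOK_reflect ctxD4 i hr hs' hcm)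

theorem kind_sq {z : Γ} (hz : z ∈ kindGroup hs) : z * z = 1 := by
  obtain ⟨-, -, -, -, -, -, -, -, -, h5, h11, h10, -⟩ := d4Facts
  induction hz using closure_induction with
  | mem x hx =>
    rcases hx with rfl | rfl | rfl
    exacts [rootComm_sq hs hc h2 (by norm_num) (by norm_num) h5,
      rootComm_sq hs hc h2 (by norm_num) (by norm_num) h11,
      rootComm_sq hs hc h2 (by norm_num) (by norm_num) h10]
  | one => rw [mul_one]
  | mul x y hx hy ihx ihy =>
    rw [show x * y * (x * y) = x * (y * x) * y by group,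
      mem_center_iff.1 (kind_le_center h2 hs hc hx) y, ← mul_assoc, ihx, one_mul, ihy]
  | inv x _ ih => rw [← mul_inv_rev, ih, inv_one]

/-- The kernel of a stem extension consists of commutator values. -/
theorem ker_le_kind (hstem : π.ker ≤ commutator Γ) : π.ker ≤ kindGroup hs := by
  classical
  have : (kindGroup hs).Normal := ⟨fun z hz g => by
    rw [mem_center_iff.1 (kind_le_center h2 hs hc hz) g, mul_inv_cancel_right]; exact hz⟩
  have hN : kindGroup hs ≤ π.ker := by
    obtain ⟨-, -, -, -, -, -, -, -, -, h5, h11, h10, -⟩ := d4Facts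
    refine (closure_le _).2 ?_
    rintro _ (rfl | rfl | rfl) <;>
    · show π (rootComm hs _ _) = 1
      rw [rootComm, map_commutatorElement, Function.surjInv_eq hs, Function.surjInv_eq hs,
        commutatorElement_eq_one_iff_commute]
      exact commOK_spec ctxD4 (by decide) (by decide) (by decide +kernel) 1 1
  let π' : Γ ⧸ kindGroup hs →* ↥(chevD4.group F) := QuotientGroup.lift _ π hN
  have hs' : Function.Surjective π' := fun x => by
    obtain ⟨y, rfl⟩ := hs x
    exact ⟨QuotientGroup.mk y, rfl⟩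
  have hc' : π'.ker ≤ center _ := by
    intro z hz
    obtain ⟨y, rfl⟩ := QuotientGroup.mk_surjective z
    refine mem_center_iff.2 fun g => ?_
    obtain ⟨x, rfl⟩ := QuotientGroup.mk_surjective g
    rw [← QuotientGroup.mk_mul, ← QuotientGroup.mk_mul, mem_center_iff.1 (hc (show π y = 1 from hz)) x]
  have hst : π'.ker ≤ commutator _ := by
    intro z hz
    obtain ⟨y, rfl⟩ := QuotientGroup.mk_surjective z
    have : QuotientGroup.mk' (kindGroup hs) y ∈ (commutator Γ).map (QuotientGroup.mk' (kindGroup hs)) :=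
      mem_map_of_mem _ (hstem (show π y = 1 from hz))
    rw [map_commutator_eq] at this
    exact commutator_mono le_top le_top this
  have hcl : ∀ r < chevD4.nroots, ∀ s < chevD4.nroots, commOK chevD4 r s = true →
      CommLift ctxD4 π' r s := by
    intro r hr s hsn h x y t v hx hy
    obtain ⟨a, rfl⟩ := QuotientGroup.mk_surjective x
    obtain ⟨b, rfl⟩ := QuotientGroup.mk_surjective y
    change π a = _ at hx
    change π b = _ at hy
    have key : ⁅a, b⁆ ∈ kindGroup hs := by
      by_cases ht : t = 0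
      · subst ht
        rw [xg_zero] at hx
        rw [commutatorElement_eq_one_iff_commute.2 (mem_center_iff.1 (hc hx) b).symm]
        exact one_mem _
      by_cases hv : v = 0
      · subst hv
        rw [xg_zero] at hy
        rw [commutatorElement_eq_one_iff_commute.2 (mem_center_iff.1 (hc hy) a)]
        exact one_mem _
      obtain rfl := eq_one_of_ne_zero h2 ht
      obtain rfl := eq_one_of_ne_zero h2 hv
      rw [rootComm_eq hs hc hx hy]
      exact rootComm_mem_kind h2 hs hc r hr s hsn h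
    refine commutatorElement_eq_one_iff_commute.1 ?_
    exact ((map_commutatorElement (QuotientGroup.mk' (kindGroup hs)) a b).symm.trans
      ((QuotientGroup.eq_one_iff _).2 key) :)
  let L := twoLiftsGen ctxD4 hs' hc' h2 pairShapeD4 hcl joinD4 splitD4
  obtain ⟨f, hf⟩ := stem_ker (σ := π') ⟨hs', hc', hst⟩ L
  intro z hz
  rw [← QuotientGroup.eq_one_iff]
  have hz' : (QuotientGroup.mk z : Γ ⧸ kindGroup hs) ∈ π'.ker := hz
  obtain ⟨⟨c, hc1⟩, e⟩ := hf ⟨_, hz'⟩
  have : (⟨c, hc1⟩ : (tor ctxD4 (F := F)).ker) = 1 := Subtype.ext (funext fun i => units_eq_one h2 (c i))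
  rw [this, map_one] at e
  exact (congrArg Subtype.val e).symm

omit h2 in
theorem mul_sq_central {P Q : Γ} (h : ⁅Q, P⁆ ∈ center Γ) :
    (P * Q) * (P * Q) = P * P * (Q * Q) * ⁅Q, P⁆ := by
  have e : Q * P = ⁅Q, P⁆ * (P * Q) := by rw [commutatorElement_def]; group
  calc (P * Q) * (P * Q) = P * (Q * P) * Q := by group
    _ = P * (⁅Q, P⁆ * (P * Q)) * Q := by rw [e]
    _ = P * ((P * Q) * ⁅Q, P⁆) * Q := by rw [mem_center_iff.1 h (P * Q)]
    _ = P * P * (Q * (⁅Q, P⁆ * Q)) := by group
    _ = P * P * (Q * Q) * ⁅Q, P⁆ := by rw [← mem_center_iff.1 h Q]; group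

omit h2 in
theorem comm_mul_central {x a b : Γ} (h : ⁅x, b⁆ ∈ center Γ) :
    ⁅x, a * b⁆ = ⁅x, a⁆ * ⁅x, b⁆ := by
  rw [commutatorElement_mul_right_eq_mul_conj, mul_assoc ⁅x, a⁆, mem_center_iff.1 h a, ← mul_assoc,
    mul_inv_cancel_right]

/-- The relation among the three kinds. -/
theorem kind_rel (hstem : π.ker ≤ commutator Γ) :
    rootComm hs 23 10 = rootComm hs 23 5 * rootComm hs 23 11 := by
  obtain ⟨-, -, -, -, -, -, ht, hd, hc22, h5, h11, h10, h1011, h523, h510, h511, w5, w10, w11⟩ :=
    d4Facts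
  have hker := ker_le_kind h2 hs hc hstem
  have h11' : (1 : F) + 1 = 0 := by
    nth_rewrite 1 [← neg_one_eq h2]; exact neg_add_cancel 1
  have hx2 : ∀ r : ℕ, xg ctxD4 r (1 : F) * xg ctxD4 r 1 = 1 := fun r => by
    rw [xg_add, h11', xg_zero]
  -- squares of lifts are independent of the choice
  have hindep : ∀ {a b : Γ}, π a = π b → a * a = b * b := by
    intro a b e
    have hz : b⁻¹ * a ∈ π.ker := by rw [MonoidHom.mem_ker, map_mul, map_inv, e, inv_mul_cancel]
    conv_lhs => rw [← mul_inv_cancel_left b a]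
    rw [show b * (b⁻¹ * a) * (b * (b⁻¹ * a)) = b * ((b⁻¹ * a) * b) * (b⁻¹ * a) by group,
      ← mem_center_iff.1 (hc hz) b, ← mul_assoc b b (b⁻¹ * a), mul_assoc (b * b), kind_sq h2 hs hc (hker hz),
      mul_one]
  have hsqr : ∀ r, r < 24 → ∀ a : Γ, π a = xg ctxD4 r (1 : F) → a * a = 1 := by
    refine root_top_rec ctxD4 (fun r => ∀ a : Γ, π a = xg ctxD4 r (1 : F) → a * a = 1) ?_ ?_
    · intro r hr htop a ha
      have hk := pairKinds
      simp only [pairKindsOK, List.all_eq_true, List.mem_range, Bool.or_eq_true, Bool.not_eq_true',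
        Bool.and_eq_true, beq_iff_eq] at hk
      obtain ⟨rfl, -⟩ := (hk r hr).resolve_left (by simp [htop])
      have hp := pairLift_proj ctxD4 hs h2 ht
      rw [hindep (ha.trans hp.symm)]
      set B := Function.surjInv hs (xg ctxD4 22 (1 : F))
      set A := Function.surjInv hs (xg ctxD4 14 (1 : F))
      have hcm : Commute B ⁅B, A⁆ :=
        (commLift_of_decomp (C := ctxD4) (π := π) hs hc (N := 1) (fun n h1 h1' => by
          obtain rfl : n = 1 := by omega
          simp) (by decide) hd _ _ _ _ hp (Function.surjInv_eq hs (xg ctxD4 22 (1 : F)))).symm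
      show ⁅B, A⁆ * ⁅B, A⁆ = 1
      have e : ⁅B * B, A⁆ = ⁅B, A⁆ * ⁅B, A⁆ := by
        rw [commutatorElement_mul_left_eq_conj_mul, hcm.eq, mul_inv_cancel_right]
      rw [← e, Cover.comm_congr π hc (x' := 1) (y' := A) (by
        rw [map_mul, map_one, Function.surjInv_eq hs, hx2]) rfl, commutatorElement_one_left]
    · intro i r hr ih a ha
      obtain ⟨g, hg⟩ := hs (ng ctxD4 i)
      have h := ih (g * a * g⁻¹) (by
        rw [map_mul, map_mul, map_inv, hg, ha, ng_conj ctxD4 i hr, mul_one,
          eq_one_of_ne_zero h2 (eps_ne_zero ctxD4 _ _)])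
      rw [show g * a * g⁻¹ * (g * a * g⁻¹) = g * (a * a) * g⁻¹ by group, conj_eq_one_iff] at h
      exact h
  set a := Function.surjInv hs (xg ctxD4 23 (1 : F)) with ha
  set b := Function.surjInv hs (xg ctxD4 10 (1 : F)) with hb
  set c := Function.surjInv hs (xg ctxD4 11 (1 : F)) with hcd
  set d := Function.surjInv hs (xg ctxD4 5 (1 : F)) with hdd
  have πa := Function.surjInv_eq hs (xg ctxD4 23 (1 : F))
  have πb := Function.surjInv_eq hs (xg ctxD4 10 (1 : F))
  have πc := Function.surjInv_eq hs (xg ctxD4 11 (1 : F))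
  have πd := Function.surjInv_eq hs (xg ctxD4 5 (1 : F))
  rw [← ha] at πa; rw [← hb] at πb; rw [← hcd] at πc; rw [← hdd] at πd
  -- the identity in the group
  have hid : ∃ W : Γ, π (W * (a * b * c) * W⁻¹) = π (a * b * c * d) := by
    obtain ⟨W, hW⟩ := hs (([1, 2, 17, 3].map fun r => xg ctxD4 r (1 : F)).prod)
    refine ⟨W, ?_⟩
    have hchk := liftSign
    simp only [liftSignOK, Bool.and_eq_true] at hchk
    have e := word_eq_of_check (F := F) h2 (w := [1, 2, 17, 3, 23, 10, 11, 3, 17, 2, 1])
      (w' := [23, 10, 11, 5]) (by simp) (by simp) hchk.2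
    simp only [List.map_cons, List.map_nil, List.prod_cons, List.prod_nil, mul_one] at e hW
    simp only [map_mul, map_inv, πa, πb, πc, πd, hW]
    have hi : ∀ r : ℕ, (xg ctxD4 r (1 : F))⁻¹ = xg ctxD4 r 1 := fun r =>
      inv_eq_of_mul_eq_one_right (hx2 r)
    simp only [mul_inv_rev, hi, mul_assoc] at e ⊢
    exact e
  obtain ⟨W, hW⟩ := hid
  have hsq := hindep hW
  have z1011 := rootComm_mem_center hs hc (by norm_num) (by norm_num) h1011
  have z2310 := rootComm_mem_center hs hc (by norm_num) (by norm_num) h10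
  have z2311 := rootComm_mem_center hs hc (by norm_num) (by norm_num) h11
  have hba : ⁅b, a⁆ = (rootComm hs 23 10)⁻¹ := (commutatorElement_inv a b).symm
  have hca : ⁅c, a⁆ = (rootComm hs 23 11)⁻¹ := (commutatorElement_inv a c).symm
  have hcb : ⁅c, b⁆ = (rootComm hs 10 11)⁻¹ := (commutatorElement_inv b c).symm
  have habc : a * b * c * (a * b * c) ∈ center Γ := by
    refine hc ?_
    rw [MonoidHom.mem_ker]
    have hcom := fun {r s : ℕ} (hr : r < 24) (hs₁ : s < 24) (h : commOK chevD4 r s = true) =>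
      (commOK_spec ctxD4 hr hs₁ h (1 : F) 1).eq
    simp only [map_mul, πa, πb, πc]
    calc xg ctxD4 23 (1 : F) * xg ctxD4 10 1 * xg ctxD4 11 1 *
          (xg ctxD4 23 1 * xg ctxD4 10 1 * xg ctxD4 11 1)
        = xg ctxD4 23 1 * xg ctxD4 10 1 * (xg ctxD4 11 1 * xg ctxD4 23 1) *
            xg ctxD4 10 1 * xg ctxD4 11 1 := by group
      _ = xg ctxD4 23 1 * (xg ctxD4 10 1 * xg ctxD4 23 1) * (xg ctxD4 11 1 * xg ctxD4 10 1) *
            xg ctxD4 11 1 := by
          rw [← hcom (by norm_num) (by norm_num) h11]; group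
      _ = (xg ctxD4 23 1 * xg ctxD4 23 1) * (xg ctxD4 10 1 * xg ctxD4 10 1) *
            (xg ctxD4 11 1 * xg ctxD4 11 1) := by
          rw [← hcom (by norm_num) (by norm_num) h10, ← hcom (by norm_num) (by norm_num) h1011]; group
      _ = 1 := by rw [hx2, hx2, hx2, one_mul, one_mul]
  have hdabc : ⁅d, a * b * c⁆ = rootComm hs 5 23 * rootComm hs 5 10 * rootComm hs 5 11 := by
    rw [comm_mul_central hs hc (rootComm_mem_center hs hc (by norm_num) (by norm_num) h511),
      comm_mul_central hs hc (rootComm_mem_center hs hc (by norm_num) (by norm_num) h510)]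
    rfl
  have hzd : ⁅d, a * b * c⁆ ∈ center Γ := by
    rw [hdabc]
    exact mul_mem (mul_mem (rootComm_mem_center hs hc (by norm_num) (by norm_num) h523)
      (rootComm_mem_center hs hc (by norm_num) (by norm_num) h510))
      (rootComm_mem_center hs hc (by norm_num) (by norm_num) h511)
  have e4 := mul_sq_central hs hc (P := a * b * c) (Q := d) hzd
  rw [hsqr 5 (by norm_num) d πd, mul_one, ← hsq, show W * (a * b * c) * W⁻¹ * (W * (a * b * c) * W⁻¹) =
    W * (a * b * c * (a * b * c)) * W⁻¹ by group, mem_center_iff.1 habc W, mul_inv_cancel_right,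
    left_eq_mul, hdabc] at e4
  have i23 := (rootComm_word h2 hs hc [1, 3, 2, 1, 0] (by simp) (r := 5) (s := 10) (by norm_num)
    (by norm_num) h510).1
  have i10 := (rootComm_word h2 hs hc [1, 3, 2, 1, 0] (by simp) (r := 5) (s := 11) (by norm_num)
    (by norm_num) h511).1
  rw [w5, w10] at i23
  rw [w5, w11] at i10
  have hsw : rootComm hs 5 23 = (rootComm hs 23 5)⁻¹ := (commutatorElement_inv _ _).symm
  have hinv : (rootComm hs 23 5)⁻¹ = rootComm hs 23 5 :=
    inv_eq_of_mul_eq_one_right (rootComm_sq hs hc h2 (by norm_num) (by norm_num) h5)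
  rw [← i23, ← i10, hsw, hinv] at e4
  exact (eq_inv_of_mul_eq_one_right e4).trans (inv_eq_of_mul_eq_one_right
    (kind_sq h2 hs hc (mul_mem (subset_closure (by simp)) (subset_closure (by simp)))))

/-- The kernel of a stem extension is an image of a four-group. -/
theorem four_onto (hstem : π.ker ≤ commutator Γ) :
    ∃ f : Multiplicative (ZMod 2 × ZMod 2) →* π.ker, Function.Surjective f := by
  obtain ⟨-, -, -, -, -, -, -, -, -, h5, h11, h10, -⟩ := d4Facts
  have hk : ∀ s, commOK chevD4 23 s = true → s < 24 → rootComm hs 23 s ∈ π.ker := by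
    intro s h hs'
    rw [MonoidHom.mem_ker, rootComm, map_commutatorElement, Function.surjInv_eq hs,
      Function.surjInv_eq hs, commutatorElement_eq_one_iff_commute]
    exact commOK_spec ctxD4 (by decide) hs' h 1 1
  let x : π.ker := ⟨_, hk 5 h5 (by norm_num)⟩
  let y : π.ker := ⟨_, hk 11 h11 (by norm_num)⟩
  have hxy : Commute x y :=
    Subtype.ext ((mem_center_iff.1 (hc y.2) (x : Γ)))
  have hx : x ^ 2 = 1 := Subtype.ext (by
    rw [pow_two]; exact rootComm_sq hs hc h2 (by norm_num) (by norm_num) h5)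
  have hy : y ^ 2 = 1 := Subtype.ext (by
    rw [pow_two]; exact rootComm_sq hs hc h2 (by norm_num) (by norm_num) h11)
  let f : Multiplicative (ZMod 2 × ZMod 2) →* π.ker :=
    MonoidHom.mk' (fun p => x ^ p.toAdd.1.val * y ^ p.toAdd.2.val) fun p q => by
      show x ^ (p.toAdd.1 + q.toAdd.1).val * y ^ (p.toAdd.2 + q.toAdd.2).val = _
      rw [ZMod.val_add, ZMod.val_add, ← pow_eq_pow_mod _ hx, ← pow_eq_pow_mod _ hy, pow_add, pow_add]
      exact Commute.mul_mul_mul_comm (hxy.pow_pow _ _) _ _
  refine ⟨f, fun z => ?_⟩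
  have hle : kindGroup hs ≤ f.range.map π.ker.subtype := by
    refine (closure_le _).2 ?_
    rintro _ (rfl | rfl | rfl)
    · exact ⟨x, ⟨Multiplicative.ofAdd (1, 0), by simp [f, ZMod.val_one]⟩, rfl⟩
    · exact ⟨y, ⟨Multiplicative.ofAdd (0, 1), by simp [f, ZMod.val_one]⟩, rfl⟩
    · rw [kind_rel h2 hs hc hstem]
      exact ⟨x * y, ⟨Multiplicative.ofAdd (1, 1), by simp [f, ZMod.val_one]⟩, rfl⟩
  obtain ⟨w, ⟨p, rfl⟩, hw⟩ := hle (ker_le_kind h2 hs hc hstem z.2)
  exact ⟨p, Subtype.ext hw⟩

end H76.Exc
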