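import Cfsg.Agent.H54.CoverPerfect
import Cfsg.Agent.H52.Check

/-!
Checks on the tables of a Chevalley datum used to lift root elements to central extensions.
-/

set_option autoImplicit false

namespace H76.Exc

open Cfsg.Lie

variable (D : ChevalleyDatum)

/-- The root elements of `r` and `s` commute by the tables. -/
def commOK (r s : ℕ) : Bool :=
  (s == r) || ((s != D.neg r) && (D.commTerms r s).isEmpty)

/-- The commutator of `a` and `b` is a single term at `k` with coefficient at most `N`. -/
def oneTerm (N k a b : ℕ) : Bool :=
  decide (a < D.nroots) && decide (b < D.nroots) && decide (b ≠ a) && decide (b ≠ D.neg a) &&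
    match D.commTerms a b with
    | [(k', c, 1, 1)] => (k' == k) && Nat.ble 1 c.natAbs && Nat.ble c.natAbs N
    | _ => false

/-- `k = a + b` with a single commutator term and both summands commuting with `r`. -/
def decompOK (N r k : ℕ) : Bool :=
  (List.range D.nroots).any fun a =>
    match D.chainRoot (D.neg a) k 1 with
    | none => false
    | some b => oneTerm D N k a b && commOK D r a && commOK D r b

/-- No fundamental reflection raises the root. -/
def topRoot (r : ℕ) : Bool :=
  (List.range D.rank).all fun i => Nat.ble (D.reflectRoot i r) r

/-- Some coroot is orthogonal to `r` and pairs with `s` to a non-zero number of absolute value at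
most `M`. -/
def torusOK (M r s : ℕ) : Bool :=
  (List.range D.nroots).any fun a =>
    (H52.pairInt D a r == 0) && (Nat.ble 1 (H52.pairInt D a s).natAbs) &&
      Nat.ble (H52.pairInt D a s).natAbs M

/-- Every root is paired to a non-zero number of absolute value at most `M` with some fundamental
coroot. -/
def unitOK (M : ℕ) : Bool :=
  (List.range D.nroots).all fun r => (List.range D.rank).any fun i =>
    Nat.ble 1 (D.cartan i r).natAbs && Nat.ble (D.cartan i r).natAbs M

/-- The top roots commute with themselves by a decomposition. -/
def selfOK (N : ℕ) : Bool :=
  (List.range D.nroots).all fun r => !topRoot D r || decompOK D N r r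

/-- Every pair starting in a top root is handled. -/
def goodOK (M N : ℕ) : Bool :=
  (List.range D.nroots).all fun r => !topRoot D r ||
    (List.range D.nroots).all fun s => (s == r) || (s == D.neg r) ||
      torusOK D M r s || (commOK D r s && decompOK D N r s)

/-! ### Two elements -/

/-- A pair of a top root is either commuting with a decomposition or has a single term. -/
def pairTwoOK : Bool :=
  (List.range D.nroots).all fun r => !topRoot D r ||
    (List.range D.nroots).all fun s => (s == D.neg r) || (commOK D r s && decompOK D 1 r s) ||
      (List.range D.nroots).any fun k => (D.chainRoot r s 1 == some k) && oneTerm D 1 k r s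

/-- Every decomposition of a top root is joined to a fixed one by reflections fixing that root. -/
def joinOK : Bool :=
  (List.range D.nroots).all fun r => !topRoot D r ||
    (List.range D.nroots).any fun a₀ =>
      match D.chainRoot (D.neg a₀) r 1 with
      | none => false
      | some b₀ => (List.range D.nroots).all fun a =>
        if a == a₀ then (H52.rowList D a).all fun e => !oneTerm D 1 r a e.1 || e.1 == b₀
        else
          ((List.range D.rank).any fun j => (D.reflectRoot j r == r) && Nat.blt (D.reflectRoot j a) a &&
            commOK D r (D.simple j) && commOK D r (D.neg (D.simple j))) ||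
          (H52.rowList D a).all fun e => !oneTerm D 1 r a e.1

/-- Every root has a decomposition. -/
def splitOK : Bool :=
  (List.range D.nroots).all fun k => (List.range D.nroots).any fun a =>
    match D.chainRoot (D.neg a) k 1 with
    | none => false
    | some b => oneTerm D 1 k a b && commOK D k a && commOK D k b

end H76.Exc
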