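import Cfsg.Agent.H76.D4TwoData
import Cfsg.Agent.H76.ExcCheck
import Cfsg.Prelude.Def_ChevD4
import Mathlib.LinearAlgebra.Matrix.Notation

/-!
The lifts satisfy the relations of D₄ over two elements up to sign.
-/

set_option autoImplicit false
set_option maxRecDepth 100000

namespace H76.Exc

open Cfsg.Lie

/-- Product of matrices given by rows, modulo three. -/
def rmul (A B : List (List ℕ)) : List (List ℕ) :=
  List.ofFn fun i : Fin 8 => List.ofFn fun j : Fin 8 =>
    ((A.getD i.val []).getD 0 0 * (B.getD 0 []).getD j.val 0 +
      (A.getD i.val []).getD 1 0 * (B.getD 1 []).getD j.val 0 +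
      (A.getD i.val []).getD 2 0 * (B.getD 2 []).getD j.val 0 +
      (A.getD i.val []).getD 3 0 * (B.getD 3 []).getD j.val 0 +
      (A.getD i.val []).getD 4 0 * (B.getD 4 []).getD j.val 0 +
      (A.getD i.val []).getD 5 0 * (B.getD 5 []).getD j.val 0 +
      (A.getD i.val []).getD 6 0 * (B.getD 6 []).getD j.val 0 +
      (A.getD i.val []).getD 7 0 * (B.getD 7 []).getD j.val 0) % 3

/-- The scalar matrix `c`. -/
def rsc (c : ℕ) : List (List ℕ) :=
  List.ofFn fun i : Fin 8 => List.ofFn fun j : Fin 8 => if i = j then c else 0

/-- Equality up to sign. -/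
def rEqPM (A B : List (List ℕ)) : Bool := (A == B) || (A == rmul (rsc 2) B)

/-- The product along a word of roots. -/
def rwd (L : List (List (List ℕ))) (w : List ℕ) : List (List ℕ) :=
  w.foldr (fun r M => rmul (L.getD r []) M) (rsc 1)

/-- Squares, commutator formulas and the torus relation, up to sign. -/
def liftRelOK (L : List (List (List ℕ))) : Bool :=
  (List.range 24).all fun r =>
    (rmul (L.getD r []) (L.getD r []) == rsc 1) &&
      rEqPM (rwd L [r, chevD4.neg r, r, r, chevD4.neg r, r]) (rsc 1) &&
      (List.range 24).all fun s => (s == r) || (s == chevD4.neg r) ||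
        match chevD4.commTerms r s with
        | [] => let P := rmul (L.getD s []) (L.getD r []); rEqPM (rmul P P) (rsc 1)
        | [(k, _, _, _)] => let P := rmul (L.getD s []) (L.getD r []); rEqPM (rmul P P) (L.getD k [])
        | _ => false

theorem liftRelA : liftRelOK d4LiftA = true := by decide +kernel

end H76.Exc

namespace H76.Exc

theorem liftRelB : liftRelOK d4LiftB = true := by decide +kernel

/-- The two families separate the classes of orthogonal pairs, and the product of three pairwise
orthogonal root elements is conjugate to the product of four. -/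
def liftSignOK : Bool :=
  rwd d4LiftA [23, 5, 23, 5] == rsc 1 && rwd d4LiftA [23, 11, 23, 11] == rsc 2 &&
    rwd d4LiftB [23, 5, 23, 5] == rsc 2 && rwd d4LiftB [23, 11, 23, 11] == rsc 1 &&
    rEqPM (rwd d4LiftA [1, 2, 17, 3, 23, 10, 11, 3, 17, 2, 1]) (rwd d4LiftA [23, 10, 11, 5])

theorem liftSign : liftSignOK = true := by decide +kernel

end H76.Exc
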