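import Cfsg.Agent.H76.ExcUniversal

/-!
Stem extensions of the presented group, and the presentation by (R1), (R2) over a finite field.
-/

set_option autoImplicit false
set_option linter.unusedSectionVars false

namespace H76.Exc

open Cfsg.Lie Subgroup
open scoped commutatorElement

universe u

variable {D : ChevalleyDatum} (C : H54.Ctx D) {F : Type u} [Field F]

include C in
theorem finite_steinbergGroup [Fintype F] (hP : H53.HasPairs D) : Finite (D.SteinbergGroup F) := by
  classical
  obtain ⟨θ, hθ⟩ := H53.exists_stHom (F := F) C.hC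
  have hS := H53.stSys_rel θ hθ
  have hk := H53.ChevSys.ker_eq_center C.hC C.W C.hok hS hP
  have hfin : ((center (D.SteinbergGroup F) : Subgroup _) : Set (D.SteinbergGroup F)).Finite := by
    refine (Set.finite_range (H53.stTorus (F := F) C.hC C.W hP)).subset fun g hg => ?_
    obtain ⟨c, -, e⟩ := H53.mem_center_stTorus C.hC C.W hP C.hok hg
    exact ⟨c, e⟩
  have : Finite (H53.ChevSys.thetaG C.hC C.hok hS hP).ker := by
    rw [hk]; exact hfin.to_subtype
  have : Finite (D.SteinbergGroup F ⧸ (H53.ChevSys.thetaG C.hC C.hok hS hP).ker) :=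
    Finite.of_equiv _ (QuotientGroup.quotientKerEquivRange _).symm.toEquiv
  exact Finite.of_subgroup_quotient (H53.ChevSys.thetaG C.hC C.hok hS hP).ker

include C in
/-- If every stem extension of the Chevalley group has lifts, the presented group has no proper
stem extension. -/
theorem st_trivial_multiplier [Fintype F] (hP : H53.HasPairs D) (hpp : posPairOK D = true)
    (hperf : commutator (D.SteinbergGroup F) = ⊤)
    (hlift : ∀ (Γ : Type u) [Group Γ] [Finite Γ] (σ : Γ →* ↥(D.group F)),
      Cfsg.IsStemExtension σ → Nonempty (Lifts C σ)) :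
    Cfsg.HasCyclicSchurMultiplier (D.SteinbergGroup F) 1 := by
  classical
  have := finite_steinbergGroup C (F := F) hP
  obtain ⟨θ₀, hθ₀⟩ := H53.exists_stHom (F := F) C.hC
  have hS := H53.stSys_rel θ₀ hθ₀
  set θ := H53.ChevSys.thetaG C.hC C.hok hS hP with hθdef
  have hθk : θ.ker = center (D.SteinbergGroup F) := H53.ChevSys.ker_eq_center C.hC C.W C.hok hS hP
  have hθs : Function.Surjective θ := H53.ChevSys.thetaG_surjective C.hC C.W C.hok hS hP
  refine trivial_multiplier fun Γ _ _ σ hσ => ?_
  have hΓ : commutator Γ = ⊤ := by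
    rw [eq_top_iff]
    intro x _
    have hx : σ x ∈ (commutator Γ).map σ := by
      rw [map_commutator_eq, MonoidHom.range_eq_top.2 hσ.1, ← commutator_def, hperf]
      exact mem_top _
    obtain ⟨y, hy, hye⟩ := hx
    rw [← mul_inv_cancel_left y x]
    exact mul_mem hy (hσ.2.2 (show σ (y⁻¹ * x) = 1 by rw [map_mul, map_inv, hye, inv_mul_cancel]))
  have hc := comp_ker_le_center σ θ hσ.1 hσ.2.1 hθk.le hΓ
  have hstem : Cfsg.IsStemExtension (θ.comp σ) := ⟨hθs.comp hσ.1, hc, hΓ ▸ le_top⟩
  obtain ⟨L⟩ := hlift Γ (θ.comp σ) hstem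
  have hcomp : ∀ x, θ (σ (L.stHom hstem.1 hc hpp x)) = θ x := by
    refine DFunLike.congr_fun (show ((θ.comp σ).comp (L.stHom hstem.1 hc hpp)) = θ from
      PresentedGroup.ext fun p => ?_)
    have e : PresentedGroup.of (rels := D.steinbergRels F) p = D.stGen F p.1.val p.2 := by
      simp [ChevalleyDatum.stGen, ChevalleyDatum.stX, PresentedGroup.of]
    rw [MonoidHom.comp_apply, e, L.stHom_gen _ _ _ p.1.isLt, L.proj _ p.1.isLt]
    apply Subtype.ext
    exact (hθ₀ _ p.1.isLt p.2).symm
  rw [ker_eq_bot_of_section σ hσ _ (comp_eq_id σ θ hθk.le hperf _ hcomp)]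
  simp

/-- The lifts given by the generators of the cover. -/
noncomputable def coverLifts (hP : H53.HasPairs D) (θ : D.SteinbergCover F →* GL D.Idx F)
    (hθ : ∀ r < D.nroots, ∀ t, θ (D.scGen F r t) = H52.rt D r t) :
    Lifts C (H53.ChevSys.thetaG C.hC C.hok (scSys_rel θ hθ) hP) where
  X := D.scGen F
  proj r hr t := Subtype.ext (hθ r hr t)
  add r hr t u := H54.scGen_add D r t u hr
  conj_n i r hr g hg t := by
    have hS := scSys_rel θ hθ
    set n := H53.ChevSys.nEl C.W (scSys D F) i 1
    have h := H53.ChevSys.n_rule C.hC C.W hS hP i hr t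
    rw [scSys_xn, scSys_xn] at h
    have hn : H53.ChevSys.thetaG C.hC C.hok hS hP n = ng C i := by
      rw [H53.ChevSys.thetaG_nEl C.hC C.W C.hok hS hP, nEl_one]
    have hz : n⁻¹ * g ∈ center (D.SteinbergCover F) := by
      rw [← H53.ChevSys.ker_eq_center C.hC C.W C.hok hS hP, MonoidHom.mem_ker, map_mul, map_inv, hg,
        hn, inv_mul_cancel]
    rw [← h, show g * D.scGen F r t * g⁻¹ =
        n * ((n⁻¹ * g) * D.scGen F r t * (n⁻¹ * g)⁻¹) * n⁻¹ by group,
      ← mem_center_iff.1 hz (D.scGen F r t), mul_inv_cancel_right]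
  conj_h c r hr g hg t := by
    classical
    have hS := scSys_rel θ hθ
    let θ' := H53.ChevSys.thetaG C.hC C.hok hS hP
    have key : ∀ c : Fin D.rank → Fˣ, ∃ k, θ' k = tor C c ∧
        ∀ t, k * D.scGen F r t * k⁻¹ = D.scGen F r ((chi D c r : F) * t) := by
      intro c
      rw [← Finset.univ_prod_mulSingle c]
      refine Finset.prod_induction _ (fun c : Fin D.rank → Fˣ => ∃ k, θ' k = tor C c ∧
        ∀ t, k * D.scGen F r t * k⁻¹ = D.scGen F r ((chi D c r : F) * t)) ?_ ?_ ?_
      · rintro a b ⟨k, hk, hk'⟩ ⟨l, hl, hl'⟩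
        refine ⟨k * l, by rw [map_mul, hk, hl, map_mul], fun t => ?_⟩
        have hm : chi D (a * b) r = chi D a r * chi D b r := by
          simp [chi, mul_zpow, Finset.prod_mul_distrib]
        rw [mul_inv_rev, show k * l * D.scGen F r t * (l⁻¹ * k⁻¹) =
          k * (l * D.scGen F r t * l⁻¹) * k⁻¹ by group, hl', hk', hm, Units.val_mul, mul_assoc]
      · exact ⟨1, by rw [map_one, map_one], fun t => by simp [chi]⟩
      · intro i _
        refine ⟨H53.ChevSys.hEl C.W (scSys D F) i (c i : F), ?_, fun t => ?_⟩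
        · show H53.ChevSys.thetaG C.hC C.hok hS hP _ = _
          rw [← hEl_tor C i (c i), H53.ChevSys.hEl, H53.ChevSys.hEl, map_mul,
            H53.ChevSys.thetaG_nEl C.hC C.W C.hok hS hP, H53.ChevSys.thetaG_nEl C.hC C.W C.hok hS hP]
        · have h := H53.ChevSys.h_rule C.hC C.W hS hP i (c i).ne_zero hr t
          rw [scSys_xn, scSys_xn] at h
          rw [chi_mulSingle C, Units.val_zpow_eq_zpow_val]
          exact h
    obtain ⟨k, hk, hk'⟩ := key c
    have hz : k⁻¹ * g ∈ center (D.SteinbergCover F) := by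
      rw [← H53.ChevSys.ker_eq_center C.hC C.W C.hok hS hP, MonoidHom.mem_ker, map_mul, map_inv, hg]
      show (θ' k)⁻¹ * _ = 1
      rw [hk, inv_mul_cancel]
    rw [← hk' t, show g * D.scGen F r t * g⁻¹ =
        k * ((k⁻¹ * g) * D.scGen F r t * (k⁻¹ * g)⁻¹) * k⁻¹ by group,
      ← mem_center_iff.1 hz (D.scGen F r t), mul_inv_cancel_right]
  good r hr s hs h1 h2 t u := by
    have h := H54.scGen_comm D (K := F) t u hr hs h1 h2
    have hinv : D.scGen F r (-t) = (D.scGen F r t)⁻¹ :=
      eq_inv_of_mul_eq_one_left (by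
        rw [H54.scGen_add D r _ _ hr, neg_add_cancel]
        have h0 := H54.scGen_add D r (0 : F) 0 hr
        rwa [add_zero, mul_eq_left] at h0)
    rw [hinv, show (D.scGen F r t)⁻¹ * D.scGen F s u * D.scGen F r t =
      D.scGen F s u * ((D.scGen F s u)⁻¹ * (D.scGen F r t)⁻¹ * D.scGen F s u * D.scGen F r t) by
        group, h]
    refine mul_mem (subset_closure ⟨s, by simp [tgt], u, rfl⟩) (list_prod_mem fun g hg => ?_)
    obtain ⟨p, hp, rfl⟩ := List.mem_map.1 hg
    obtain ⟨c, hc, rfl⟩ := List.mem_map.1 hp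
    exact subset_closure ⟨c.1, List.mem_cons_of_mem _ (List.mem_map_of_mem hc), _, rfl⟩

include C in
/-- Over a finite field (R3) follows from (R1) and (R2). -/
theorem cover_equiv [Finite F] (hP : H53.HasPairs D) (hpp : posPairOK D = true) :
    ∃ e : D.SteinbergCover F ≃* D.SteinbergGroup F, ∀ (r : ℕ) (t : F),
      e (D.scGen F r t) = D.stGen F r t := by
  obtain ⟨θ, hθ⟩ := exists_scHom (F := F) C.hC
  have hS := scSys_rel θ hθ
  let L := coverLifts C hP θ hθ
  have hs := H53.ChevSys.thetaG_surjective C.hC C.W C.hok hS hP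
  have hc := (H53.ChevSys.ker_eq_center C.hC C.W C.hok hS hP).le
  let Ψ : D.SteinbergGroup F →* D.SteinbergCover F := L.stHom hs hc hpp
  have hq : ∀ g ∈ D.steinbergRelsAB F,
      FreeGroup.lift (fun p : Fin D.nroots × F => D.stGen F p.1.val p.2) g = 1 := by
    intro g hg
    have e : FreeGroup.lift (fun p : Fin D.nroots × F => D.stGen F p.1.val p.2) g =
        PresentedGroup.mk (D.steinbergRels F) g := by
      refine DFunLike.congr_fun (FreeGroup.ext_hom
        (FreeGroup.lift fun p : Fin D.nroots × F => D.stGen F p.1.val p.2)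
        (PresentedGroup.mk (D.steinbergRels F)) fun p => ?_) g
      simp [ChevalleyDatum.stGen, ChevalleyDatum.stX]
    rw [e]
    exact PresentedGroup.one_of_mem (by
      rcases hg with h | h
      · exact Or.inl (Or.inl h)
      · exact Or.inl (Or.inr h))
  let Φ : D.SteinbergCover F →* D.SteinbergGroup F := PresentedGroup.toGroup hq
  have hΦ : ∀ r t, Φ (D.scGen F r t) = D.stGen F r t := by
    intro r t
    show PresentedGroup.toGroup hq (PresentedGroup.mk _ (D.stX r t)) = _
    by_cases hr : r < D.nroots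
    · rw [ChevalleyDatum.stX, dif_pos hr]; exact PresentedGroup.toGroup.of hq
    · rw [ChevalleyDatum.stX, dif_neg hr, map_one, map_one]
      simp [ChevalleyDatum.stGen, ChevalleyDatum.stX, dif_neg hr]
  refine ⟨MonoidHom.toMulEquiv Φ Ψ (PresentedGroup.ext fun p => ?_) (PresentedGroup.ext fun p => ?_),
    hΦ⟩
  · have e : PresentedGroup.of (rels := D.steinbergRelsAB F) p = D.scGen F p.1.val p.2 := by
      simp [ChevalleyDatum.scGen, ChevalleyDatum.stX, PresentedGroup.of]
    rw [MonoidHom.comp_apply, MonoidHom.id_apply, e, hΦ]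
    exact L.stHom_gen hs hc hpp p.1.isLt p.2
  · have e : PresentedGroup.of (rels := D.steinbergRels F) p = D.stGen F p.1.val p.2 := by
      simp [ChevalleyDatum.stGen, ChevalleyDatum.stX, PresentedGroup.of]
    rw [MonoidHom.comp_apply, MonoidHom.id_apply, e]
    show Φ (L.stHom hs hc hpp _) = _
    rw [L.stHom_gen hs hc hpp p.1.isLt p.2]
    exact hΦ _ _

theorem posPair_of_mem {D : ChevalleyDatum}
    (hD : D ∈ [chevG2, chevB2, chevD4, chevF4, chevE6, chevE7, chevE8]) : posPairOK D = true := by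
  simp only [List.mem_cons, List.not_mem_nil, or_false] at hD
  rcases hD with rfl | rfl | rfl | rfl | rfl | rfl | rfl
  exacts [posPairG2, posPairB2, posPairD4, posPairF4, posPairE6, posPairE7, posPairE8]

end H76.Exc
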