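import Cfsg.Agent.H76.ExcTorus

/-!
Lifts from the checks over finite fields with at least three elements, and the order of the kernel of
the torus.
-/

set_option autoImplicit false
set_option linter.unusedSectionVars false

namespace H76.Exc

open Cfsg.Lie Subgroup

universe u

variable {D : ChevalleyDatum} {C : H54.Ctx D} {F : Type*} [Field F] [Fintype F]

theorem exists_generator_zpow (M : ℕ) (hM : M + 1 < Fintype.card F) :
    ∃ z : Fˣ, ∀ m : ℤ, 1 ≤ m.natAbs → m.natAbs ≤ M → z ^ m ≠ 1 := by
  obtain ⟨z, hz⟩ := IsCyclic.exists_generator (α := Fˣ)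
  refine ⟨z, fun m h1 h2 h => ?_⟩
  have hd := orderOf_dvd_iff_zpow_eq_one.2 h
  rw [orderOf_eq_card_of_forall_mem_zpowers hz, Nat.card_units, Nat.card_eq_fintype_card,
    Int.natCast_dvd] at hd
  have := Nat.le_of_dvd h1 hd
  omega

theorem unitOK_mono {D : ChevalleyDatum} {M M' : ℕ} (h : M ≤ M') (hu : unitOK D M = true) :
    unitOK D M' = true := by
  simp only [unitOK, List.all_eq_true, List.mem_range, List.any_eq_true, Bool.and_eq_true,
    Nat.ble_eq] at hu ⊢
  intro r hr
  obtain ⟨i, hi, h1, h2⟩ := hu r hr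
  exact ⟨i, hi, h1, h2.trans h⟩

/-- Every top root is paired to `±1` with some fundamental coroot. -/
def fullTopOK (D : ChevalleyDatum) : Bool :=
  (List.range D.nroots).all fun r => !topRoot D r ||
    (List.range D.rank).any fun i => (D.cartan i r).natAbs == 1

variable {Γ : Type*} [Group Γ] {π : Γ →* ↥(D.group F)} (hs : Function.Surjective π)
  (hc : π.ker ≤ center Γ)
include hs hc

theorem self_of_selfOK {N : ℕ} (hN : ∀ n : ℕ, 1 ≤ n → n ≤ N → (n : F) ≠ 0)
    (h : selfOK D N = true) : ∀ r < D.nroots, CommLift C π r r := by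
  simp only [selfOK, List.all_eq_true, List.mem_range, Bool.or_eq_true, Bool.not_eq_true'] at h
  refine commLift_self_of_top hs hc fun r hr htop => ?_
  refine commLift_of_decomp hs hc hN hr ((h r hr).resolve_left ?_)
  simp [htop]

theorem self_of_five (hq : 5 ≤ Fintype.card F) (h : fullTopOK D = true) :
    ∀ r < D.nroots, CommLift C π r r := by
  simp only [fullTopOK, List.all_eq_true, List.mem_range, Bool.or_eq_true, Bool.not_eq_true',
    List.any_eq_true, beq_iff_eq] at h
  refine commLift_self_of_top hs hc fun r hr htop => commLift_self_of_five hs hc hr hq fun z => ?_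
  obtain ⟨i, hi, ha⟩ := (h r hr).resolve_left (by simp [htop])
  refine ⟨Pi.mulSingle ⟨i, hi⟩ (z ^ D.cartan i r), ?_⟩
  rw [chi_mulSingle C, ← zpow_mul, Int.mul_comm]
  rcases Int.natAbs_eq (D.cartan i r) with e | e <;> rw [ha] at e <;> simp [e]

/-- Lifts exist by the checks. -/
theorem lifts_of_checks {M N : ℕ} (hM : M + 1 < Fintype.card F)
    (hN : ∀ n : ℕ, 1 ≤ n → n ≤ N → (n : F) ≠ 0) (hu : unitOK D M = true)
    (hg : goodOK D M N = true) (hS : ∀ r < D.nroots, CommLift C π r r) :
    Nonempty (Lifts C π) := by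
  obtain ⟨z, hz⟩ := exists_generator_zpow (F := F) M hM
  simp only [unitOK, List.all_eq_true, List.mem_range, List.any_eq_true, Bool.and_eq_true,
    Nat.ble_eq] at hu
  simp only [goodOK, List.all_eq_true, List.mem_range, Bool.or_eq_true, Bool.not_eq_true',
    beq_iff_eq, Bool.and_eq_true, torusOK, List.any_eq_true, Nat.ble_eq] at hg
  refine ⟨torLifts hs hc hS (fun r hr => ?_) fun r hr htop s hs' h1 h2 => ?_⟩
  · obtain ⟨i, hi, h3, h4⟩ := hu r hr
    exact ⟨Pi.mulSingle ⟨i, hi⟩ z, by rw [chi_mulSingle C]; exact hz _ h3 h4⟩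
  · have h := (hg r hr).resolve_left (by simp [htop]) s hs'
    rcases h with ((h | h) | ⟨a, -, ⟨h3, h4⟩, h5⟩) | ⟨-, h⟩
    · exact absurd h h1
    · exact absurd h h2
    · exact Or.inl ⟨fun i => z ^ H52.crt D a i.val, by rw [chi_coroot C, h3, zpow_zero],
        by rw [chi_coroot C]; exact hz _ h4 h5⟩
    · exact Or.inr (commLift_of_decomp hs hc hN hr h)

omit hs hc

variable (C)

/-- The order of the kernel of the torus. -/
theorem card_tor_ker {d : Fin D.rank → ℕ} (hd : H52.HasDivisors D d) :
    Nat.card (tor C (F := F)).ker = ∏ i, (Fintype.card F - 1).gcd (d i) := by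
  have h := C.hC.card_diagonal (F := F) hd
  have hker : (tor C (F := F)).ker = (H52.torus D (F := F)).ker :=
    MonoidHom.ker_codRestrict _ _ _
  have hsplit := Subgroup.card_mul_index (H52.torus D (F := F)).ker
  rw [Subgroup.index_ker, ← C.hC.diagonalSubgroup_eq, Nat.card_pi, Finset.prod_const,
    Finset.card_univ, Fintype.card_fin, Nat.card_units, Nat.card_eq_fintype_card (α := F), ← h] at hsplit
  rw [hker]
  exact Nat.eq_of_mul_eq_mul_right Nat.card_pos hsplit

end H76.Exc

namespace H76.Exc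

universe v

/-- A group all of whose stem extensions are isomorphisms has trivial multiplier. -/
theorem trivial_multiplier {G : Type v} [Group G] [Finite G]
    (h : ∀ (Γ : Type v) [Group Γ] [Finite Γ] (σ : Γ →* G), Cfsg.IsStemExtension σ →
      Nat.card σ.ker = 1) : Cfsg.HasCyclicSchurMultiplier G 1 := by
  refine ⟨⟨G, inferInstance, inferInstance, MonoidHom.id G,
    ⟨Function.surjective_id, by simp, by simp⟩, ?_⟩, fun Γ _ _ σ hσ => ⟨1, fun z => ⟨1, ?_⟩⟩⟩
  · haveI : Subsingleton ↥(MonoidHom.id G).ker :=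
      ⟨fun a b => Subtype.ext (a.2.trans b.2.symm)⟩
    exact ⟨⟨⟨fun _ => 1, fun _ => 1, fun _ => Subsingleton.elim _ _, fun _ => Subsingleton.elim _ _⟩,
      fun _ _ => Subsingleton.elim _ _⟩⟩
  · haveI := (Nat.card_eq_one_iff_unique.1 (h Γ σ hσ)).1
    exact Subsingleton.elim _ _

end H76.Exc
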