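import Cfsg.Agent.H76.ExcCheck
import Cfsg.Agent.H76.CoverLift
import Cfsg.Agent.H54.ChevCtx
import Cfsg.Agent.H52.TorusCard

/-!
Root elements, torus and fundamental reflections inside a Chevalley group, and the meaning of the
table checks.
-/

set_option autoImplicit false
set_option linter.unusedSectionVars false

namespace H76.Exc

open Cfsg.Lie
open scoped commutatorElement

variable {D : ChevalleyDatum} (C : H54.Ctx D) {F : Type*} [Field F]
include C

/-- The root element as an element of the group. -/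
noncomputable def xg (r : ℕ) (t : F) : ↥(D.group F) := ⟨H52.rt D r t, C.rt_mem_group r t⟩

theorem xg_zero (r : ℕ) : xg C r (0 : F) = 1 := Subtype.ext (C.hC.rt_zero r)

theorem xg_add (r : ℕ) (t u : F) : xg C r t * xg C r u = xg C r (t + u) :=
  Subtype.ext (C.hC.rt_mul r t u)

theorem xg_inv (r : ℕ) (t : F) : (xg C r t)⁻¹ = xg C r (-t) := Subtype.ext (C.hC.rt_inv r t)

theorem xg_inj {r : ℕ} (hr : r < D.nroots) {t u : F} (h : xg C r t = xg C r u) : t = u :=
  C.hC.rt_injective hr (congrArg Subtype.val h)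

/-- The character of a torus element at a root. -/
def chi (D : ChevalleyDatum) {F : Type*} [Field F] (c : Fin D.rank → Fˣ) (r : ℕ) : Fˣ :=
  ∏ i : Fin D.rank, c i ^ D.cartan i.val r

theorem torus_mem (c : Fin D.rank → Fˣ) : H52.torus D c ∈ D.group F :=
  C.diag_le_group (by rw [C.hC.diagonalSubgroup_eq]; exact ⟨c, rfl⟩)

/-- The torus of the group. -/
noncomputable def tor : (Fin D.rank → Fˣ) →* ↥(D.group F) :=
  (H52.torus D).codRestrict (D.group F) (torus_mem C)

theorem tor_conj (c : Fin D.rank → Fˣ) {r : ℕ} (hr : r < D.nroots) (t : F) :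
    tor C c * xg C r t * (tor C c)⁻¹ = xg C r ((chi D c r : F) * t) :=
  Subtype.ext (C.hC.torus_conj_rt c hr t)

theorem tor_comm (c c' : Fin D.rank → Fˣ) : tor C c * tor C c' = tor C c' * tor C c := by
  rw [← map_mul, ← map_mul, mul_comm]

/-- The representative of a fundamental reflection. -/
noncomputable def ng (i : Fin D.rank) : ↥(D.group F) :=
  ⟨H53.nGL D (D.simple i.val) 1, C.nGL_mem _ _⟩

theorem ng_eq (i : Fin D.rank) :
    ng C (F := F) i = xg C (D.simple i.val) 1 * xg C (D.neg (D.simple i.val)) (-1) *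
      xg C (D.simple i.val) 1 := by
  apply Subtype.ext
  show H53.nGL D _ _ = _
  rw [H53.nGL, inv_one]
  rfl

theorem ng_conj (i : Fin D.rank) {r : ℕ} (hr : r < D.nroots) (t : F) :
    ng C i * xg C r t * (ng C i)⁻¹ = xg C (D.reflectRoot i.val r) ((C.T.eps i.val r : F) * t) := by
  rw [mul_inv_eq_iff_eq_mul]
  refine Subtype.ext (Units.ext ?_)
  simp only [Subgroup.coe_mul, Units.val_mul, xg, ng, C.hC.coe_rt, H53.coe_nGL C.hC]
  exact C.hC.sig_mul_x i.isLt hr t

theorem eps_ne_zero (i r : ℕ) : (C.T.eps i r : F) ≠ 0 := by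
  rcases H52.Checked.eps_eq_or (T := C.T) i r with h | h <;> simp [h]

theorem ng_tor (i : Fin D.rank) (c : Fin D.rank → Fˣ) :
    ∃ c', ng C i * tor C c * (ng C i)⁻¹ = tor C c' := by
  have hn : ng C (F := F) i = (H53.grpSys C.W F).n i := by
    refine Subtype.ext (Units.ext ?_)
    show ((H53.nGL D (D.simple i.val) (1 : F) : GL D.Idx F) : Matrix D.Idx D.Idx F) = _
    rw [H53.coe_nGL C.hC]
    exact (H53.coe_nEl C.hC C.W i 1).symm
  have hc : tor C c ∈ (H53.grpSys C.W F).H :=
    (H53.mem_diag_iff C.hC C.W _).1 (by rw [C.hC.diagonalSubgroup_eq]; exact ⟨c, rfl⟩)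
  have h := (H53.mem_diag_iff C.hC C.W _).2 ((C.axioms (F := F)).n_norm i _ hc)
  rw [C.hC.diagonalSubgroup_eq] at h
  obtain ⟨c', hc'⟩ := h
  exact ⟨c', hn ▸ Subtype.ext hc'.symm⟩

/-- The roots on the right of the commutator formula of `(r, s)`, together with `s`. -/
def tgt (D : ChevalleyDatum) (r s : ℕ) : List ℕ := s :: (D.commTerms r s).map Prod.fst

theorem xg_conj_mem {r s : ℕ} (hr : r < D.nroots) (hs : s < D.nroots) (h1 : s ≠ r)
    (h2 : s ≠ D.neg r) (t u : F) :
    xg C r (-t) * xg C s u * xg C r t ∈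
      Subgroup.closure {g | ∃ m ∈ tgt D r s, ∃ v, g = xg C m v} := by
  have h := C.hC.comm_rt hr hs h1 h2 t u
  have e : xg C r (-t) * xg C s u * xg C r t =
      xg C s u * ((D.commWord F r s t u).map fun p => xg C p.1 p.2).prod := by
    rw [← xg_inv C, mul_assoc, inv_mul_eq_iff_eq_mul, ← mul_assoc]
    apply Subtype.ext
    simp only [Subgroup.coe_mul, SubmonoidClass.coe_list_prod, List.map_map]
    exact h
  rw [e]
  refine mul_mem (Subgroup.subset_closure ⟨s, by simp [tgt], u, rfl⟩) (list_prod_mem fun g hg => ?_)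
  obtain ⟨p, hp, rfl⟩ := List.mem_map.1 hg
  obtain ⟨c, hc, rfl⟩ := List.mem_map.1 hp
  exact Subgroup.subset_closure ⟨c.1, List.mem_cons_of_mem _ (List.mem_map_of_mem hc), _, rfl⟩

theorem tgt_lt {r s : ℕ} (hs : s < D.nroots) {m : ℕ} (hm : m ∈ tgt D r s) : m < D.nroots := by
  rcases List.mem_cons.1 hm with rfl | h
  · exact hs
  · obtain ⟨c, hc, rfl⟩ := List.mem_map.1 h; exact C.hC.commTerms_lt c hc

theorem tgt_gt {r s : ℕ} (hr : r < D.nroots) (hs : s < D.nroots) (hp : D.nroots / 2 ≤ r)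
    (hps : D.nroots / 2 ≤ s) {m : ℕ} (hm : m ∈ tgt D r s) : m = s ∨ r < m := by
  rcases List.mem_cons.1 hm with rfl | h
  · exact Or.inl rfl
  · right
    obtain ⟨c, hc, rfl⟩ := List.mem_map.1 h
    obtain ⟨i, hi, hco⟩ := C.hC.commTerms_co hr hs c hc
    refine (C.hC.key_lt_iff hr (C.hC.commTerms_lt c hc)).1 ?_
    have h0 : H52.keyOf D.rank (fun _ => (0 : ℤ)) = 0 := by
      generalize D.rank = l
      induction l with
      | zero => rfl
      | succ l ih =>
        simp only [H52.keyOf, List.range_succ, List.foldl_append, List.foldl_cons,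
          List.foldl_nil] at *
        rw [ih]; ring
    have hk : H52.keyOf D.rank (C.T.co c.1) = (c.2.2.1 : ℤ) * H52.keyOf D.rank (C.T.co r) +
        (c.2.2.2 : ℤ) * H52.keyOf D.rank (C.T.co s) := by
      rw [H52.Checked.keyOf_congr _ _ (fun j => (c.2.2.1 : ℤ) * C.T.co r j + (c.2.2.2 : ℤ) * C.T.co s j)
        hco, H52.Checked.keyOf_add_smul]
      congr 1
      have := H52.Checked.keyOf_add_smul D.rank (fun _ => 0) (C.T.co r) (c.2.2.1 : ℤ)
      rw [h0] at this
      simpa using this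
    have h1 := (C.hC.key_pos_iff hr).2 hp
    have h2 := (C.hC.key_pos_iff hs).2 hps
    have h3 : (1 : ℤ) ≤ c.2.2.1 := by exact_mod_cast i
    have h4 : (1 : ℤ) ≤ c.2.2.2 := by exact_mod_cast hi
    rw [hk]
    nlinarith

/-! ### Meaning of the checks -/

theorem commOK_spec {r s : ℕ} (hr : r < D.nroots) (hs : s < D.nroots)
    (h : commOK D r s = true) (t u : F) : Commute (xg C r t) (xg C s u) := by
  simp only [commOK, Bool.or_eq_true, beq_iff_eq, Bool.and_eq_true, bne_iff_ne,
    List.isEmpty_iff] at h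
  by_cases he : s = r
  · subst he; rw [commute_iff_eq, xg_add, xg_add, add_comm]
  · obtain ⟨h1, h2⟩ := h.resolve_left he
    apply Subtype.ext
    have e := C.hC.comm_rt hr hs he h1 t u
    simp only [H52.wordRt, ChevalleyDatum.commWord, h2, List.map_nil, List.prod_nil,
      mul_one] at e
    exact e.symm

theorem oneTerm_spec {N k a b : ℕ} (h : oneTerm D N k a b = true) :
    a < D.nroots ∧ b < D.nroots ∧ b ≠ a ∧ b ≠ D.neg a ∧
      ∃ c : ℤ, 1 ≤ c.natAbs ∧ c.natAbs ≤ N ∧ D.commTerms a b = [(k, c, 1, 1)] := by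
  simp only [oneTerm, Bool.and_eq_true, decide_eq_true_eq] at h
  obtain ⟨⟨⟨⟨h1, h2⟩, h3⟩, h4⟩, h5⟩ := h
  split at h5
  · rename_i k' c heq
    simp only [Bool.and_eq_true, beq_iff_eq, Nat.ble_eq] at h5
    exact ⟨h1, h2, h3, h4, c, h5.1.2, h5.2, by rw [heq, h5.1.1]⟩
  · exact absurd h5 Bool.false_ne_true

theorem oneTerm_comm {k a b : ℕ} (ha : a < D.nroots) (hb : b < D.nroots) (h1 : b ≠ a)
    (h2 : b ≠ D.neg a) {c : ℤ} (hc : D.commTerms a b = [(k, c, 1, 1)]) (t u : F) :
    ⁅xg C b (-u : F), xg C a t⁆ = xg C k ((c : F) * t * u) := by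
  have e := C.hC.comm_rt ha hb h1 h2 (-t) u
  simp only [H52.wordRt, ChevalleyDatum.commWord, hc, List.map_cons, List.map_nil, List.prod_cons,
    List.prod_nil, mul_one, neg_neg, pow_one] at e
  rw [commutatorElement_def, xg_inv, xg_inv, neg_neg]
  apply Subtype.ext
  show H52.rt D b (-u) * H52.rt D a t * H52.rt D b u * H52.rt D a (-t) = H52.rt D k _
  rw [← C.hC.rt_inv, mul_assoc (_ * _), e, ← C.hC.rt_inv]
  group

theorem cast_ne_zero_of_natAbs {N : ℕ} (hN : ∀ n : ℕ, 1 ≤ n → n ≤ N → (n : F) ≠ 0) {c : ℤ}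
    (h1 : 1 ≤ c.natAbs) (h2 : c.natAbs ≤ N) : (c : F) ≠ 0 := by
  intro h
  apply hN _ h1 h2
  rcases Int.natAbs_eq c with e | e
  · rw [e] at h; simpa using h
  · rw [e] at h; simpa using h

/-- A root element written as a commutator of elements commuting with `X_r`. -/
theorem decompOK_spec {N r k : ℕ} (hN : ∀ n : ℕ, 1 ≤ n → n ≤ N → (n : F) ≠ 0)
    (hr : r < D.nroots) (h : decompOK D N r k = true) :
    ∃ a b, a < D.nroots ∧ b < D.nroots ∧
      (∀ t u : F, Commute (xg C r t) (xg C a u) ∧ Commute (xg C r t) (xg C b u)) ∧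
      ∀ v : F, ∃ t, xg C k v = ⁅xg C b (-1 : F), xg C a t⁆ := by
  simp only [decompOK, List.any_eq_true, List.mem_range] at h
  obtain ⟨a, ha, h⟩ := h
  split at h
  · exact absurd h Bool.false_ne_true
  · rename_i b _
    simp only [Bool.and_eq_true] at h
    obtain ⟨-, hb, h1, h2, c, hc1, hc2, hc⟩ := oneTerm_spec C h.1.1
    refine ⟨a, b, ha, hb, fun t u => ⟨commOK_spec C hr ha h.1.2 t u,
      commOK_spec C hr hb h.2 t u⟩, fun v => ⟨v / (c : F), ?_⟩⟩
    rw [oneTerm_comm C ha hb h1 h2 hc _ 1, mul_one,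
      mul_div_cancel₀ _ (cast_ne_zero_of_natAbs C hN hc1 hc2)]

/-- Induction over the roots from the top. -/
theorem root_top_rec (P : ℕ → Prop)
    (htop : ∀ r < D.nroots, topRoot D r = true → P r)
    (hstep : ∀ (i : Fin D.rank) (r : ℕ), r < D.nroots → P (D.reflectRoot i.val r) → P r) :
    ∀ r < D.nroots, P r := by
  suffices ∀ m r, D.nroots - r = m → r < D.nroots → P r from fun r hr => this _ r rfl hr
  intro m
  induction m using Nat.strong_induction_on with
  | _ m ih =>
    intro r hm hr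
    by_cases h : topRoot D r = true
    · exact htop r hr h
    · simp only [topRoot, List.all_eq_true, List.mem_range, Nat.ble_eq, not_forall,
        not_le, exists_prop] at h
      obtain ⟨i, hi, hlt⟩ := h
      have := C.hC.reflect_lt hi hr
      exact hstep ⟨i, hi⟩ r hr (ih (D.nroots - D.reflectRoot i r) (by omega) _ rfl this)

theorem reflect_reflect (i : Fin D.rank) {r : ℕ} (hr : r < D.nroots) :
    D.reflectRoot i.val (D.reflectRoot i.val r) = r := by
  have h := C.W.valid.act_invol i ⟨r, hr⟩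
  rw [Fin.ext_iff, C.W.act_eq, C.W.act_eq] at h
  exact h

theorem tgt_reflect (i : Fin D.rank) {r s : ℕ} (hr : r < D.nroots) (hs : s < D.nroots) :
    tgt D (D.reflectRoot i.val r) (D.reflectRoot i.val s) =
      (tgt D r s).map (D.reflectRoot i.val) := by
  simp [tgt, C.hC.commTerms_reflect i.isLt hr hs, Function.comp_def]

theorem ne_reflect (i : Fin D.rank) {r s : ℕ} (hr : r < D.nroots) (hs : s < D.nroots)
    (h : s ≠ r) : D.reflectRoot i.val s ≠ D.reflectRoot i.val r :=
  fun e => h (C.hC.reflect_inj i.isLt hs hr e)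

theorem ne_neg_reflect (i : Fin D.rank) {r s : ℕ} (hr : r < D.nroots) (hs : s < D.nroots)
    (h : s ≠ D.neg r) : D.reflectRoot i.val s ≠ D.neg (D.reflectRoot i.val r) :=
  fun e => h (C.hC.reflect_inj i.isLt hs (C.hC.neg_lt hr) (by rw [C.hC.reflect_neg i.isLt hr, e]))

theorem commOK_reflect (i : Fin D.rank) {r s : ℕ} (hr : r < D.nroots) (hs : s < D.nroots)
    (h : commOK D r s = true) :
    commOK D (D.reflectRoot i.val r) (D.reflectRoot i.val s) = true := by
  simp only [commOK, Bool.or_eq_true, beq_iff_eq, Bool.and_eq_true, bne_iff_ne,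
    List.isEmpty_iff] at h ⊢
  by_cases he : s = r
  · exact Or.inl (by rw [he])
  · obtain ⟨h1, h2⟩ := h.resolve_left he
    exact Or.inr ⟨ne_neg_reflect C i hr hs h1, by
      rw [C.hC.commTerms_reflect i.isLt hr hs, h2]; rfl⟩

theorem oneTerm_reflect (i : Fin D.rank) {N k a b : ℕ} (h : oneTerm D N k a b = true) :
    oneTerm D N (D.reflectRoot i.val k) (D.reflectRoot i.val a) (D.reflectRoot i.val b) = true := by
  obtain ⟨ha, hb, h1, h2, c, hc1, hc2, hc⟩ := oneTerm_spec C h
  have e : ∀ x y : ℕ, (C.T.eps x y).natAbs = 1 := fun x y => by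
    rcases H52.Checked.eps_eq_or (T := C.T) x y with h | h <;> simp [h]
  simp [oneTerm, C.hC.reflect_lt i.isLt ha, C.hC.reflect_lt i.isLt hb,
    ne_reflect C i ha hb h1, ne_neg_reflect C i ha hb h2,
    C.hC.commTerms_reflect i.isLt ha hb, hc]
  rw [Int.natAbs_mul, Int.natAbs_mul, Int.natAbs_mul, e, e, e]
  omega

/-- `tor` with the character of a coroot. -/
theorem chi_coroot (z : Fˣ) (a r : ℕ) :
    chi D (fun i : Fin D.rank => z ^ H52.crt D a i.val) r = z ^ H52.pairInt D a r := by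
  rw [chi, C.hC.pairInt_eq_sum, Finset.sum_range]
  have : ∀ i : Fin D.rank, (z ^ H52.crt D a i.val) ^ D.cartan i.val r =
      z ^ (H52.crt D a i.val * D.cartan i.val r) := fun i => (zpow_mul _ _ _).symm
  rw [Finset.prod_congr rfl fun i _ => this i]
  generalize (Finset.univ : Finset (Fin D.rank)) = S
  classical
  induction S using Finset.induction_on with
  | empty => simp
  | insert a S ha ih => rw [Finset.sum_insert ha, Finset.prod_insert ha, zpow_add, ih]

theorem chi_mulSingle (i : Fin D.rank) (z : Fˣ) (r : ℕ) :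
    chi D (Pi.mulSingle i z) r = z ^ D.cartan i.val r := by
  rw [chi, Finset.prod_eq_single i, Pi.mulSingle_eq_same]
  · intro j _ hj; rw [Pi.mulSingle_eq_of_ne hj, one_zpow]
  · simp

end H76.Exc
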