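import Cfsg.Agent.H76.Basic
import Cfsg.Prelude.Def_Transfer
import Mathlib.GroupTheory.Index
import Mathlib.Tactic

/-!
Extraspecial 2-groups with a maximal elementary abelian subgroup.
-/

set_option autoImplicit false

namespace H76

variable {E : Type*} [Group E] [Finite E]

theorem comm_mem_center_of_special {p : ℕ} (hE : Cfsg.IsSpecial p E) (a b : E) :
    a * b * a⁻¹ * b⁻¹ ∈ Subgroup.center E := by
  rw [← hE.2.2]
  exact Subgroup.commutator_mem_commutator (Subgroup.mem_top a) (Subgroup.mem_top b)

theorem index_centralizer_le_card_center {p : ℕ} (hE : Cfsg.IsSpecial p E) (x : E) :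
    (Subgroup.centralizer ({x} : Set E)).index ≤ Nat.card ↥(Subgroup.center E) := by
  let φ : E →* ↥(Subgroup.center E) :=
    MonoidHom.mk' (fun y => ⟨x * y * x⁻¹ * y⁻¹, comm_mem_center_of_special hE x y⟩) fun y z =>
      Subtype.ext (by
      have hz := Subgroup.mem_center_iff.mp (comm_mem_center_of_special hE x z) y
      show x * (y * z) * x⁻¹ * (y * z)⁻¹ = (x * y * x⁻¹ * y⁻¹) * (x * z * x⁻¹ * z⁻¹)
      calc x * (y * z) * x⁻¹ * (y * z)⁻¹
          = (x * y * x⁻¹ * y⁻¹) * (y * (x * z * x⁻¹ * z⁻¹)) * y⁻¹ := by group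
        _ = (x * y * x⁻¹ * y⁻¹) * ((x * z * x⁻¹ * z⁻¹) * y) * y⁻¹ := by rw [hz]
        _ = _ := by group)
  have hker : φ.ker ≤ Subgroup.centralizer ({x} : Set E) := by
    intro y hy
    rw [MonoidHom.mem_ker] at hy
    have hy' : x * y * x⁻¹ * y⁻¹ = 1 := congrArg Subtype.val hy
    rw [Subgroup.mem_centralizer_singleton_iff]
    calc y * x = (x * y * x⁻¹ * y⁻¹) * (y * x) := by rw [hy', one_mul]
      _ = x * y := by group
  calc _ ≤ φ.ker.index :=
        Nat.le_of_dvd (Nat.pos_of_ne_zero Subgroup.index_ne_zero_of_finite)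
          (Subgroup.index_dvd_of_le hker)
    _ = Nat.card φ.range := Subgroup.index_ker φ
    _ ≤ _ := Subgroup.card_le_card_group _

/-- `|E : Z(E)| ≤ |E : C(B)| · |E : B|` when all centralisers have index at most 2. -/
theorem index_center_le (hE : Cfsg.IsExtraspecial 2 E) (B : Subgroup E) :
    (Subgroup.center E).index ≤ (Subgroup.centralizer (B : Set E)).index * B.index := by
  induction hn : B.index using Nat.strong_induction_on generalizing B with
  | _ n ih =>
    subst hn
    by_cases hB : B = ⊤
    · subst hB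
      rw [Subgroup.coe_top, Subgroup.centralizer_univ, Subgroup.index_top, mul_one]
    · obtain ⟨y, -, hy⟩ := SetLike.exists_of_lt (lt_top_iff_ne_top.mpr hB)
      set B' := B ⊔ Subgroup.zpowers y with hB'
      have hlt : B < B' := lt_of_le_not_ge le_sup_left
        fun h => hy (h (Subgroup.mem_sup_right (Subgroup.mem_zpowers y)))
      have hidx : B'.index * 2 ≤ B.index := by
        rw [← Subgroup.relIndex_mul_index hlt.le, mul_comm]
        refine Nat.mul_le_mul_right _ ?_
        have h0 : B.relIndex B' ≠ 0 := by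
          intro h
          have := Subgroup.relIndex_mul_index hlt.le
          rw [h, zero_mul] at this
          exact Subgroup.index_ne_zero_of_finite this.symm
        have h1 : B.relIndex B' ≠ 1 := fun h => not_le_of_gt hlt (Subgroup.relIndex_eq_one.mp h)
        omega
      have hpos : 0 < B'.index := Nat.pos_of_ne_zero Subgroup.index_ne_zero_of_finite
      refine (ih B'.index (by omega) B' rfl).trans ?_
      have hC : Subgroup.centralizer (B : Set E) ⊓ Subgroup.centralizer ({y} : Set E)
          ≤ Subgroup.centralizer (B' : Set E) := by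
        rintro c ⟨h1, h2⟩
        rw [Subgroup.mem_centralizer_iff]
        intro b hb
        have : B' ≤ Subgroup.centralizer ({c} : Set E) := by
          refine sup_le (fun b hb => ?_) (Subgroup.zpowers_le.mpr ?_)
          · exact Subgroup.mem_centralizer_singleton_iff.mpr (Subgroup.mem_centralizer_iff.mp h1 b hb)
          · exact Subgroup.mem_centralizer_singleton_iff.mpr
              (Subgroup.mem_centralizer_singleton_iff.mp h2).symm
        exact Subgroup.mem_centralizer_singleton_iff.mp (this hb)
      have h2 : (Subgroup.centralizer (B' : Set E)).index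
          ≤ (Subgroup.centralizer (B : Set E)).index * 2 := by
        refine le_trans (Nat.le_of_dvd (Nat.pos_of_ne_zero Subgroup.index_ne_zero_of_finite)
          (Subgroup.index_dvd_of_le hC)) ?_
        refine le_trans Subgroup.index_inf_le (Nat.mul_le_mul_left _ ?_)
        exact (index_centralizer_le_card_center hE.1 y).trans_eq hE.2
      calc (Subgroup.centralizer (B' : Set E)).index * B'.index
          ≤ (Subgroup.centralizer (B : Set E)).index * 2 * B'.index := Nat.mul_le_mul_right _ h2
        _ = (Subgroup.centralizer (B : Set E)).index * (B'.index * 2) := by ring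
        _ ≤ _ := Nat.mul_le_mul_left _ hidx

/-- A maximal elementary abelian subgroup contains the centre and is self-centralising. -/
theorem extraspecial_maximal_abelian {m : ℕ} (hE : Cfsg.IsExtraspecial 2 E)
    (hcard : Nat.card E = 2 ^ (2 * m + 1)) {A : Subgroup E} (hA : Cfsg.IsElementaryAbelian 2 A)
    (hAc : Nat.card A = 2 ^ (m + 1)) :
    Subgroup.center E ≤ A ∧ Subgroup.centralizer (A : Set E) = A := by
  have hidx : (Subgroup.center E).index = 2 ^ (2 * m) := by
    have h := Subgroup.card_mul_index (Subgroup.center E)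
    rw [hE.2, hcard, pow_succ'] at h
    exact Nat.eq_of_mul_eq_mul_left two_pos h
  have bound : ∀ B : Subgroup E, B ≤ Subgroup.centralizer (B : Set E) → Nat.card B ≤ 2 ^ (m + 1) := by
    intro B hB
    have h := index_center_le hE B
    rw [hidx] at h
    have h2 : (Subgroup.centralizer (B : Set E)).index ≤ B.index :=
      Nat.le_of_dvd (Nat.pos_of_ne_zero Subgroup.index_ne_zero_of_finite) (Subgroup.index_dvd_of_le hB)
    have h3 : 2 ^ m ≤ B.index := by
      by_contra hlt
      push Not at hlt
      have hsq : B.index * B.index < 2 ^ m * 2 ^ m := Nat.mul_self_lt_mul_self hlt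
      have h4 : 2 ^ (2 * m) ≤ B.index * B.index := h.trans (Nat.mul_le_mul_right _ h2)
      rw [← pow_add, ← two_mul] at hsq
      omega
    have h5 := Subgroup.card_mul_index B
    rw [hcard] at h5
    by_contra hlt
    push Not at hlt
    have h6 : 2 ^ (m + 1) * 2 ^ m < Nat.card B * B.index :=
      Nat.mul_lt_mul_of_lt_of_le hlt h3 (Nat.pos_of_ne_zero Subgroup.index_ne_zero_of_finite)
    rw [← pow_add, show m + 1 + m = 2 * m + 1 by ring, h5] at h6
    exact lt_irrefl _ h6
  have hAA : A ≤ Subgroup.centralizer (A : Set E) := by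
    intro a ha
    rw [Subgroup.mem_centralizer_iff]
    intro b hb
    exact congrArg Subtype.val (hA.1.is_comm.comm (⟨b, hb⟩ : A) ⟨a, ha⟩)
  have hmax : ∀ y, y ∈ Subgroup.centralizer (A : Set E) → y ∈ A := by
    intro y hy
    by_contra hyA
    set B := A ⊔ Subgroup.zpowers y
    have hBB : B ≤ Subgroup.centralizer (B : Set E) := by
      refine sup_le ?_ ?_
      · refine Subgroup.le_centralizer_iff.mp (sup_le hAA (Subgroup.zpowers_le.mpr hy))
      · refine Subgroup.le_centralizer_iff.mp (sup_le ?_ ?_)
        · refine Subgroup.le_centralizer_iff.mp (Subgroup.zpowers_le.mpr hy)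
        · exact Subgroup.le_centralizer _
    have hlt : A < B := lt_of_le_not_ge le_sup_left
      fun h => hyA (h (Subgroup.mem_sup_right (Subgroup.mem_zpowers y)))
    have h1 := bound B hBB
    rw [← hAc] at h1
    exact hlt.ne (Subgroup.eq_of_le_of_card_ge hlt.le h1)
  refine ⟨fun z hz => hmax z (Subgroup.center_le_centralizer _ hz), le_antisymm hmax hAA⟩

/-- The number of elements with nontrivial square. -/
theorem extraspecial_card_orderOf_four {m : ℕ} (hE : Cfsg.IsExtraspecial 2 E)
    (hcard : Nat.card E = 2 ^ (2 * m + 1))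
    (hplus : ∃ A : Subgroup E, Cfsg.IsElementaryAbelian 2 A ∧ Nat.card A = 2 ^ (m + 1)) :
    Nat.card {x : E // orderOf x = 4} = 2 ^ (2 * m) - 2 ^ m := by
  classical
  obtain ⟨A, hA, hAc⟩ := hplus
  obtain ⟨hZA, hCA⟩ := extraspecial_maximal_abelian hE hcard hA hAc
  have hsq : ∀ x : E, x ^ 2 ∈ Subgroup.center E := fun x => by
    rw [← hE.1.2.1]
    exact pow_mem_frattini hE.1.1 x
  have hfour : ∀ x : E, orderOf x = 4 ↔ x ^ 2 ≠ 1 := by
    intro x
    constructor
    · intro h h2
      have := Nat.le_of_dvd two_pos (orderOf_dvd_of_pow_eq_one h2)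
      omega
    · intro h2
      have h4 : x ^ (2 ^ (1 + 1)) = 1 := by
        have h := hA.2 _ (hZA (hsq x))
        rwa [← pow_mul] at h
      simpa using orderOf_eq_prime_pow (p := 2) (x := x) (n := 1) (by simpa using h2) h4
  have hAn : A.Normal := by
    refine Subgroup.Normal.of_commutator_le E ?_
    rw [hE.1.2.2]
    exact hZA
  have hex : ∀ q : E ⧸ A, ∃ c ∈ A, ∀ x : E, (x : E ⧸ A) = q → x ∉ A →
      x⁻¹ * c * x * c⁻¹ ≠ 1 := by
    intro q
    obtain ⟨y, rfl⟩ := QuotientGroup.mk_surjective q
    by_cases hy : y ∈ A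
    · refine ⟨1, A.one_mem, fun x hx hxA => absurd ?_ hxA⟩
      have := QuotientGroup.eq.mp hx.symm
      simpa using A.mul_mem hy this
    · have : y ∉ Subgroup.centralizer (A : Set E) := by rwa [hCA]
      rw [Subgroup.mem_centralizer_iff] at this
      push Not at this
      obtain ⟨c, hc, hne⟩ := this
      refine ⟨c, hc, fun x hx _ h => hne ?_⟩
      have ha : y⁻¹ * x ∈ A := QuotientGroup.eq.mp hx.symm
      set a := y⁻¹ * x
      have hxe : x = y * a := by simp [a]
      have hac : a * c = c * a := congrArg Subtype.val (hA.1.is_comm.comm (⟨a, ha⟩ : A) ⟨c, hc⟩)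
      rw [hxe] at h
      have h' : c * (y * a) = (y * a) * c := by
        calc c * (y * a) = (y * a) * ((y * a)⁻¹ * c * (y * a) * c⁻¹) * c := by group
          _ = (y * a) * c := by rw [h, mul_one]
      calc c * y = c * (y * a) * a⁻¹ := by group
        _ = (y * a) * c * a⁻¹ := by rw [h']
        _ = y * (a * c) * a⁻¹ := by group
        _ = y * (c * a) * a⁻¹ := by rw [hac]
        _ = y * c := by group
  choose c hcA hc using hex
  let f : E → E := fun x => x * c (x : E ⧸ A)
  have hmk : ∀ x : E, ((f x : E) : E ⧸ A) = (x : E ⧸ A) := fun x => by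
    simp only [f]
    exact QuotientGroup.mk_mul_of_mem x (hcA _)
  have hff : ∀ x : E, f (f x) = x := by
    intro x
    show f x * c ((f x : E) : E ⧸ A) = x
    rw [hmk]
    show x * c _ * c _ = x
    rw [mul_assoc, ← pow_two, hA.2 _ (hcA _), mul_one]
  have hcard2 : ∀ u v : E, u ∈ Subgroup.center E → v ∈ Subgroup.center E → u ≠ 1 → v ≠ 1 → u = v := by
    intro u v hu hv hu1 hv1
    by_contra huv
    have h3 : ({1, u, v} : Finset E).card = 3 := Finset.card_eq_three.mpr
      ⟨1, u, v, hu1.symm, hv1.symm, huv, rfl⟩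
    have h4 : Nat.card ↥({1, u, v} : Finset E) ≤ Nat.card ↥(Subgroup.center E) := by
      refine Nat.card_le_card_of_injective (fun w => ⟨w.1, ?_⟩) fun w w' h =>
        Subtype.ext (congrArg (fun s : ↥(Subgroup.center E) => (s : E)) h)
      have := w.2
      simp only [Finset.mem_insert, Finset.mem_singleton] at this
      rcases this with h | h | h <;> rw [h]
      · exact Subgroup.one_mem _
      · exact hu
      · exact hv
    rw [Nat.card_eq_fintype_card, Fintype.card_coe, h3, hE.2] at h4
    omega
  have hflip : ∀ x, x ∉ A → (f x ^ 2 = 1 ↔ x ^ 2 ≠ 1) := by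
    intro x hx
    set d := c (x : E ⧸ A) with hd
    set z := x⁻¹ * d * x * d⁻¹ with hzdef
    have hz : z ≠ 1 := hc _ x rfl hx
    have hzc : z ∈ Subgroup.center E := by
      have := comm_mem_center_of_special hE.1 x⁻¹ d
      rwa [inv_inv] at this
    have hd2 : d⁻¹ = d := inv_eq_of_mul_eq_one_right (by rw [← pow_two]; exact hA.2 _ (hcA _))
    have hfx : f x ^ 2 = x ^ 2 * z := by
      show (x * d) ^ 2 = _
      rw [hzdef, hd2, pow_two, pow_two]
      group
    rw [hfx]
    constructor
    · intro h h'
      rw [h', one_mul] at h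
      exact hz h
    · intro h
      have := hcard2 _ _ (hsq x) hzc h hz
      rw [this, ← pow_two]
      exact hA.2 z (hZA hzc)
  let S : Set E := {x | x ∉ A ∧ x ^ 2 = 1}
  let T : Set E := {x | x ^ 2 ≠ 1}
  have hTA : ∀ x ∈ T, x ∉ A := fun x hx h => hx (hA.2 x h)
  have hSTcard : S.ncard = T.ncard := by
    refine Set.ncard_congr (fun x _ => f x) ?_ ?_ ?_
    · intro x hx h
      exact (hflip x hx.1).mp h hx.2
    · intro a b _ _ h
      rw [← hff a, ← hff b, h]
    · intro y hy
      refine ⟨f y, ⟨fun h => hTA y hy ?_, ((hflip y (hTA y hy)).mpr hy)⟩, hff y⟩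
      exact (A.mul_mem_cancel_right (hcA _)).mp h
  have hAset : (A : Set E).ncard = 2 ^ (m + 1) := by
    rw [← hAc]; exact (Nat.card_coe_set_eq _).symm
  have hTc : (Tᶜ : Set E) = (A : Set E) ∪ S := by
    ext x
    simp only [T, S, Set.mem_compl_iff, Set.mem_setOf_eq, not_not, Set.mem_union, SetLike.mem_coe]
    constructor
    · intro h
      by_cases hx : x ∈ A
      · exact Or.inl hx
      · exact Or.inr ⟨hx, h⟩
    · rintro (h | h)
      · exact hA.2 x h
      · exact h.2
  have hdisj : Disjoint (A : Set E) S := Set.disjoint_left.mpr fun x hx hS => hS.1 hx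
  have htot := Set.ncard_add_ncard_compl T
  rw [hTc, Set.ncard_union_eq hdisj, hSTcard, hAset, hcard] at htot
  have hT : Nat.card {x : E // orderOf x = 4} = T.ncard := by
    rw [← Nat.card_coe_set_eq]
    exact Nat.card_congr (Equiv.subtypeEquivRight hfour)
  rw [hT]
  rw [pow_succ, pow_succ] at htot
  omega

end H76
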