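import Mathlib
import Cfsg.Agent.H57.SzTwo
import Cfsg.Agent.H57.SzTorus
import Cfsg.Agent.H97.Schur

/-!
The Schur multiplier of `Sz(q)`, `q ≥ 32`, is trivial.
-/

set_option autoImplicit false

namespace H76.SzMult

open Subgroup
open scoped commutatorElement

section generic

variable {F Γ : Type*} [Field F] [Fintype F] [Group Γ]

/-- A biadditive map with `B (k a) (μ k b) = B a b` vanishes if `k ↦ (μ k)⁻¹` is not additive. -/
theorem vanish (B : F → F → Γ) (μ : F → F) (hμ : ∀ k, k ≠ 0 → μ k ≠ 0) (h1 : μ 1 = 1)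
    (hl : ∀ a a' b, B (a + a') b = B a b * B a' b) (hr : ∀ a b b', B a (b + b') = B a b * B a b')
    (h2 : (2 : F) = 0) (hinv : ∀ k, k ≠ 0 → ∀ a b, B (k * a) (μ k * b) = B a b) (x : F)
    (hx : x ≠ 0) (hx1 : 1 + x ≠ 0) (hj : (μ (1 + x))⁻¹ + 1 + (μ x)⁻¹ ≠ 0) :
    ∀ a b, B a b = 1 := by
  have hh : ∀ a, a ≠ 0 → ∀ b, B a b = B 1 (b * (μ a)⁻¹) := fun a ha b => by
    rw [← hinv a ha 1 (b * (μ a)⁻¹), mul_one, ← mul_assoc, mul_comm _ b, mul_assoc,
      mul_inv_cancel₀ (hμ a ha), mul_one]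
  have h0 : B 1 0 = 1 := by
    have := hr 1 0 0
    rw [add_zero] at this
    exact left_eq_mul.1 this
  have key : ∀ b, B 1 b = 1 := by
    intro b
    obtain ⟨u, rfl⟩ : ∃ u, b = u * (μ (1 + x))⁻¹ + u + u * (μ x)⁻¹ :=
      ⟨b / ((μ (1 + x))⁻¹ + 1 + (μ x)⁻¹), (div_mul_cancel₀ b hj).symm.trans (by ring)⟩
    have e : B 1 (u * (μ (1 + x))⁻¹) = B 1 (u + u * (μ x)⁻¹) := by
      rw [← hh _ hx1, hl, hh x hx, hr]
    rw [add_assoc, hr, e, ← hr, show (u + u * (μ x)⁻¹) + (u + u * (μ x)⁻¹) = 0 by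
      linear_combination (u + u * (μ x)⁻¹) * h2, h0]
  intro a b
  by_cases ha : a = 0
  · subst ha
    have := hl 0 0 b
    rw [add_zero] at this
    exact left_eq_mul.1 this
  · rw [hh a ha, key]

theorem exists_nonroot (P : Polynomial F) (hP : P ≠ 0) (hd : P.natDegree + 2 < Fintype.card F) :
    ∃ x : F, x ≠ 0 ∧ x ≠ 1 ∧ P.eval x ≠ 0 := by
  classical
  have h : (({0, 1} : Finset F) ∪ P.roots.toFinset).card < (Finset.univ : Finset F).card := by
    rw [Finset.card_univ]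
    refine lt_of_le_of_lt (Finset.card_union_le _ _) ?_
    have h1 : ({0, 1} : Finset F).card ≤ 2 := Finset.card_le_two
    have h2 := (Multiset.toFinset_card_le P.roots).trans (Polynomial.card_roots' P)
    omega
  obtain ⟨x, -, hx⟩ := Finset.exists_mem_notMem_of_card_lt_card h
  simp only [Finset.mem_union, Finset.mem_insert, Finset.mem_singleton, Multiset.mem_toFinset,
    Polynomial.mem_roots hP, Polynomial.IsRoot.def, not_or] at hx
  exact ⟨x, hx.1.1, hx.1.2, hx.2⟩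

end generic

variable {F : Type*} [Field F] [Fintype F] {m : ℕ}

theorem exists_not_additive_id (hm : 1 ≤ m) (hF : Fintype.card F = 2 ^ (2 * m + 1)) :
    ∃ x : F, x ≠ 0 ∧ 1 + x ≠ 0 ∧ (1 + x)⁻¹ + 1 + x⁻¹ ≠ 0 := by
  have hP : (Polynomial.X ^ 2 + Polynomial.X + 1 : Polynomial F) ≠ 0 := by
    intro h
    simpa using congrArg (Polynomial.eval 0) h
  obtain ⟨x, h0, h1, he⟩ := exists_nonroot _ hP (by
    have h8 : 2 ^ 3 ≤ 2 ^ (2 * m + 1) := Nat.pow_le_pow_right (by norm_num) (by omega)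
    have : (Polynomial.X ^ 2 + Polynomial.X + 1 : Polynomial F).natDegree ≤ 2 := by
      compute_degree
    omega)
  have hx1 : 1 + x ≠ 0 := fun h => h1 (by linear_combination h - H57.two_eq_zero hF)
  refine ⟨x, h0, hx1, fun h => he ?_⟩
  simp only [Polynomial.eval_add, Polynomial.eval_pow, Polynomial.eval_X, Polynomial.eval_one]
  field_simp at h
  linear_combination h - x * H57.two_eq_zero hF

theorem exists_not_additive_th (hm : 2 ≤ m) (hF : Fintype.card F = 2 ^ (2 * m + 1)) :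
    ∃ x : F, x ≠ 0 ∧ 1 + x ≠ 0 ∧
      (H57.th m (1 + x) * (1 + x))⁻¹ + 1 + (H57.th m x * x)⁻¹ ≠ 0 := by
  set N := 2 ^ (m + 1) with hN
  let P : Polynomial F := Polynomial.X ^ (2 * N + 2) + Polynomial.X ^ (2 * N + 1) +
    Polynomial.X ^ (N + 2) + Polynomial.X ^ (N + 1) + Polynomial.X ^ N + Polynomial.X + 1
  have hN8 : 2 ^ 3 ≤ N := Nat.pow_le_pow_right (by norm_num) (by omega)
  have hP : P ≠ 0 := by
    intro h
    have := congrArg (Polynomial.eval 0) h
    simp [P, Nat.pos_iff_ne_zero.1 (show 0 < N by omega)] at this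
  obtain ⟨x, h0, h1, he⟩ := exists_nonroot P hP (by
    have hq : 4 * N ≤ 2 ^ (2 * m + 1) := by
      rw [hN, show 4 * 2 ^ (m + 1) = 2 ^ (m + 3) by rw [pow_add]; ring]
      exact Nat.pow_le_pow_right (by norm_num) (by omega)
    have : P.natDegree ≤ 2 * N + 2 := by
      simp only [P]
      compute_degree <;> omega
    omega)
  have hx1 : 1 + x ≠ 0 := fun h => h1 (by linear_combination h - H57.two_eq_zero hF)
  have ht0 : H57.th m x ≠ 0 := fun h => h0 (H57.th_eq_zero.1 h)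
  have ht1 : 1 + H57.th m x ≠ 0 := by
    rw [← H57.th_one (F := F) m, ← H57.th_add hF]
    exact fun h => hx1 (H57.th_eq_zero.1 h)
  refine ⟨x, h0, hx1, fun h => he ?_⟩
  rw [H57.th_add hF, H57.th_one] at h
  field_simp at h
  simp only [P, Polynomial.eval_add, Polynomial.eval_mul, Polynomial.eval_pow, Polynomial.eval_X,
    Polynomial.eval_one, pow_add, two_mul, pow_one]
  rw [show x ^ N = H57.th m x from rfl]
  linear_combination h - x * H57.th m x * H57.two_eq_zero hF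

variable {Γ : Type*} [Group Γ]

theorem comm_congr {S : Type*} [Group S] (π : Γ →* S) (hc : π.ker ≤ center Γ) {x x' y y' : Γ}
    (hx : π x = π x') (hy : π y = π y') : ⁅x, y⁆ = ⁅x', y'⁆ := by
  have hzx : x'⁻¹ * x ∈ center Γ := hc (by simp [MonoidHom.mem_ker, hx])
  have hzy : y'⁻¹ * y ∈ center Γ := hc (by simp [MonoidHom.mem_ker, hy])
  have e1 : ⁅x' * (x'⁻¹ * x), y⁆ = ⁅x', y⁆ := by
    rw [commutatorElement_mul_left_eq_conj_mul,
      commutatorElement_eq_one_iff_mul_comm.2 (mem_center_iff.1 hzx y).symm, mul_one,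
      mul_inv_cancel, one_mul]
  have e2 : ⁅x', y' * (y'⁻¹ * y)⁆ = ⁅x', y'⁆ := by
    rw [commutatorElement_mul_right_eq_mul_conj,
      commutatorElement_eq_one_iff_mul_comm.2 (mem_center_iff.1 hzy x'), mul_one,
      mul_inv_cancel_right]
  rw [mul_inv_cancel_left] at e1 e2
  rw [e1, e2]

theorem comm_mul_left {x x' y : Γ} (h : Commute x ⁅x', y⁆) :
    ⁅x * x', y⁆ = ⁅x', y⁆ * ⁅x, y⁆ := by
  rw [commutatorElement_mul_left_eq_conj_mul, h.eq, mul_inv_cancel_right]

theorem comm_mul_right {x y y' : Γ} (h : Commute y ⁅x, y'⁆) :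
    ⁅x, y * y'⁆ = ⁅x, y⁆ * ⁅x, y'⁆ := by
  rw [commutatorElement_mul_right_eq_mul_conj, mul_assoc ⁅x, y⁆ y, h.eq, ← mul_assoc,
    mul_inv_cancel_right]

open scoped IsMulCommutative in
/-- Above the Sylow 2-subgroup, the derived subgroup meets the central kernel trivially. -/
theorem eq_one_of_mem (hm : 2 ≤ m) (hF : Fintype.card F = 2 ^ (2 * m + 1))
    (π : Γ →* Cfsg.Sz F m) (hs : Function.Surjective π) (hc : π.ker ≤ center Γ) {z : Γ}
    (hzK : π z = 1)
    (hz : z ∈ ⁅(H57.tSub hF).comap π, (H57.tSub hF).comap π⁆) : z = 1 := by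
  classical
  have two := H57.two_eq_zero hF
  choose s hs' using fun a : F => hs (H57.tEl hF a 0)
  choose ζ hζ using fun b : F => hs (H57.tEl hF 0 b)
  choose d hd using fun k : Fˣ => hs (H57.dEl hF k)
  let w : F → F := fun k => H57.th m k * k
  have hconjt : ∀ (k : Fˣ) (a b : F) (x : Γ), π x = H57.tEl hF a b →
      π (d k * x * (d k)⁻¹) = H57.tEl hF (k * a) (w k * b) := by
    intro k a b x hx
    rw [map_mul, map_mul, map_inv, hd, hx, H57.dEl_tEl, mul_inv_cancel_right]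
  have tz : ∀ b b' : F, H57.tEl hF 0 b * H57.tEl hF 0 b' = H57.tEl hF 0 (b + b') := by
    intro b b'
    simp [H57.tEl_mul]
  have ts : ∀ a b : F, H57.tEl hF a 0 * H57.tEl hF 0 b = H57.tEl hF a b := by
    intro a b
    simp [H57.tEl_mul]
  have tcc : ∀ a b c : F, H57.tEl hF a b * H57.tEl hF 0 c = H57.tEl hF 0 c * H57.tEl hF a b := by
    intro a b c
    simp [H57.tEl_mul, add_comm]
  have hcen : ∀ {x y : Γ} (a b c : F), π x = H57.tEl hF a b → π y = H57.tEl hF 0 c →
      ⁅x, y⁆ ∈ center Γ := fun a b c hx hy => hc (by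
    rw [MonoidHom.mem_ker, map_commutatorElement, hx, hy, commutatorElement_eq_one_iff_mul_comm]
    exact tcc a b c)
  have hw : ∀ k : F, k ≠ 0 → w k ≠ 0 := fun k hk =>
    mul_ne_zero (fun h => hk (H57.th_eq_zero.1 h)) hk
  have hinvC : ∀ (k : Fˣ) (a b c : F) (x y x' y' : Γ), π x = H57.tEl hF a b → π y = H57.tEl hF 0 c →
      π x' = H57.tEl hF (k * a) (w k * b) → π y' = H57.tEl hF 0 (w k * c) → ⁅x', y'⁆ = ⁅x, y⁆ := by
    intro k a b c x y x' y' hx hy hx' hy'
    rw [comm_congr π hc (hx'.trans (hconjt k a b x hx).symm)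
      (hy'.trans (by rw [hconjt k 0 c y hy, mul_zero])), ← conjugate_commutatorElement,
      mem_center_iff.1 (hcen a b c hx hy) (d k), mul_inv_cancel_right]
  -- the preimage of the centre is abelian
  have hβ : ∀ b b', ⁅ζ b, ζ b'⁆ = 1 := by
    obtain ⟨x, hx0, hx1, hx⟩ := exists_not_additive_id (by omega : 1 ≤ m) hF
    obtain ⟨k₀, hk₀⟩ := (H57.th_mul_self_bij (m := m) hF).2 x
    refine vanish (fun b b' => ⁅ζ b, ζ b'⁆) id (fun k h => h) rfl ?_ ?_ two ?_ x hx0 hx1 hx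
    · intro a a' b
      show ⁅ζ (a + a'), ζ b⁆ = ⁅ζ a, ζ b⁆ * ⁅ζ a', ζ b⁆
      rw [comm_congr π hc (x := ζ (a + a')) (x' := ζ a' * ζ a) (y := ζ b) (y' := ζ b)
        (by rw [map_mul, hζ, hζ, hζ, tz, add_comm]) rfl,
        comm_mul_left (mem_center_iff.1 (hcen 0 _ _ (hζ a) (hζ b)) (ζ a'))]
    · intro a b b'
      show ⁅ζ a, ζ (b + b')⁆ = ⁅ζ a, ζ b⁆ * ⁅ζ a, ζ b'⁆
      rw [comm_congr π hc (x := ζ a) (x' := ζ a) (y := ζ (b + b')) (y' := ζ b * ζ b') rfl
        (by rw [map_mul, hζ, hζ, hζ, tz]),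
        comm_mul_right (mem_center_iff.1 (hcen 0 _ _ (hζ a) (hζ b')) (ζ b))]
    · intro k hk a b
      obtain ⟨l, hl⟩ := (H57.th_mul_self_bij (m := m) hF).2 k
      simp only at hl
      have hl0 : l ≠ 0 := fun h => hk (by rw [← hl, h, H57.th_zero, zero_mul])
      refine hinvC (Units.mk0 l hl0) 0 a b _ _ _ _ (hζ a) (hζ b) ?_ ?_
      · rw [hζ, mul_zero, Units.val_mk0]; simp only [w, hl]
      · rw [hζ, Units.val_mk0]; simp only [w, hl, id]
  -- and central in the preimage of the Sylow subgroup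
  have hγ : ∀ a b, ⁅s a, ζ b⁆ = 1 := by
    obtain ⟨x, hx0, hx1, hx⟩ := exists_not_additive_th hm hF
    refine vanish (fun a b => ⁅s a, ζ b⁆) w hw (by simp [w]) ?_ ?_ two ?_ x hx0 hx1 hx
    · intro a a' b
      show ⁅s (a + a'), ζ b⁆ = ⁅s a, ζ b⁆ * ⁅s a', ζ b⁆
      rw [comm_congr π hc (x := s (a + a')) (x' := s a' * s a * ζ (H57.th m a' * a)) (y := ζ b)
        (y' := ζ b) (by
          rw [map_mul, map_mul, hs', hs', hs', hζ, H57.tEl_mul, H57.tEl_mul]
          simp only [H57.th_add hF, H57.th_zero, zero_mul, mul_zero, add_zero, zero_add]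
          congr 1
          · exact add_comm _ _
          · linear_combination -(H57.th m a' * a) * two) rfl,
        commutatorElement_mul_left_eq_conj_mul (s a' * s a), hβ, mul_one, mul_inv_cancel, one_mul,
        comm_mul_left (mem_center_iff.1 (hcen _ _ _ (hs' a) (hζ b)) (s a'))]
    · intro a b b'
      show ⁅s a, ζ (b + b')⁆ = ⁅s a, ζ b⁆ * ⁅s a, ζ b'⁆
      rw [comm_congr π hc (x := s a) (x' := s a) (y := ζ (b + b')) (y' := ζ b * ζ b') rfl
        (by rw [map_mul, hζ, hζ, hζ, tz]),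
        comm_mul_right (mem_center_iff.1 (hcen _ _ _ (hs' a) (hζ b')) (ζ b))]
    · intro k hk a b
      refine hinvC (Units.mk0 k hk) a 0 b _ _ _ _ (hs' a) (hζ b) ?_ ?_
      · rw [hs', mul_zero, Units.val_mk0]
      · rw [hζ, Units.val_mk0]
  have hdec : ∀ {g : Γ} (a b : F), π g = H57.tEl hF a b → π g = π (s a * ζ b) := fun a b h => by
    rw [h, map_mul, hs', hζ, ts]
  have hZc : ∀ {g e : Γ} (a b c : F), π g = H57.tEl hF a b → π e = H57.tEl hF 0 c → Commute g e := by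
    intro g e a b c hg he
    refine commutatorElement_eq_one_iff_commute.1 ?_
    rw [comm_congr π hc (hdec a b hg) (he.trans (hζ c).symm),
      commutatorElement_mul_left_eq_conj_mul, hβ, hγ, mul_one, mul_one, mul_inv_cancel]
  -- the abelian subgroup and its averaging map
  let A : Subgroup Γ :=
    { carrier := {g | ∃ b, π g = H57.tEl hF 0 b}
      one_mem' := ⟨0, by rw [map_one, H57.tEl_zero]⟩
      mul_mem' := by
        rintro g h ⟨b, hb⟩ ⟨b', hb'⟩
        exact ⟨b + b', by rw [map_mul, hb, hb', tz]⟩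
      inv_mem' := by
        rintro g ⟨b, hb⟩
        refine ⟨b, ?_⟩
        rw [map_inv, hb, inv_eq_iff_mul_eq_one, tz, ← H57.tEl_zero hF]
        congr 1
        linear_combination b * two }
  haveI : IsMulCommutative A := ⟨⟨fun g h => by
    obtain ⟨b, hb⟩ := g.2
    obtain ⟨b', hb'⟩ := h.2
    exact Subtype.ext (hZc 0 b b' hb hb')⟩⟩
  have hφm : ∀ (k : Fˣ) (g : A), d k * g * (d k)⁻¹ ∈ A := fun k g => by
    obtain ⟨b, hb⟩ := g.2
    exact ⟨w k * b, by rw [hconjt k 0 b g hb, mul_zero]⟩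
  let φ : Fˣ → (A →* A) := fun k => MonoidHom.mk' (fun g => ⟨d k * g * (d k)⁻¹, hφm k g⟩)
    (fun g h => Subtype.ext (by simp [mul_assoc]))
  let Nf : A →* A := ∏ k : Fˣ, φ k
  have hNf : ∀ g : A, Nf g = ∏ k : Fˣ, φ k g := fun g => MonoidHom.finsetProd_apply _ _ _
  have hπc : ∀ a a', ⁅s a, s a'⁆ ∈ A := fun a a' =>
    ⟨_, by rw [map_commutatorElement, hs', hs', H57.tSub_commutator_value]⟩
  let c : F → F → A := fun a a' => ⟨⁅s a, s a'⁆, hπc a a'⟩
  have hsA : ∀ a (e : A), Commute (s a) (e : Γ) := fun a e => by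
    obtain ⟨b, hb⟩ := e.2
    exact hZc a 0 b (hs' a) hb
  have cl : ∀ a a' b, c (a + a') b = c a b * c a' b := by
    intro a a' b
    apply Subtype.ext
    show ⁅s (a + a'), s b⁆ = ⁅s a, s b⁆ * ⁅s a', s b⁆
    rw [comm_congr π hc (x := s (a + a')) (x' := s a' * s a * ζ (H57.th m a' * a)) (y := s b)
      (y' := s b) (by
        rw [map_mul, map_mul, hs', hs', hs', hζ, H57.tEl_mul, H57.tEl_mul]
        simp only [H57.th_add hF, H57.th_zero, zero_mul, mul_zero, add_zero, zero_add]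
        congr 1
        · exact add_comm _ _
        · linear_combination -(H57.th m a' * a) * two) rfl,
      commutatorElement_mul_left_eq_conj_mul (s a' * s a),
      commutatorElement_eq_one_iff_commute.2 (hZc b 0 _ (hs' b) (hζ _)).symm, mul_one,
      mul_inv_cancel, one_mul, comm_mul_left (hsA a' (c a b))]
  have cr : ∀ a b b', c a (b + b') = c a b * c a b' := by
    intro a b b'
    apply Subtype.ext
    show ⁅s a, s (b + b')⁆ = ⁅s a, s b⁆ * ⁅s a, s b'⁆
    rw [comm_congr π hc (x := s a) (x' := s a) (y := s (b + b'))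
      (y' := s b * s b' * ζ (H57.th m b * b')) rfl (by
        rw [map_mul, map_mul, hs', hs', hs', hζ, H57.tEl_mul, H57.tEl_mul]
        simp only [H57.th_add hF, H57.th_zero, zero_mul, mul_zero, add_zero, zero_add]
        congr 1
        linear_combination -(H57.th m b * b') * two),
      comm_mul_right (y := s b * s b') (y' := ζ _) (by
        rw [commutatorElement_eq_one_iff_commute.2 (hZc a 0 _ (hs' a) (hζ _))]
        exact Commute.one_right _),
      commutatorElement_eq_one_iff_commute.2 (hZc a 0 _ (hs' a) (hζ _)), mul_one,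
      comm_mul_right (hsA b (c a b'))]
  have hφc : ∀ (k : Fˣ) a b, φ k (c a b) = c (k * a) (k * b) := by
    intro k a b
    apply Subtype.ext
    show d k * ⁅s a, s b⁆ * (d k)⁻¹ = ⁅s (k * a), s (k * b)⁆
    rw [conjugate_commutatorElement]
    exact comm_congr π hc (by rw [hconjt k a 0 _ (hs' a), hs', mul_zero])
      (by rw [hconjt k b 0 _ (hs' b), hs', mul_zero])
  have hNc : ∀ a b, Nf (c a b) = 1 := by
    obtain ⟨x, hx0, hx1, hx⟩ := exists_not_additive_id (by omega : 1 ≤ m) hF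
    refine vanish (fun a b => Nf (c a b)) id (fun k h => h) rfl ?_ ?_ two ?_ x hx0 hx1 hx
    · intro a a' b; simp only [cl, map_mul]
    · intro a b b'; simp only [cr, map_mul]
    · intro k hk a b
      simp only [hNf, hφc, id]
      refine Fintype.prod_equiv (Equiv.mulRight (Units.mk0 k hk)) _ _ fun l => ?_
      simp [mul_assoc]
  have hc2 : ∀ a b, c a b * c a b = 1 := by
    intro a b
    rw [← cl, show a + a = 0 by linear_combination a * two]
    have := cl 0 0 b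
    rw [add_zero] at this
    exact left_eq_mul.1 this
  let E : Subgroup Γ := ((Nf.ker) ⊓ (powMonoidHom 2 : A →* A).ker).map A.subtype
  have hE : ⁅(H57.tSub hF).comap π, (H57.tSub hF).comap π⁆ ≤ E := by
    refine Subgroup.commutator_le.2 ?_
    rintro g ⟨a, b, hg⟩ g' ⟨a', b', hg'⟩
    refine ⟨c a a', ⟨hNc a a', ?_⟩, ?_⟩
    · show (c a a') ^ 2 = 1
      rw [sq, hc2]
    · show ⁅s a, s a'⁆ = ⁅g, g'⁆
      rw [comm_congr π hc (hdec a b hg) (hdec a' b' hg'), commutatorElement_mul_left_eq_conj_mul,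
        commutatorElement_eq_one_iff_commute.2
          (hZc (g := s a' * ζ b') a' b' b (by rw [map_mul, hs', hζ, ts]) (hζ b)).symm,
        mul_one, mul_inv_cancel, one_mul, commutatorElement_mul_right_eq_mul_conj,
        commutatorElement_eq_one_iff_commute.2 (hZc a 0 b' (hs' a) (hζ b')), mul_one,
        mul_inv_cancel_right]
  obtain ⟨⟨z', hz'A⟩, ⟨hN, h2'⟩, rfl⟩ := hE hz
  replace hN : Nf ⟨z', hz'A⟩ = 1 := hN
  replace h2' : (⟨z', hz'A⟩ : A) ^ 2 = 1 := h2'
  have hfix : ∀ k : Fˣ, φ k ⟨z', hz'A⟩ = ⟨z', hz'A⟩ := fun k => Subtype.ext (by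
    show d k * z' * (d k)⁻¹ = z'
    rw [show d k * z' = z' * d k from mem_center_iff.1 (hc hzK) (d k), mul_inv_cancel_right])
  rw [hNf] at hN
  simp only [hfix, Finset.prod_const, Finset.card_univ] at hN
  have hodd : (Fintype.card Fˣ).Coprime 2 := by
    rw [Fintype.card_units, hF, Nat.coprime_two_right, Nat.odd_iff]
    have : 2 ∣ 2 ^ (2 * m + 1) := H57.q_even m
    have : 0 < 2 ^ (2 * m + 1) := Nat.two_pow_pos _
    omega
  have h1 : (⟨z', hz'A⟩ : A) = 1 := by
    rw [← orderOf_eq_one_iff]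
    exact Nat.eq_one_of_dvd_coprimes hodd (orderOf_dvd_of_pow_eq_one hN)
      (orderOf_dvd_of_pow_eq_one h2')
  exact congrArg Subtype.val h1

/-- Stem extensions of `Sz(q)`, `q ≥ 32`, are trivial. -/
theorem ker_eq_bot (hm : 2 ≤ m) (hF : Fintype.card F = 2 ^ (2 * m + 1)) [Finite Γ]
    (σ : Γ →* Cfsg.Sz F m) (hσ : Cfsg.IsStemExtension σ) : σ.ker = ⊥ := by
  refine H97.ker_eq_bot_of_sylow hσ ?_
  intro p hp P z hzP hzK hzd
  by_cases hp2 : p = 2
  · subst hp2
    haveI : Fact (Nat.Prime 2) := hp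
    obtain ⟨Q, hQ⟩ := (P.isPGroup'.map σ).exists_le_sylow
    obtain ⟨g, hg⟩ := MulAction.exists_smul_eq (Cfsg.Sz F m) Q (H57.tSylow (by omega) hF)
    obtain ⟨g, rfl⟩ := hσ.1 g
    have hmap : (P : Subgroup Γ).map (MulAut.conj g).toMonoidHom ≤ (H57.tSub hF).comap σ := by
      rintro _ ⟨x, hx, rfl⟩
      rw [Subgroup.mem_comap, ← H57.coe_tSylow (by omega : 1 ≤ m) hF, ← hg, Sylow.coe_subgroup_smul]
      exact Subgroup.mem_pointwise_smul_iff_inv_smul_mem.2 (by
        simpa [MulAut.smul_def, MulAut.conj_apply, mul_assoc] using hQ ⟨x, hx, rfl⟩)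
    have hzc : z ∈ ⁅(P : Subgroup Γ), (P : Subgroup Γ)⁆ := by
      rw [← Subgroup.map_subtype_commutator]
      exact ⟨_, hzd, rfl⟩
    refine eq_one_of_mem hm hF σ hσ.1 hσ.2.1 hzK
      (Subgroup.commutator_mono hmap hmap ?_)
    rw [← Subgroup.map_commutator]
    refine ⟨z, hzc, ?_⟩
    show g * z * g⁻¹ = z
    rw [mem_center_iff.1 (hσ.2.1 hzK) g, mul_inv_cancel_right]
  · haveI := H57.odd_pgroup_cyclic (by omega : 1 ≤ m) hF hp2 ((P : Subgroup Γ).map σ)
      (P.isPGroup'.map σ)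
    obtain ⟨⟨c, hc⟩, hgen⟩ := IsCyclic.exists_generator (α := ((P : Subgroup Γ).map σ))
    obtain ⟨c', rfl⟩ := hσ.1 c
    have mem : ∀ x : P, σ x ∈ zpowers (σ c') := fun x => by
      obtain ⟨k, hk⟩ := mem_zpowers_iff.1 (hgen ⟨σ x, mem_map_of_mem σ x.2⟩)
      exact mem_zpowers_iff.2 ⟨k, congrArg Subtype.val hk⟩
    exact congrArg Subtype.val (H97.commutator_trivial_of_comm
      (fun a b : P => Subtype.ext (H97.commute_of_map_cyclic hσ.2.1 c' (mem a) (mem b))) hzd)

end H76.SzMult
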