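import Cfsg.Prelude.Def_CaseTheorems
import Cfsg.Agent.H5.SL23Section
import Cfsg.Agent.H10.PSolvable
import Cfsg.Agent.H75.Basic

/-!
Core-free solvable groups with a dihedral or semidihedral Sylow `2`-subgroup whose centre is normal.
-/

set_option autoImplicit false

namespace H76.DihSyl

open Subgroup
open scoped commutatorElement

variable {G : Type*} [Group G]

/-- `T` has a cyclic subgroup of index two outside of which all elements have order at most four,
and a non-central involution. -/
def Frame (T : Subgroup G) (c : G) : Prop :=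
  c ∈ T ∧ (∀ g ∈ T, ∀ g' ∈ T, g ∉ zpowers c → g' ∉ zpowers c → g * g' ∈ zpowers c) ∧
    (∀ g ∈ T, g ∉ zpowers c → g ^ 4 = 1) ∧ ∃ y ∈ T, y * y = 1 ∧ ¬ Commute y c

theorem exists_frame_of_iso {T : Subgroup G} {n : ℕ} (hn : 4 ≤ n) (e : T ≃* DihedralGroup n) :
    ∃ c, Frame T c := by
  set c : T := e.symm (DihedralGroup.r 1)
  refine ⟨c, c.2, ?_, ?_, ?_⟩
  all_goals
    have hmem : ∀ g : T, (g : G) ∈ zpowers (c : G) ↔ ∃ i : ZMod n, e g = DihedralGroup.r i := by
      intro g
      constructor
      · rintro ⟨i, hi⟩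
        have h1 : c ^ i = g := Subtype.ext (by simpa using hi)
        refine ⟨(i : ZMod n), ?_⟩
        rw [← h1, map_zpow, MulEquiv.apply_symm_apply, DihedralGroup.r_one_zpow]
      · rintro ⟨i, hi⟩
        refine ⟨(i.cast : ℤ), ?_⟩
        have h1 : c ^ (i.cast : ℤ) = g := e.injective (by
          rw [map_zpow, MulEquiv.apply_symm_apply, DihedralGroup.r_one_zpow, ZMod.intCast_zmod_cast, hi])
        simpa using congrArg Subtype.val h1
  · intro g hg g' hg' hgc hgc'
    refine (hmem ⟨g * g', mul_mem hg hg'⟩).mpr ?_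
    have e1 : e ⟨g * g', mul_mem hg hg'⟩ = e ⟨g, hg⟩ * e ⟨g', hg'⟩ := by
      rw [← map_mul]; rfl
    rw [e1]
    cases h : e ⟨g, hg⟩ with
    | r i => exact absurd ((hmem ⟨g, hg⟩).mpr ⟨i, h⟩) hgc
    | sr i =>
      cases h' : e ⟨g', hg'⟩ with
      | r j => exact absurd ((hmem ⟨g', hg'⟩).mpr ⟨j, h'⟩) hgc'
      | sr j => exact ⟨j - i, DihedralGroup.sr_mul_sr i j⟩
  · intro g hg hgc
    have h4 : (⟨g, hg⟩ : T) ^ 4 = 1 := e.injective (by
      rw [map_pow, map_one]
      cases h : e ⟨g, hg⟩ with
      | r i => exact absurd ((hmem ⟨g, hg⟩).mpr ⟨i, h⟩) hgc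
      | sr i => rw [show (4 : ℕ) = 2 * 2 from rfl, pow_mul,
          show DihedralGroup.sr i ^ 2 = 1 by rw [pow_two, DihedralGroup.sr_mul_self], one_pow])
    simpa using congrArg Subtype.val h4
  · refine ⟨e.symm (DihedralGroup.sr 0), SetLike.coe_mem _, ?_, ?_⟩
    · rw [← Subgroup.coe_mul, ← map_mul, DihedralGroup.sr_mul_self, map_one, Subgroup.coe_one]
    · intro h
      have h1 : Commute (e.symm (DihedralGroup.sr 0)) c := Subtype.ext h.eq
      have h2 := congrArg e h1.eq
      rw [map_mul, map_mul, MulEquiv.apply_symm_apply, MulEquiv.apply_symm_apply,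
        DihedralGroup.sr_mul_r, DihedralGroup.r_mul_sr, DihedralGroup.sr.injEq] at h2
      have h3 : ((2 : ℕ) : ZMod n) = 0 := by
        push_cast
        linear_combination h2
      rw [ZMod.natCast_eq_zero_iff] at h3
      have := Nat.le_of_dvd (by norm_num) h3
      omega

theorem exists_frame_of_quasiDihedral {T : Subgroup G} (h : Cfsg.IsQuasiDihedral T) :
    ∃ c, Frame T c := by
  obtain ⟨n, hn, hcard, x, y, hx, hy, hxy⟩ := h
  have : Finite T := Nat.finite_of_card_ne_zero (by rw [hcard]; positivity)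
  have hidx : (zpowers x).index = 2 := by
    have h1 := card_mul_index (zpowers x)
    rw [Nat.card_zpowers, hx, hcard, pow_succ] at h1
    exact Nat.eq_of_mul_eq_mul_left (by positivity) h1
  have hmem : ∀ g : T, (g : G) ∈ zpowers (x : G) ↔ g ∈ zpowers x := by
    intro g
    constructor
    · rintro ⟨i, hi⟩; exact ⟨i, Subtype.ext (by simpa using hi)⟩
    · rintro ⟨i, hi⟩; exact ⟨i, by simpa using congrArg Subtype.val hi⟩
  have hyy : y * y = 1 := by rw [← pow_two, ← hy, pow_orderOf_eq_one]
  have hnc : ¬ Commute y x := by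
    intro h
    rw [h.eq, mul_inv_cancel_right] at hxy
    have h4 : 4 ≤ 2 ^ (n - 1) := by
      calc 4 = 2 ^ 2 := by norm_num
        _ ≤ 2 ^ (n - 1) := Nat.pow_le_pow_right (by norm_num) (by omega)
    have h2 : x ^ (2 ^ (n - 1) - 2) = 1 := by
      have : x ^ (2 ^ (n - 1) - 2) * x = 1 * x := by
        rw [← pow_succ, one_mul, show 2 ^ (n - 1) - 2 + 1 = 2 ^ (n - 1) - 1 by omega]
        exact hxy.symm
      exact mul_right_cancel this
    have h3 := Nat.le_of_dvd (by omega) (orderOf_dvd_of_pow_eq_one h2)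
    have h5 : 2 ^ n = 2 * 2 ^ (n - 1) := by rw [← pow_succ', Nat.sub_add_cancel (by omega)]
    omega
  refine ⟨x, x.2, fun g hg g' hg' hgc hgc' => ?_, fun g hg hgc => ?_, y, y.2, ?_, ?_⟩
  · refine (hmem ⟨g * g', mul_mem hg hg'⟩).mpr ?_
    rw [show (⟨g * g', mul_mem hg hg'⟩ : T) = ⟨g, hg⟩ * ⟨g', hg'⟩ from rfl,
      mul_mem_iff_of_index_two hidx]
    exact iff_of_false (fun h => hgc ((hmem _).mpr h)) (fun h => hgc' ((hmem _).mpr h))
  · have hyx : y ∉ zpowers x := fun h => hnc (by
      obtain ⟨i, rfl⟩ := h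
      exact (Commute.refl x).zpow_left i)
    have h1 : y * ⟨g, hg⟩ ∈ zpowers x := by
      rw [mul_mem_iff_of_index_two hidx]
      exact iff_of_false hyx (fun h => hgc ((hmem _).mpr h))
    obtain ⟨i, hi⟩ := h1
    have hg' : (⟨g, hg⟩ : T) = y * x ^ i := by
      rw [show x ^ i = y * ⟨g, hg⟩ from hi, ← mul_assoc, hyy, one_mul]
    have hsq : (⟨g, hg⟩ : T) ^ 2 = x ^ (((2 ^ (n - 1) - 1 : ℕ) : ℤ) * i + i) := by
      rw [zpow_add, zpow_mul, zpow_natCast, ← hxy, conj_zpow, hg', pow_two,
        inv_eq_of_mul_eq_one_right hyy]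
      group
    have h4 : (⟨g, hg⟩ : T) ^ 4 = 1 := by
      rw [show 4 = 2 * 2 from rfl, pow_mul, hsq, ← zpow_natCast, ← zpow_mul,
        ← orderOf_dvd_iff_zpow_eq_one, hx, Nat.cast_sub Nat.one_le_two_pow]
      refine ⟨i, ?_⟩
      push_cast
      rw [show (2 : ℤ) ^ n = 2 * 2 ^ (n - 1) by rw [← pow_succ', Nat.sub_add_cancel (by omega)]]
      ring
    simpa using congrArg Subtype.val h4
  · simpa using congrArg Subtype.val hyy
  · exact fun h => hnc (Subtype.ext h.eq)

/-- An element of odd order normalising a cyclic `2`-group centralises it. -/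
theorem commute_of_conj_mem {x a : G} {m : ℕ} (ha : orderOf a = 2 ^ m)
    (hx : (orderOf x).Coprime 2) (hmem : x * a * x⁻¹ ∈ zpowers a) : Commute x a := by
  obtain ⟨i, hi⟩ := hmem
  have hi : x * a * x⁻¹ = a ^ i := hi.symm
  rcases Nat.eq_zero_or_pos m with rfl | hm
  · rw [orderOf_eq_one_iff.mp (show orderOf a = 1 by simpa using ha)]; exact Commute.one_right x
  have hodd : Odd i := by
    rw [← Int.not_even_iff_odd]
    rintro ⟨l, hl⟩
    have h1 : a ^ (2 ^ (m - 1)) = 1 := by
      have h2 : (x * a * x⁻¹) ^ (2 ^ (m - 1)) = 1 := by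
        rw [hi, ← zpow_natCast, ← zpow_mul, ← orderOf_dvd_iff_zpow_eq_one, ha, hl]
        refine ⟨l, ?_⟩
        push_cast
        rw [show (2 : ℤ) ^ m = 2 * 2 ^ (m - 1) by rw [← pow_succ', Nat.sub_add_cancel hm]]
        ring
      rwa [conj_pow, conj_eq_one_iff] at h2
    have h3 := Nat.le_of_dvd (by positivity) (orderOf_dvd_of_pow_eq_one h1)
    rw [ha] at h3
    have := Nat.pow_lt_pow_right (show 1 < 2 by norm_num) (show m - 1 < m by omega)
    omega
  obtain ⟨l, rfl⟩ := hodd
  have hP : IsPGroup 2 (zpowers a) := IsPGroup.of_card (n := m) (by rw [Nat.card_zpowers, ha])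
  suffices h : ∀ j, ∀ b ∈ zpowers a, b ^ (2 ^ j) = 1 → Commute x b from
    h m a (mem_zpowers a) (ha ▸ pow_orderOf_eq_one a)
  intro j
  induction j with
  | zero => intro b _ hb; rw [pow_zero, pow_one] at hb; rw [hb]; exact Commute.one_right x
  | succ j ih =>
    rintro b ⟨s, rfl⟩ hb
    have hcomm : ⁅x, a ^ s⁆ = (a ^ s) ^ (2 * l) := by
      rw [commutatorElement_def, ← conj_zpow, hi, ← zpow_mul, ← zpow_mul, ← zpow_neg, ← zpow_add]
      congr 1; ring
    have h2 : Commute x ((a ^ s) ^ (2 : ℕ)) :=
      ih _ ⟨s * 2, by show a ^ (s * 2) = _; rw [zpow_mul]; norm_cast⟩ (by rw [← pow_mul, ← pow_succ', hb])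
    have h2' : Commute x ((a ^ s) ^ (2 : ℤ)) := by rwa [zpow_two, ← pow_two]
    refine H75.commute_of_coprime_step hP hx (hcomm ▸ ⟨s * (2 * l), by rw [← zpow_mul]⟩) ?_
    rw [hcomm, zpow_mul]
    exact (h2'.zpow_right l)

theorem exists_sl23 [Finite G] (hCQ : centralizer (Cfsg.pCore 2 G : Set G) ≤ Cfsg.pCore 2 G)
    (T : Sylow 2 G) {c : G} (hF : Frame (T : Subgroup G) c) (hne : (T : Subgroup G) ≠ ⊤)
    (hZ : ((T : Subgroup G) ⊓ centralizer ((T : Subgroup G) : Set G)).Normal) :
    ∃ U : Subgroup G, U.Normal ∧ Nonempty (↥U ≃* Matrix.SpecialLinearGroup (Fin 2) (ZMod 3)) := by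
  obtain ⟨hcT, hcov, hfour, y, hyT, hyy, hyc⟩ := hF
  set Q := Cfsg.pCore 2 G with hQdef
  have hQn : Q.Normal := H1.pCore_normal' 2 G
  have hQp : IsPGroup 2 Q := H1.isPGroup_pCore 2 G
  have hQT : Q ≤ (T : Subgroup G) := H1.pCore_le_sylow T
  -- an element of odd prime order
  have hidx : (T : Subgroup G).index ≠ 1 := fun h => hne (index_eq_one.mp h)
  obtain ⟨r, hr, hrdvd⟩ := Nat.exists_prime_and_dvd hidx
  haveI := Fact.mk hr
  have hr2 : r ≠ 2 := by rintro rfl; exact T.not_dvd_index hrdvd
  obtain ⟨x, hx⟩ := exists_prime_orderOf_dvd_card' r (hrdvd.trans (index_dvd_card _))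
  have hxodd : (orderOf x).Coprime 2 := by
    rw [hx]; exact (Nat.coprime_primes hr Nat.prime_two).mpr hr2
  have hxC : ¬ ∀ q ∈ Q, Commute x q := by
    intro h
    have hxQ : x ∈ Q := hCQ (mem_centralizer_iff.mpr fun q hq => (h q hq).symm.eq)
    have := H75.eq_one_of_mem_of_coprime hQp hxQ hxodd
    rw [this, orderOf_one] at hx
    exact hr.ne_one hx.symm
  have hsq : ∀ w : G, Commute (x * x) w → Commute x w := by
    intro w hw
    have ho : Odd r := hr.odd_of_ne_two hr2
    obtain ⟨l, hl⟩ := ho
    have : x = (x * x) ^ (l + 1) := by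
      rw [← pow_two, ← pow_mul, show 2 * (l + 1) = r + 1 by omega, pow_succ, ← hx,
        pow_orderOf_eq_one, one_mul]
    rw [this]; exact hw.pow_left _
  -- the cyclic part of `Q`
  obtain ⟨a, haA⟩ : ∃ a, zpowers a = zpowers c ⊓ Q := by
    have : IsCyclic ↥(zpowers c ⊓ Q) := isCyclic_of_injective (inclusion inf_le_left)
      (inclusion_injective inf_le_left)
    exact (Subgroup.isCyclic_iff_exists_zpowers_eq_top (zpowers c ⊓ Q)).mp this
  have haQ : a ∈ Q := (haA.le (mem_zpowers a)).2
  have hoff : ∀ q ∈ Q, q ∉ zpowers a → q ∉ zpowers c := fun q hq h h' => h (haA.ge ⟨h', hq⟩)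
  have hcovQ : ∀ q ∈ Q, ∀ q' ∈ Q, q ∉ zpowers a → q' ∉ zpowers a → q * q' ∈ zpowers a :=
    fun q hq q' hq' h h' => haA.ge
      ⟨hcov q (hQT hq) q' (hQT hq') (hoff q hq h) (hoff q' hq' h'), mul_mem hq hq'⟩
  obtain ⟨m, hm⟩ : ∃ m, orderOf a = 2 ^ m := by
    obtain ⟨k, hk⟩ := hQp ⟨a, haQ⟩
    obtain ⟨i, -, hi⟩ := (Nat.dvd_prime_pow Nat.prime_two).mp
      (orderOf_dvd_of_pow_eq_one (show a ^ (2 ^ k) = 1 by simpa using congrArg Subtype.val hk))
    exact ⟨i, hi⟩
  set g := x * a * x⁻¹ with hg
  have hgQ : g ∈ Q := hQn.conj_mem a haQ x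
  have hgA : g ∉ zpowers a := by
    intro hmem
    have hxa : Commute x a := commute_of_conj_mem hm hxodd hmem
    apply hxC
    intro q hq
    by_cases hqA : q ∈ zpowers a
    · obtain ⟨i, rfl⟩ := hqA; exact hxa.zpow_right i
    have hq' : x * q * x⁻¹ ∉ zpowers a := by
      rintro ⟨i, hi⟩
      apply hqA
      refine ⟨i, ?_⟩
      have h1 : Commute x⁻¹ (a ^ i) := (hxa.zpow_right i).inv_left
      have h2 : q = x⁻¹ * a ^ i * x := by rw [show a ^ i = x * q * x⁻¹ from hi]; group
      show a ^ i = q
      rw [h2, h1.eq, inv_mul_cancel_right]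
    have hc' : ⁅x, q⁆ ∈ zpowers a := by
      rw [commutatorElement_def]
      exact hcovQ _ (hQn.conj_mem q hq x) _ (inv_mem hq) hq' (fun h => hqA (inv_mem_iff.mp h))
    refine H75.commute_of_coprime_step (hQp.to_le (zpowers_le.mpr haQ)) hxodd hc' ?_
    obtain ⟨i, hi⟩ := hc'
    exact hi ▸ hxa.zpow_right i
  have hQcov : ∀ q ∈ Q, q ∈ zpowers a ∨ g⁻¹ * q ∈ zpowers a := by
    intro q hq
    by_cases h : q ∈ zpowers a
    · exact Or.inl h
    · exact Or.inr (hcovQ _ (inv_mem hgQ) _ hq (fun h' => hgA (inv_mem_iff.mp h')) h)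
  have hgm : orderOf g = 2 ^ m := by
    rw [← hm]; exact orderOf_injective (MulAut.conj x).toMonoidHom (MulAut.conj x).injective a
  have hm2 : m ≤ 2 := by
    have h4 := orderOf_dvd_of_pow_eq_one (hfour g (hQT hgQ) (hoff g hgQ hgA))
    rw [hgm, show 4 = 2 ^ 2 from rfl, Nat.pow_dvd_pow_iff_le_right (by norm_num)] at h4
    exact h4
  have hTnonab : ¬ ∀ s ∈ (T : Subgroup G), ∀ t ∈ (T : Subgroup G), Commute s t :=
    fun h => hyc (h y hyT c hcT)
  obtain rfl : m = 2 := by
    by_contra hm'
    interval_cases m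
    · exact hgA (by rw [orderOf_eq_one_iff.mp hgm]; exact one_mem _)
    · -- `Q` is a four group
      have ha2 : a * a = 1 := by rw [← pow_two, show 2 = orderOf a by omega, pow_orderOf_eq_one]
      have hzp : ∀ w ∈ zpowers a, w = 1 ∨ w = a := by
        rintro _ ⟨i, rfl⟩
        rcases Int.even_or_odd' i with ⟨l, rfl | rfl⟩
        · left
          show a ^ (2 * l) = 1
          rw [zpow_mul, zpow_two, ha2, one_zpow]
        · right
          show a ^ (2 * l + 1) = a
          rw [zpow_add, zpow_mul, zpow_two, ha2, one_zpow, one_mul, zpow_one]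
      have hQel : ∀ q ∈ Q, q = 1 ∨ q = a ∨ q = g ∨ q = g * a := by
        intro q hq
        rcases hQcov q hq with h | h <;> rcases hzp _ h with h | h
        · exact Or.inl h
        · exact Or.inr (Or.inl h)
        · exact Or.inr (Or.inr (Or.inl (inv_mul_eq_one.mp h).symm))
        · exact Or.inr (Or.inr (Or.inr (inv_mul_eq_iff_eq_mul.mp h)))
      have hga : g * a = a * g := by
        rcases hQel (a * g) (mul_mem haQ hgQ) with h | h | h | h
        · exfalso; apply hgA
          rw [eq_inv_of_mul_eq_one_right h]; exact inv_mem (mem_zpowers a)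
        · exfalso; apply hgA
          rw [mul_eq_left.mp h]; exact one_mem _
        · exfalso
          have := mul_eq_right.mp h
          rw [this, orderOf_one] at hm
          norm_num at hm
        · exact h.symm
      set Z := (T : Subgroup G) ⊓ centralizer ((T : Subgroup G) : Set G) with hZdef
      have hZQ : Z ≤ Q := H1.le_pCore T.isPGroup'.to_inf_left
      have hQcomm : ∀ s ∈ Q, ∀ t ∈ Q, Commute s t := by
        intro s hs t ht
        rcases hQel s hs with e | e | e | e <;> rcases hQel t ht with e' | e' | e' | e' <;>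
          rw [e, e'] <;> first
          | exact Commute.one_left _
          | exact Commute.one_right _
          | exact Commute.refl _
          | exact hga
          | exact hga.symm
          | exact (Commute.refl _).mul_right hga
          | exact ((Commute.refl _).mul_right hga).symm
          | exact (Commute.mul_right (show Commute a g from hga.symm) (Commute.refl a))
          | exact (Commute.mul_right (show Commute a g from hga.symm) (Commute.refl a)).symm
      have hbad : ¬ (a ∈ Z ∧ g ∈ Z) := by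
        rintro ⟨h1, h2⟩
        apply hTnonab
        have hQZ : Q ≤ Z := by
          intro q hq
          rcases hQel q hq with e | e | e | e <;> rw [e]
          · exact one_mem _
          · exact h1
          · exact h2
          · exact mul_mem h2 h1
        intro s hs t ht
        have hTC : (T : Subgroup G) ≤ Q := fun w hw => hCQ
          (mem_centralizer_iff.mpr fun q hq => (mem_centralizer_iff.mp (hQZ hq).2 w hw).symm)
        exact hQcomm s (hTC hs) t (hTC ht)
      have haZ : a ∉ Z := fun h => hbad ⟨h, hZ.conj_mem a h x⟩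
      have hgZ : g ∉ Z := by
        intro h
        refine haZ ?_
        have := hZ.conj_mem g h x⁻¹
        rw [show x⁻¹ * g * x⁻¹⁻¹ = a by rw [hg]; group] at this
        exact this
      have hZne : Z ≠ ⊥ := by
        intro h
        haveI : Nontrivial (T : Subgroup G) := by
          refine (nontrivial_iff_ne_bot _).mpr fun e => hyc ?_
          rw [e, mem_bot] at hyT; rw [hyT]; exact Commute.one_left c
        haveI := T.isPGroup'.center_nontrivial
        obtain ⟨⟨z, hz⟩, hz1⟩ := exists_ne (1 : center ↥(T : Subgroup G))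
        have hmem : (z : G) ∈ Z := ⟨z.2, mem_centralizer_iff.mpr fun w hw =>
          congrArg Subtype.val (mem_center_iff.mp hz ⟨w, hw⟩)⟩
        rw [h, mem_bot] at hmem
        exact hz1 (Subtype.ext (Subtype.ext hmem))
      obtain ⟨z, hz, hz1⟩ : ∃ z ∈ Z, z ≠ 1 := by
        by_contra hh
        simp only [not_exists, not_and, ne_eq, not_not] at hh
        exact hZne ((eq_bot_iff_forall Z).mpr hh)
      have hzga : ∀ w ∈ Z, w = 1 ∨ w = g * a := by
        intro w hw
        rcases hQel w (hZQ hw) with h | h | h | h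
        · exact Or.inl h
        · exact absurd (h ▸ hw) haZ
        · exact absurd (h ▸ hw) hgZ
        · exact Or.inr h
      have hz' : z = g * a := (hzga z hz).resolve_left hz1
      have hxz : x * z * x⁻¹ = z := by
        rcases hzga _ (hZ.conj_mem z hz x) with h | h
        · exact absurd (conj_eq_one_iff.mp h) hz1
        · rw [h, hz']
      have h2 : Commute (x * x) a := by
        rw [hz'] at hxz
        have h3 : x * g * x⁻¹ * g = g * a := by
          rw [show x * g * x⁻¹ * g = x * (g * a) * x⁻¹ by rw [hg]; group, hxz]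
        have h4 : x * g * x⁻¹ = a := by
          rw [hga] at h3; exact mul_right_cancel h3
        rw [commute_iff_eq]
        calc x * x * a = x * g * x⁻¹ * (x * x) := by rw [hg]; group
          _ = a * (x * x) := by rw [h4]
      exact hgA (by rw [hg, (hsq a h2).eq, mul_inv_cancel_right]; exact mem_zpowers a)
    · exact hm' rfl
  -- now `Q` has order eight
  have ha4 : orderOf a = 4 := hm
  have hzp : ∀ w ∈ zpowers a, w = 1 ∨ w = a ∨ w = a * a ∨ w = a⁻¹ := by
    rintro _ ⟨i, rfl⟩
    show a ^ i = 1 ∨ a ^ i = a ∨ a ^ i = a * a ∨ a ^ i = a⁻¹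
    rw [← zpow_mod_orderOf a i, ha4]
    have h1 := Int.emod_nonneg i (show ((4 : ℕ) : ℤ) ≠ 0 by norm_num)
    have h2 := Int.emod_lt_of_pos i (show (0 : ℤ) < (4 : ℕ) by norm_num)
    generalize hj : i % ((4 : ℕ) : ℤ) = j at h1 h2 ⊢
    interval_cases j
    · left; simp
    · right; left; simp
    · right; right; left
      show a ^ (2 : ℤ) = a * a
      rw [zpow_two]
    · right; right; right
      rw [eq_inv_iff_mul_eq_one, show (3 : ℤ) = ((3 : ℕ) : ℤ) from rfl, zpow_natCast, ← pow_succ,
        show 3 + 1 = orderOf a from ha4.symm, pow_orderOf_eq_one]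
  have ha44 : a * a * (a * a) = 1 := by
    rw [← pow_two, ← pow_two, ← pow_mul, show 2 * 2 = orderOf a by rw [ha4], pow_orderOf_eq_one]
  have ha2ne : a * a ≠ 1 := by
    intro h
    have := Nat.le_of_dvd (by norm_num) (orderOf_dvd_of_pow_eq_one (show a ^ 2 = 1 by rw [pow_two, h]))
    omega
  have hg2ne : g * g ≠ 1 := by
    intro h
    apply ha2ne
    have : x * (a * a) * x⁻¹ = 1 := by rw [← h, hg]; group
    exact conj_eq_one_iff.mp this
  have hgg : g * g = a * a := by
    have h1 := hcovQ g hgQ g hgQ hgA hgA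
    have h4 : g * g * (g * g) = 1 := by
      rw [show g * g * (g * g) = x * (a * a * (a * a)) * x⁻¹ by rw [hg]; group, ha44]; group
    rcases hzp _ h1 with h | h | h | h
    · exact absurd h hg2ne
    · exfalso; rw [h] at h4; exact ha2ne h4
    · exact h
    · exfalso; rw [h] at h4; exact ha2ne (inv_eq_one.mp (by rw [mul_inv_rev]; exact h4))
  have hxa2 : Commute x (a * a) := by
    rw [commute_iff_eq]
    calc x * (a * a) = g * g * x := by rw [hg]; group
      _ = a * a * x := by rw [hgg]
  have hginv : g⁻¹ ∉ zpowers a := fun h => hgA (inv_mem_iff.mp h)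
  have hgaQ : g * a ∉ zpowers a := fun h =>
    hgA ((mul_mem_cancel_right (mem_zpowers a)).mp h)
  have hgainv : g * a * g⁻¹ = a⁻¹ := by
    have h1 : g * a * g⁻¹ ∈ zpowers a :=
      hcovQ _ (mul_mem hgQ haQ) _ (inv_mem hgQ) hgaQ hginv
    rcases hzp _ h1 with h | h | h | h
    · exfalso; rw [conj_eq_one_iff] at h; rw [h, mul_one] at ha2ne; exact ha2ne rfl
    · -- `Q` abelian
      exfalso
      have hga : Commute g a := mul_inv_eq_iff_eq_mul.mp h
      set d := a⁻¹ * g with hd
      have hdd : d * d = 1 := by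
        rw [hd, show a⁻¹ * g * (a⁻¹ * g) = a⁻¹ * a⁻¹ * (g * g) by
          rw [mul_assoc, ← mul_assoc g, hga.inv_right.eq, mul_assoc, ← mul_assoc], hgg]
        group
      have hdA : d ∉ zpowers a := fun h' =>
        hgA ((mul_mem_cancel_left (inv_mem (mem_zpowers a))).mp h')
      set d' := x * d * x⁻¹ with hd'
      have hd'Q : d' ∈ Q := hQn.conj_mem d (mul_mem (inv_mem haQ) hgQ) x
      have hd'2 : d' * d' = 1 := by
        rw [hd', show x * d * x⁻¹ * (x * d * x⁻¹) = x * (d * d) * x⁻¹ by group, hdd]; group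
      have hd'A : d' ∉ zpowers a := by
        intro h'
        rcases hzp _ h' with e | e | e | e
        · have := conj_eq_one_iff.mp e
          exact hdA (this ▸ one_mem _)
        · rw [e] at hd'2; exact ha2ne hd'2
        · apply hdA
          have : d = x⁻¹ * (a * a) * x := by rw [← e, hd']; group
          rw [this, hxa2.inv_left.eq, inv_mul_cancel_right]
          exact mul_mem (mem_zpowers a) (mem_zpowers a)
        · rw [e] at hd'2; exact ha2ne (inv_eq_one.mp (by rw [mul_inv_rev]; exact hd'2))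
      have h2 : Commute (x * x) d := by
        have hw := (hQcov d' hd'Q).resolve_left hd'A
        have key : d' = d ∨ d' = d * (a * a) := by
          have hdg : g = a * d := by rw [hd]; group
          have hda : Commute a d := by rw [hd]; exact (Commute.refl a).inv_right.mul_right hga.symm
          rcases hzp _ hw with e | e | e | e
          · exfalso
            rw [← inv_mul_eq_one.mp e] at hd'2
            exact hg2ne hd'2
          · right
            rw [inv_mul_eq_iff_eq_mul.mp e, hdg, hda.eq, mul_assoc]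
          · exfalso
            have e' := inv_mul_eq_iff_eq_mul.mp e
            rw [e', (hga.mul_right hga).symm.mul_mul_mul_comm g (a * a), ha44, mul_one] at hd'2
            exact hg2ne hd'2
          · left
            rw [inv_mul_eq_iff_eq_mul.mp e, hdg, hda.eq, mul_inv_cancel_right]
        rw [commute_iff_eq]
        rcases key with e | e
        · calc x * x * d = x * d' * x := by rw [hd']; group
            _ = x * d * x := by rw [e]
            _ = d' * (x * x) := by rw [hd']; group
            _ = d * (x * x) := by rw [e]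
        · have e2 : x * (a * a) * x⁻¹ = a * a := by rw [hxa2.eq, mul_inv_cancel_right]
          calc x * x * d = x * d' * x⁻¹ * (x * x) := by rw [hd']; group
            _ = d' * (x * (a * a) * x⁻¹) * (x * x) := by
              conv_lhs => rw [e]
              rw [hd']; group
            _ = d * (a * a * (a * a)) * (x * x) := by rw [e2, e]; group
            _ = d * (x * x) := by rw [ha44, mul_one]
      have hxd := hsq d h2
      have hstep : ⁅x, a⁆ = g * a⁻¹ := by rw [commutatorElement_def, hg]
      have hda : g * a⁻¹ = d := by rw [hd]; exact hga.inv_right.eq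
      have := H75.commute_of_coprime_step hQp hxodd
        (show ⁅x, a⁆ ∈ Q by rw [hstep]; exact mul_mem hgQ (inv_mem haQ))
        (show Commute x ⁅x, a⁆ by rw [hstep, hda]; exact hxd)
      exact hgA (by rw [hg, this.eq, mul_inv_cancel_right]; exact mem_zpowers a)
    · exfalso
      have : g * (a * a) * g⁻¹ = 1 := by
        rw [show g * (a * a) * g⁻¹ = (g * a * g⁻¹) * (g * a * g⁻¹) by group, h, ha44]
      exact ha2ne (conj_eq_one_iff.mp this)
    · exact h
  -- the centralizer of `Q`
  have hCsub : ∀ w ∈ centralizer (Q : Set G), w = 1 ∨ w = a * a := by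
    intro w hw
    have hwQ := hCQ hw
    rw [mem_centralizer_iff] at hw
    have hwa := hw a haQ
    have hwg := hw g hgQ
    rcases hQcov w hwQ with h | h
    · rcases hzp _ h with e | e | e | e
      · exact Or.inl e
      · exfalso; subst e; apply ha2ne
        rw [hwg, mul_inv_cancel_right] at hgainv
        exact eq_inv_iff_mul_eq_one.mp hgainv
      · exact Or.inr e
      · exfalso; subst e; apply ha2ne
        have h1 : Commute g a := (inv_inv a) ▸ (show Commute g a⁻¹ from hwg).inv_right
        rw [h1.eq, mul_inv_cancel_right] at hgainv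
        exact eq_inv_iff_mul_eq_one.mp hgainv
    · exfalso; apply ha2ne
      obtain ⟨i, hi⟩ := h
      have hwgi : w = g * a ^ i := by rw [show a ^ i = g⁻¹ * w from hi, mul_inv_cancel_left]
      have h1 : g * a = a * g := by
        have hwa' : a * (g * a ^ i) = g * a ^ i * a := hwgi ▸ hwa
        refine mul_right_cancel (b := a ^ i) ?_
        calc g * a * a ^ i = g * (a ^ i * a) := by rw [mul_assoc, (Commute.self_zpow a i).eq]
          _ = a * g * a ^ i := by rw [← mul_assoc, ← hwa', ← mul_assoc]
      rw [h1, mul_inv_cancel_right] at hgainv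
      exact eq_inv_iff_mul_eq_one.mp hgainv
  have hC2 : Nat.card (centralizer (Q : Set G)) ≤ 2 := by
    classical
    refine (Nat.card_le_card_of_injective (β := Bool) (fun w : centralizer (Q : Set G) => decide ((w : G) = 1)) ?_).trans
      (le_of_eq (by simp : Nat.card Bool = 2))
    intro w w' hww
    rcases hCsub w w.2 with h | h <;> rcases hCsub w' w'.2 with h' | h'
    · exact Subtype.ext (h.trans h'.symm)
    · exact absurd hww (by simp [h, h', ha2ne])
    · exact absurd hww (by simp [h, h', ha2ne])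
    · exact Subtype.ext (h.trans h'.symm)
  obtain ⟨eQ⟩ := H67.quat_iso (k := 2) a g (by rw [hgg, pow_two]) hgainv (by rw [ha4]) hgA
  have hQgen : closure ({a, g} : Set G) = Q := by
    refine le_antisymm ((closure_le _).mpr (Set.insert_subset haQ (by simpa using hgQ))) fun q hq => ?_
    have haK : a ∈ closure ({a, g} : Set G) := subset_closure (Or.inl rfl)
    rcases hQcov q hq with ⟨i, hi⟩ | ⟨i, hi⟩
    · exact hi ▸ zpow_mem haK i
    · rw [show q = g * a ^ i by rw [show a ^ i = g⁻¹ * q from hi, mul_inv_cancel_left]]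
      exact mul_mem (subset_closure (Or.inr rfl)) (zpow_mem haK i)
  have hQ8 : Nat.card Q = 8 := by
    rw [← hQgen, Nat.card_congr eQ.toEquiv, Nat.card_eq_fintype_card, QuaternionGroup.card]
  -- bound on `G`
  have hbound : Nat.card G ≤ 72 := by
    classical
    have hS : Nat.card {q : Q // (q : G) ≠ 1 ∧ (q : G) ≠ a * a} ≤ 6 := by
      have : Fintype Q := Fintype.ofFinite _
      rw [Nat.card_eq_fintype_card, Fintype.card_subtype]
      have hQ8' : Fintype.card Q = 8 := by rw [← Nat.card_eq_fintype_card, hQ8]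
      have hsub : (Finset.univ.filter fun q : Q => (q : G) ≠ 1 ∧ (q : G) ≠ a * a) ⊆
          Finset.univ \ {(1 : Q), (⟨a * a, mul_mem haQ haQ⟩ : Q)} := by
        intro q hq
        simp only [Finset.mem_filter, Finset.mem_univ, true_and] at hq
        simp only [Finset.mem_sdiff, Finset.mem_univ, true_and, Finset.mem_insert,
          Finset.mem_singleton, not_or]
        exact ⟨fun e => hq.1 (by rw [e]; rfl), fun e => hq.2 (by rw [e])⟩
      refine (Finset.card_le_card hsub).trans ?_
      rw [Finset.card_univ_sdiff, Finset.card_pair (fun e => ha2ne (congrArg Subtype.val e).symm), hQ8']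
    set C := centralizer (Q : Set G) with hC
    have hmem : ∀ (w : G) (q : G), q ∈ Q → q * q ≠ 1 →
        w * q * w⁻¹ ∈ Q ∧ w * q * w⁻¹ ≠ 1 ∧ w * q * w⁻¹ ≠ a * a := by
      intro w q hq hq2
      refine ⟨hQn.conj_mem q hq w, fun e => hq2 ?_, fun e => hq2 ?_⟩
      · rw [conj_eq_one_iff.mp e, mul_one]
      · have h1 : w * (q * q) * w⁻¹ = 1 := by
          rw [show w * (q * q) * w⁻¹ = (w * q * w⁻¹) * (w * q * w⁻¹) by group, e, ha44]
        exact conj_eq_one_iff.mp h1
    let f : G ⧸ C → {q : Q // (q : G) ≠ 1 ∧ (q : G) ≠ a * a} × {q : Q // (q : G) ≠ 1 ∧ (q : G) ≠ a * a} :=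
      Quotient.lift (fun w => (⟨⟨_, (hmem w a haQ ha2ne).1⟩, (hmem w a haQ ha2ne).2⟩,
        ⟨⟨_, (hmem w g hgQ hg2ne).1⟩, (hmem w g hgQ hg2ne).2⟩)) (by
        intro w w' hww
        have hc : w⁻¹ * w' ∈ C := QuotientGroup.leftRel_apply.mp hww
        rw [hC, mem_centralizer_iff] at hc
        refine Prod.ext (Subtype.ext (Subtype.ext ?_)) (Subtype.ext (Subtype.ext ?_))
        · show w * a * w⁻¹ = w' * a * w'⁻¹
          calc w * a * w⁻¹ = w * (a * (w⁻¹ * w')) * w'⁻¹ := by group
            _ = w' * a * w'⁻¹ := by rw [hc a haQ]; group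
        · show w * g * w⁻¹ = w' * g * w'⁻¹
          calc w * g * w⁻¹ = w * (g * (w⁻¹ * w')) * w'⁻¹ := by group
            _ = w' * g * w'⁻¹ := by rw [hc g hgQ]; group)
    have hf : Function.Injective f := by
      intro u v
      induction u using Quotient.inductionOn with
      | _ w =>
        induction v using Quotient.inductionOn with
        | _ w' =>
          intro h
          refine Quotient.sound (QuotientGroup.leftRel_apply.mpr ?_)
          obtain ⟨e1, e2⟩ := Prod.ext_iff.mp h
          have e1' : w * a * w⁻¹ = w' * a * w'⁻¹ := congrArg (fun q => ((q : Q) : G)) (congrArg Subtype.val e1)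
          have e2' : w * g * w⁻¹ = w' * g * w'⁻¹ := congrArg (fun q => ((q : Q) : G)) (congrArg Subtype.val e2)
          rw [hC, ← hQgen, centralizer_closure, mem_centralizer_iff]
          rintro q (rfl | rfl)
          · calc q * (w⁻¹ * w') = w⁻¹ * (w * q * w⁻¹) * w' := by group
              _ = w⁻¹ * w' * q := by rw [e1']; group
          · calc g * (w⁻¹ * w') = w⁻¹ * (w * g * w⁻¹) * w' := by group
              _ = w⁻¹ * w' * g := by rw [e2']; group
    have h1 := Nat.card_le_card_of_injective f hf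
    rw [Nat.card_prod] at h1
    calc Nat.card G = C.index * Nat.card C := (index_mul_card C).symm
      _ ≤ 36 * 2 := Nat.mul_le_mul (h1.trans ((Nat.mul_le_mul hS hS))) hC2
  -- the order of `T`
  have hTcard : 16 ∣ Nat.card (T : Subgroup G) := by
    obtain ⟨k, hk⟩ := IsPGroup.iff_card.mp T.isPGroup'
    have hlt : 8 < Nat.card (T : Subgroup G) := by
      rw [← hQ8]
      refine lt_of_le_of_ne (card_le_of_le hQT) fun e => hyc ?_
      have hTQ : Q = (T : Subgroup G) := eq_of_le_of_card_ge hQT e.ge
      have hyQ : y ∈ Q := hTQ.ge hyT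
      have hcQ : c ∈ Q := hTQ.ge hcT
      have hyC : ∀ q ∈ Q, Commute y q := by
        rcases hQcov y hyQ with h | h
        · rcases hzp _ h with e' | e' | e' | e'
          · intro q _; rw [e']; exact Commute.one_left q
          · rw [e'] at hyy; exact absurd hyy ha2ne
          · intro q hq
            rw [e']
            have h2 : Commute g (a * a) := by
              rw [← hgg]; exact (Commute.refl g).mul_right (Commute.refl g)
            rcases hQcov q hq with ⟨i, hi⟩ | ⟨i, hi⟩
            · exact hi ▸ (((Commute.refl a).mul_left (Commute.refl a)).zpow_right i)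
            · rw [show q = g * a ^ i by rw [show a ^ i = g⁻¹ * q from hi, mul_inv_cancel_left]]
              exact h2.symm.mul_right (((Commute.refl a).mul_left (Commute.refl a)).zpow_right i)
          · rw [e'] at hyy; exact absurd (inv_eq_one.mp (by rw [mul_inv_rev]; exact hyy)) ha2ne
        · exfalso
          obtain ⟨i, hi⟩ := h
          have hy' : y = g * a ^ i := by rw [show a ^ i = g⁻¹ * y from hi, mul_inv_cancel_left]
          apply hg2ne
          have h2 : g * a ^ i * g⁻¹ = (a ^ i)⁻¹ := by rw [← conj_zpow, hgainv, inv_zpow]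
          calc g * g = (g * a ^ i * g⁻¹) * (g * g) * a ^ i * ((g * a ^ i * g⁻¹) * (g * g) * a ^ i)⁻¹ * (g * g) := by group
            _ = 1 := by
              have h3 : (g * a ^ i * g⁻¹) * (g * g) * a ^ i = 1 := by
                rw [show (g * a ^ i * g⁻¹) * (g * g) * a ^ i = g * a ^ i * (g * a ^ i) by group, ← hy', hyy]
              rw [h2, hgg] at h3
              have h4 : (a ^ i)⁻¹ * (a * a) * a ^ i = a * a := by
                rw [mul_assoc, (((Commute.refl a).mul_left (Commute.refl a)).zpow_right i).eq,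
                  inv_mul_cancel_left]
              rw [h4] at h3
              exact absurd h3 ha2ne
      exact hyC c hcQ
    rw [hk] at hlt ⊢
    have hk4 : 4 ≤ k := by
      by_contra h
      have := Nat.pow_le_pow_right (show 0 < 2 by norm_num) (show k ≤ 3 by omega)
      omega
    exact pow_dvd_pow 2 hk4
  have hdvd : 16 * r ∣ Nat.card G := by
    refine Nat.Coprime.mul_dvd_of_dvd_of_dvd ?_ (hTcard.trans (card_subgroup_dvd_card _))
      (hrdvd.trans (index_dvd_card _))
    exact Nat.Coprime.pow_left 4 ((Nat.coprime_primes Nat.prime_two hr).mpr (Ne.symm hr2))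
  have hr3 : r = 3 := by
    have := Nat.le_of_dvd Nat.card_pos hdvd
    have := hr.two_le
    have : r ≠ 4 := fun e => absurd (e ▸ hr : Nat.Prime 4) (by norm_num)
    omega
  subst hr3
  have hG48 : Nat.card G = 48 := by
    obtain ⟨l, hl⟩ := hdvd
    have := Nat.card_pos (α := G)
    omega
  -- the element of the right handedness
  obtain ⟨a', ha'Q, hrel⟩ : ∃ a' ∈ Q, H5.SL23Rel a' x := by
    set h := x * g * x⁻¹ with hh
    have hhQ : h ∈ Q := hQn.conj_mem g hgQ x
    have h33 : x * x * x = 1 := by rw [← pow_two, ← pow_succ, show 2 + 1 = orderOf x from hx.symm, pow_orderOf_eq_one]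
    have hxh : x * h * x⁻¹ = a := by
      rw [hh, hg, show x * (x * (x * a * x⁻¹) * x⁻¹) * x⁻¹ = (x * x * x) * a * (x * x * x)⁻¹ by group,
        h33]; group
    have hhA : h ∉ zpowers a := by
      rintro ⟨i, hi⟩
      have hi' : a ^ i = h := hi
      have : a = g ^ i := by
        calc a = x * a ^ i * x⁻¹ := by rw [hi', hxh]
          _ = g ^ i := by rw [← conj_zpow, hg]
      have hne : zpowers a ≤ zpowers g := zpowers_le.mpr ⟨i, this.symm⟩
      refine hgA ?_
      have heq : zpowers a = zpowers g := eq_of_le_of_card_ge hne (by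
        rw [Nat.card_zpowers, Nat.card_zpowers, hgm, ha4]; norm_num)
      rw [heq]; exact mem_zpowers g
    have hcases : h = g * a ∨ h = a * g := by
      rcases hzp _ ((hQcov h hhQ).resolve_left hhA) with e | e | e | e
      · exfalso
        have e' : g = h := inv_mul_eq_one.mp e
        apply hgA
        have : a = g := by
          have := congrArg (fun w => x⁻¹ * w * x) e'
          simpa [hh, hg, mul_assoc] using this
        rw [← this]; exact mem_zpowers a
      · left; exact inv_mul_eq_iff_eq_mul.mp e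
      · exfalso
        have e' : h = g⁻¹ := by
          rw [inv_mul_eq_iff_eq_mul.mp e, eq_inv_iff_mul_eq_one, ← hgg,
            show g * (g * g) * g = g * g * (g * g) by group, hgg, ha44]
        apply hgA
        have : a⁻¹ = g := by
          have h1 := congrArg (fun w => x⁻¹ * w * x) e'
          have h2 : g = x⁻¹ * g⁻¹ * x := by simpa [hh, mul_assoc] using h1
          rw [h2, hg]; group
        rw [← this]; exact inv_mem (mem_zpowers a)
      · right
        rw [inv_mul_eq_iff_eq_mul.mp e]
        calc g * a⁻¹ = g * (g * a * g⁻¹) := by rw [hgainv]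
          _ = g * g * a * g⁻¹ := by group
          _ = a * (g * g) * g⁻¹ := by rw [hgg]; group
          _ = a * g := by group
    rcases hcases with e | e
    · -- replace `a` by its inverse
      refine ⟨a⁻¹, inv_mem haQ, by rw [orderOf_inv, ha4], hx, ?_, ?_, ?_, ?_⟩
      · rw [show x * a⁻¹ * x⁻¹ = g⁻¹ by rw [hg]; group, zpowers_inv]
        exact hginv
      · rw [show x * a⁻¹ * x⁻¹ = g⁻¹ by rw [hg]; group, ← mul_inv_rev, ← mul_inv_rev, hgg]
      · rw [show x * a⁻¹ * x⁻¹ = g⁻¹ by rw [hg]; group, inv_inv, inv_inv]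
        calc g⁻¹ * a⁻¹ * g = g⁻¹ * (g * a * g⁻¹) * g := by rw [hgainv]
          _ = a := by group
      · rw [show x * a⁻¹ * x⁻¹ = g⁻¹ by rw [hg]; group,
          show x * g⁻¹ * x⁻¹ = h⁻¹ by rw [hh]; group, e, mul_inv_rev]
    · exact ⟨a, haQ, ha4, hx, hgA, hgg, hgainv, e⟩
  set U := closure ({a', x} : Set G) with hU
  obtain ⟨hle24, -⟩ := H5.card_le_of_sl23Rel hrel
  have hU24 : Nat.card U = 24 := by
    refine le_antisymm hle24 (Nat.le_of_dvd Nat.card_pos ?_)
    obtain ⟨o1, o2, o3, o4, o5, -⟩ := hrel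
    have haU : a' ∈ U := subset_closure (Or.inl rfl)
    have hxU : x ∈ U := subset_closure (Or.inr rfl)
    obtain ⟨eq'⟩ := H67.quat_iso (k := 2) a' (x * a' * x⁻¹) (by rw [o4, pow_two]) o5 (by rw [o1]) o3
    have h8 : 8 ∣ Nat.card U := by
      have hle : closure ({a', x * a' * x⁻¹} : Set G) ≤ U := (closure_le _).mpr (Set.insert_subset haU
        (by simpa using mul_mem (mul_mem hxU haU) (inv_mem hxU)))
      have := card_dvd_of_le hle
      rwa [Nat.card_congr eq'.toEquiv, Nat.card_eq_fintype_card, QuaternionGroup.card] at this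
    have h3 : 3 ∣ Nat.card U := by
      have := orderOf_dvd_natCard (⟨x, hxU⟩ : U)
      rwa [orderOf_mk, hx] at this
    exact Nat.Coprime.mul_dvd_of_dvd_of_dvd (by norm_num : Nat.Coprime 8 3) h8 h3
  have hUn : U.Normal := by
    apply normal_of_index_eq_two
    have := card_mul_index U
    rw [hU24, hG48] at this
    omega
  refine ⟨U, hUn, ?_⟩
  obtain ⟨a₂, t₂, hrel₂, hgen₂, hc₂⟩ := H5.exists_sl23Rel
  have haU : a' ∈ U := subset_closure (Or.inl rfl)
  have hxU : x ∈ U := subset_closure (Or.inr rfl)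
  refine H5.mulEquiv_of_sl23Rel (a₁ := (⟨a', haU⟩ : U)) (t₁ := (⟨x, hxU⟩ : U)) ?_ hrel₂ hU24 hc₂ ?_ hgen₂
  · obtain ⟨o1, o2, o3, o4, o5, o6⟩ := hrel
    refine ⟨by rw [orderOf_mk, o1], by rw [orderOf_mk, o2], ?_, Subtype.ext o4, Subtype.ext o5,
      Subtype.ext o6⟩
    rintro ⟨i, hi⟩
    exact o3 ⟨i, by simpa using congrArg Subtype.val hi⟩
  · apply map_injective U.subtype_injective
    rw [MonoidHom.map_closure, ← MonoidHom.range_eq_map, range_subtype, Set.image_pair]
    rfl

end H76.DihSyl
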