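import Mathlib

/-!
Copies of the alternating group of degree four in `GL(2, ZMod (2 ^ k))`.
-/

set_option autoImplicit false

namespace H76.A4GL2

open Matrix

/-! ### the ring identity -/

section RingPart

variable {A : Type*} [Ring A]

theorem sq_sub_eq {ω : A} (hω : ω ^ 2 + ω + 1 = 0) :
    (ω - ω ^ 2) * (ω - ω ^ 2) = -3 := by
  have h2 : ω ^ 2 = -(ω + 1) := eq_neg_of_add_eq_zero_left (by rw [← hω]; abel)
  have h22 : ω * ω = -(ω + 1) := by rw [← pow_two]; exact h2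
  rw [h2, show (3 : A) = 1 + 1 + 1 by norm_num]
  calc (ω - -(ω + 1)) * (ω - -(ω + 1))
      = ω * ω + ω * ω + ω * ω + ω * ω + (ω + ω + ω + ω) + 1 := by noncomm_ring
    _ = _ := by rw [h22]; abel

theorem split_eq_zero {ω i3 X Y : A} (hω : ω ^ 2 + ω + 1 = 0) (h3 : i3 * 3 = 1)
    (hX : X * ω = ω * X) (hY : Y * ω = ω ^ 2 * Y) (h : X + Y = 0) : X = 0 ∧ Y = 0 := by
  have hXY : X = -Y := eq_neg_of_add_eq_zero_left h
  have h1 : (ω - ω ^ 2) * X = 0 := by
    have : X * ω = ω ^ 2 * X := by rw [hXY, neg_mul, hY, mul_neg]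
    rw [sub_mul, ← this, hX, sub_self]
  have hsq : (ω - ω ^ 2) * (ω - ω ^ 2) = -3 := sq_sub_eq hω
  have h4 : X = 0 := by
    have h5 : (-3 : A) * X = 0 := by rw [← hsq, mul_assoc, h1, mul_zero]
    calc X = i3 * 3 * X := by rw [h3, one_mul]
      _ = -(i3 * ((-3 : A) * X)) := by noncomm_ring
      _ = 0 := by rw [h5, mul_zero, neg_zero]
  exact ⟨h4, by rw [h4, zero_add] at h; exact h⟩

/-- An involution `u` whose conjugates under `ω` form a four group has the form `1 + c`. -/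
theorem involution_form {ω i3 u v : A} (hω : ω ^ 2 + ω + 1 = 0) (h3 : i3 * 3 = 1)
    (hi : ∀ x : A, i3 * x = x * i3) (hv : v = ω * u * ω ^ 2) (hu : u * u = 1)
    (huv : u * v = v * u) (hw : ω ^ 2 * u * ω = u * v) :
    2 * (u - 1) = 0 ∧ (u - 1) * ω = ω ^ 2 * (u - 1) := by
  have h2 : ω ^ 2 = -(ω + 1) := eq_neg_of_add_eq_zero_left (by rw [← hω]; abel)
  have h22 : ω * ω = -(ω + 1) := by rw [← pow_two]; exact h2
  have hcube : ω ^ 3 = 1 := by
    rw [pow_succ, h2]
    calc -(ω + 1) * ω = -(ω * ω) - ω := by noncomm_ring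
      _ = 1 := by rw [h22]; abel
  have hω4 : ω ^ 2 * ω ^ 2 = ω := by rw [← pow_add, pow_succ, hcube, one_mul]
  have hω3 : ω * ω ^ 2 = 1 := by rw [← pow_succ', hcube]
  have hω3' : ω ^ 2 * ω = 1 := by rw [← pow_succ, hcube]
  set t := u + ω * u * ω ^ 2 + ω ^ 2 * u * ω with ht
  set a := i3 * t with ha
  set c := u - a with hc
  have hta : t * ω = ω * t := by
    rw [ht, add_mul, add_mul, mul_add, mul_add]
    have e1 : ω * u * ω ^ 2 * ω = ω * u := by rw [mul_assoc, hω3', mul_one]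
    have e2 : ω ^ 2 * u * ω * ω = ω ^ 2 * u * ω ^ 2 := by rw [mul_assoc, ← pow_two]
    have e3 : ω * (ω * u * ω ^ 2) = ω ^ 2 * u * ω ^ 2 := by rw [← mul_assoc, ← mul_assoc, ← pow_two]
    have e4 : ω * (ω ^ 2 * u * ω) = u * ω := by rw [← mul_assoc, ← mul_assoc, hω3, one_mul]
    rw [e1, e2, e3, e4]; abel
  have haω : a * ω = ω * a := by rw [ha, mul_assoc, hta, ← mul_assoc, hi, mul_assoc]
  have hcω : c * ω = ω ^ 2 * c := by
    have key : (3 * u - t) * ω = ω ^ 2 * (3 * u - t) := by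
      rw [sub_mul, mul_sub, hta, ht, h2]
      have e : ∀ Z : A, ω * (ω * Z) = -(ω * Z) - Z := fun Z => by
        rw [← mul_assoc, h22]; noncomm_ring
      have e' : ∀ Z : A, Z * (ω * ω) = -(Z * ω) - Z := fun Z => by rw [h22]; noncomm_ring
      simp only [mul_add, add_mul, mul_neg, neg_mul, mul_one, one_mul, mul_assoc, e, e', h22]
      noncomm_ring
    have hc3 : c = i3 * (3 * u - t) := by
      rw [hc, ha, mul_sub, ← mul_assoc, h3, one_mul]
    rw [hc3, mul_assoc, key, ← mul_assoc, hi, mul_assoc]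
  have hu' : u = a + c := by rw [hc]; abel
  clear_value c a
  have hωc : ω * c = c * ω ^ 2 := by
    calc ω * c = ω ^ 2 * (ω ^ 2 * c) := by rw [← mul_assoc, hω4]
      _ = ω ^ 2 * c * ω := by rw [mul_assoc]; congr 1; exact hcω.symm
      _ = c * ω * ω := by rw [hcω]
      _ = c * ω ^ 2 := by rw [mul_assoc, pow_two]
  have haω2 : a * ω ^ 2 = ω ^ 2 * a := (Commute.pow_right haω 2)
  have hcω2 : c * ω ^ 2 = ω * c := hωc.symm
  have hv' : v = a + ω ^ 2 * c := by
    rw [hv, hu', mul_add, add_mul]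
    have e1 : ω * a * ω ^ 2 = a := by rw [mul_assoc, haω2, ← mul_assoc, hω3, one_mul]
    have e2 : ω * c * ω ^ 2 = ω ^ 2 * c := by rw [mul_assoc, hcω2, ← mul_assoc, ← pow_two]
    rw [e1, e2]
  have hw' : ω ^ 2 * u * ω = a + ω * c := by
    rw [hu', mul_add, add_mul]
    have e1 : ω ^ 2 * a * ω = a := by rw [mul_assoc, haω, ← mul_assoc, hω3', one_mul]
    have e2 : ω ^ 2 * c * ω = ω * c := by rw [mul_assoc, hcω, ← mul_assoc, hω4]
    rw [e1, e2]
  -- products of the two eigenspaces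
  have com_cc : c * c * ω = ω * (c * c) := by
    rw [mul_assoc, hcω, ← mul_assoc, hcω2, mul_assoc]
  have anti_ac : a * c * ω = ω ^ 2 * (a * c) := by
    rw [mul_assoc, hcω, ← mul_assoc, haω2, mul_assoc]
  have anti_ca : c * a * ω = ω ^ 2 * (c * a) := by
    rw [mul_assoc, haω, ← mul_assoc, hcω, mul_assoc]
  have com_aa : a * a * ω = ω * (a * a) := by
    rw [mul_assoc, haω, ← mul_assoc, haω, mul_assoc]
  have hc1 : (ω - ω ^ 2) * ω = ω * (ω - ω ^ 2) :=
    ((Commute.refl ω).sub_left ((Commute.refl ω).pow_left 2)).eq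
  have hc2 : (ω ^ 2 - 1) * ω ^ 2 = ω ^ 2 * (ω ^ 2 - 1) :=
    ((Commute.refl (ω ^ 2)).sub_left (Commute.one_left _)).eq
  have hc3 : (ω ^ 2 + 1) * ω ^ 2 = ω ^ 2 * (ω ^ 2 + 1) :=
    ((Commute.refl (ω ^ 2)).add_left (Commute.one_left _)).eq
  -- `uv = vu`
  have hcωc : c * (ω ^ 2 * c) = ω * (c * c) := by rw [← mul_assoc, hcω2, mul_assoc]
  have haωc : a * (ω ^ 2 * c) = ω ^ 2 * (a * c) := by rw [← mul_assoc, haω2, mul_assoc]
  have hvu := huv
  rw [hv', hu'] at hvu
  have e1 : (a + c) * (a + ω ^ 2 * c) = a * a + ω ^ 2 * (a * c) + c * a + ω * (c * c) := by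
    rw [add_mul, mul_add, mul_add, hcωc, haωc]; abel
  have e2 : (a + ω ^ 2 * c) * (a + c) = a * a + a * c + ω ^ 2 * (c * a) + ω ^ 2 * (c * c) := by
    rw [add_mul, mul_add, mul_add, mul_assoc (ω ^ 2) c a, mul_assoc (ω ^ 2) c c]; abel
  rw [e1, e2] at hvu
  have hsplit1 := split_eq_zero hω h3 (X := (ω - ω ^ 2) * (c * c))
    (Y := (ω ^ 2 - 1) * (a * c - c * a)) ?_ ?_ ?_
  rotate_left
  · rw [mul_assoc (ω - ω ^ 2), com_cc, ← mul_assoc (ω - ω ^ 2), hc1, mul_assoc ω]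
  · rw [mul_assoc (ω ^ 2 - 1), sub_mul (a * c), anti_ac, anti_ca, ← mul_sub,
      ← mul_assoc (ω ^ 2 - 1), hc2, mul_assoc (ω ^ 2)]
  · rw [sub_mul ω, sub_mul (ω ^ 2), one_mul, mul_sub (ω ^ 2), ← sub_eq_zero.mpr hvu]; abel
  have hcc : c * c = 0 := by
    have h1 := congrArg (fun Z => (ω - ω ^ 2) * Z) hsplit1.1
    have hsq : (ω - ω ^ 2) * (ω - ω ^ 2) = -3 := sq_sub_eq hω
    simp only [← mul_assoc, hsq, mul_zero] at h1
    calc c * c = i3 * 3 * (c * c) := by rw [h3, one_mul]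
      _ = -(i3 * (-3 * c * c)) := by noncomm_ring
      _ = 0 := by rw [h1, mul_zero, neg_zero]
  have hac : a * c = c * a := by
    have h1 := congrArg (fun Z => (ω - 1) * Z) hsplit1.2
    have hsq : (ω - 1) * (ω ^ 2 - 1) = 3 := by
      rw [h2, show (3 : A) = 1 + 1 + 1 by norm_num]
      calc (ω - 1) * (-(ω + 1) - 1) = -(ω * ω) - ω + (1 + 1) := by noncomm_ring
        _ = _ := by rw [h22]; abel
    simp only [← mul_assoc, hsq, mul_zero] at h1
    rw [← sub_eq_zero]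
    calc a * c - c * a = i3 * 3 * (a * c - c * a) := by rw [h3, one_mul]
      _ = i3 * (3 * (a * c - c * a)) := by rw [mul_assoc]
      _ = 0 := by rw [h1, mul_zero]
  -- `u² = 1`
  have h2ac : a * a = 1 ∧ 2 * (a * c) = 0 := by
    have e : (a + c) * (a + c) - 1 = 0 := by rw [← hu', hu, sub_self]
    have hs := split_eq_zero hω h3 (X := a * a - 1) (Y := 2 * (a * c)) ?_ ?_ ?_
    · exact ⟨sub_eq_zero.mp hs.1, hs.2⟩
    · rw [sub_mul, com_aa, mul_sub, one_mul, mul_one]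
    · rw [two_mul, add_mul, anti_ac, mul_add]
    · have e3 : (a + c) * (a + c) = a * a + (a * c + a * c) := by
        rw [add_mul, mul_add, mul_add, hcc, ← hac]; abel
      rw [two_mul, ← e, e3]; abel
  have h2c : 2 * c = 0 := by
    calc 2 * c = a * a * (2 * c) := by rw [h2ac.1, one_mul]
      _ = a * (2 * (a * c)) := by noncomm_ring
      _ = 0 := by rw [h2ac.2, mul_zero]
  -- `uv = w`
  have ha1 : a = 1 := by
    have hwv := hw
    rw [hw', hu', hv'] at hwv
    have hs := split_eq_zero hω h3 (X := a - 1) (Y := ω * c - (ω ^ 2 + 1) * (a * c)) ?_ ?_ ?_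
    · exact sub_eq_zero.mp hs.1
    · rw [sub_mul, haω, mul_sub, one_mul, mul_one]
    · rw [sub_mul, mul_assoc ω c ω, hcω, mul_sub, ← mul_assoc ω (ω ^ 2) c, hω3,
        ← mul_assoc (ω ^ 2) ω c, hω3', mul_assoc (ω ^ 2 + 1), anti_ac, ← mul_assoc (ω ^ 2 + 1), hc3,
        mul_assoc (ω ^ 2)]
    · have hz : c * (ω ^ 2 * c) = 0 := by rw [hcωc, hcc, mul_zero]
      rw [add_mul, mul_add, mul_add, hz, haωc, ← hac, h2ac.1] at hwv
      rw [← sub_eq_zero.mpr hwv, add_mul, one_mul]; abel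
  have hc1 : u - 1 = c := by rw [hc, ha1]
  rw [hc1]; exact ⟨h2c, hcω⟩

end RingPart

/-! ### matrices over `ZMod (2 ^ k)` -/

variable {k : ℕ}

theorem isNilpotent_two (k : ℕ) : IsNilpotent (2 : ZMod (2 ^ k)) := by
  refine ⟨k, ?_⟩
  have := ZMod.natCast_self (2 ^ k)
  push_cast at this
  exact this

theorem even_or_isUnit (x : ZMod (2 ^ k)) :
    (∃ y, x = 2 * y) ∨ ((∃ y, x = 1 + 2 * y) ∧ IsUnit x) := by
  rcases Nat.even_or_odd' x.val with ⟨m, hm | hm⟩
  · left
    refine ⟨(m : ZMod (2 ^ k)), ?_⟩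
    rw [← ZMod.natCast_zmod_val x, hm]; push_cast; rfl
  · right
    have h : x = 1 + 2 * (m : ZMod (2 ^ k)) := by
      rw [← ZMod.natCast_zmod_val x, hm]; push_cast; ring
    refine ⟨⟨_, h⟩, h ▸ ?_⟩
    exact (((Commute.all _ _).isNilpotent_mul_right (isNilpotent_two k))).isUnit_one_add

theorem two_mul_eq_zero_iff (hk : 1 ≤ k) {x : ZMod (2 ^ k)} :
    2 * x = 0 ↔ x = 0 ∨ x = ((2 ^ (k - 1) : ℕ) : ZMod (2 ^ k)) := by
  obtain ⟨j, rfl⟩ : ∃ j, k = j + 1 := ⟨k - 1, by omega⟩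
  rw [Nat.add_sub_cancel]
  constructor
  · intro h
    have h1 : ((2 * x.val : ℕ) : ZMod (2 ^ (j + 1))) = 0 := by
      push_cast; rw [ZMod.natCast_zmod_val]; exact h
    have h1' : 2 * 2 ^ j ∣ 2 * x.val := by
      rw [← pow_succ']; exact (ZMod.natCast_eq_zero_iff _ _).mp h1
    obtain ⟨m, hm⟩ := (Nat.mul_dvd_mul_iff_left (by norm_num : 0 < 2)).mp h1' 
    have hlt := ZMod.val_lt x
    rw [hm, pow_succ] at hlt
    have hm2 : m < 2 := Nat.lt_of_mul_lt_mul_left hlt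
    rw [← ZMod.natCast_zmod_val x, hm]
    interval_cases m
    · left; simp
    · right; simp
  · rintro (rfl | rfl)
    · simp
    · rw [show (2 : ZMod (2 ^ (j + 1))) = ((2 : ℕ) : ZMod (2 ^ (j + 1))) from rfl,
        ← Nat.cast_mul, ← pow_succ', ZMod.natCast_self]

/-- The companion matrix of `X² + X + 1`. -/
def compMat (k : ℕ) : Matrix (Fin 2) (Fin 2) (ZMod (2 ^ k)) := !![0, -1; 1, -1]

/-- The involution used in the normal form. -/
def invMat (k : ℕ) : Matrix (Fin 2) (Fin 2) (ZMod (2 ^ k)) :=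
  !![1 + ((2 ^ (k - 1) : ℕ) : ZMod (2 ^ k)), 0;
    ((2 ^ (k - 1) : ℕ) : ZMod (2 ^ k)), 1 + ((2 ^ (k - 1) : ℕ) : ZMod (2 ^ k))]

/-- The model subgroup. -/
def model (k : ℕ) : Subgroup (GL (Fin 2) (ZMod (2 ^ k))) :=
  Subgroup.closure {x | (x : Matrix (Fin 2) (Fin 2) (ZMod (2 ^ k))) = compMat k ∨
    (x : Matrix (Fin 2) (Fin 2) (ZMod (2 ^ k))) = invMat k}

theorem mat_two_cases : ∀ B : Matrix (Fin 2) (Fin 2) (ZMod 2), B ^ 3 = 1 → B 1 0 = 0 → B = 1 := by
  decide

theorem exists_conj_compMat (hk : 1 ≤ k) (g : GL (Fin 2) (ZMod (2 ^ k))) (hg : g ^ 3 = 1)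
    (hg1 : g ≠ 1) : ∃ M : GL (Fin 2) (ZMod (2 ^ k)),
      ((M⁻¹ * g * M : GL (Fin 2) (ZMod (2 ^ k))) : Matrix (Fin 2) (Fin 2) (ZMod (2 ^ k))) =
        compMat k := by
  set A : Matrix (Fin 2) (Fin 2) (ZMod (2 ^ k)) := (g : Matrix (Fin 2) (Fin 2) (ZMod (2 ^ k)))
  have hA3 : A ^ 3 = 1 := by
    have := congrArg (fun x : GL (Fin 2) (ZMod (2 ^ k)) =>
      (x : Matrix (Fin 2) (Fin 2) (ZMod (2 ^ k)))) hg
    simpa using this
  let φ : ZMod (2 ^ k) →+* ZMod 2 := ZMod.castHom (dvd_pow_self 2 (by omega)) _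
  have hφ0 : ∀ x, φ x = 0 → ∃ y, x = 2 * y := by
    intro x hx
    rcases even_or_isUnit x with h | ⟨⟨y, rfl⟩, -⟩
    · exact h
    · rw [map_add, map_one, map_mul, map_ofNat] at hx
      simp [show (2 : ZMod 2) = 0 from rfl] at hx
  have hφ2 : ∀ y, φ (2 * y) = 0 := fun y => by
    rw [map_mul, map_ofNat, show (2 : ZMod 2) = 0 from rfl, zero_mul]
  have hu : IsUnit (A 1 0) := by
    rcases even_or_isUnit (A 1 0) with ⟨y, hy⟩ | h
    · exfalso
      set B := φ.mapMatrix A with hB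
      have hB1 : B = 1 := by
        refine mat_two_cases B (by rw [hB, ← map_pow, hA3, map_one]) ?_
        show φ (A 1 0) = 0
        rw [hy]; exact hφ2 y
      have hX : ∀ i j, ∃ y, A i j - (1 : Matrix (Fin 2) (Fin 2) (ZMod (2 ^ k))) i j = 2 * y := by
        intro i j
        refine hφ0 _ ?_
        rw [map_sub, show φ (A i j) = B i j from rfl, hB1, sub_eq_zero]
        by_cases h : i = j
        · subst h; simp
        · simp [Matrix.one_apply_ne h]
      choose X hX using hX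
      set Xm : Matrix (Fin 2) (Fin 2) (ZMod (2 ^ k)) := Matrix.of X
      have hAX : A - 1 = (2 : ZMod (2 ^ k)) • Xm := by
        ext i j
        rw [Matrix.sub_apply, hX i j]
        rfl
      have hfac : (A - 1) * (A ^ 2 + A + 1) = 0 := by
        rw [show (A - 1) * (A ^ 2 + A + 1) = A ^ 3 - 1 by noncomm_ring, hA3, sub_self]
      have hunit : IsUnit (A ^ 2 + A + 1) := by
        have h3 : IsUnit (3 : Matrix (Fin 2) (Fin 2) (ZMod (2 ^ k))) := by
          have h3' : IsUnit (3 : ZMod (2 ^ k)) := by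
            have := ((Commute.all (2 : ZMod (2 ^ k)) 1).isNilpotent_mul_right (isNilpotent_two k)).isUnit_one_add
            rwa [mul_one, show (1 : ZMod (2 ^ k)) + 2 = 3 by ring] at this
          have := h3'.map (algebraMap (ZMod (2 ^ k)) (Matrix (Fin 2) (Fin 2) (ZMod (2 ^ k))))
          rwa [map_ofNat] at this
        have e : A ^ 2 + A + 1 = 3 + (2 : ZMod (2 ^ k)) • (Xm * (A + (1 + 1))) := by
          rw [← smul_mul_assoc, ← hAX,
            show (3 : Matrix (Fin 2) (Fin 2) (ZMod (2 ^ k))) = 1 + 1 + 1 by norm_num]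
          noncomm_ring
        rw [e]
        refine IsNilpotent.isUnit_add_left_of_commute ?_ h3 ?_
        · obtain ⟨n, hn⟩ := isNilpotent_two k
          exact ⟨n, by rw [smul_pow, hn, zero_smul]⟩
        · exact (Nat.cast_commute 3 _).symm
      have hA1 : A = 1 := sub_eq_zero.mp ((hunit.mul_left_eq_zero).mp hfac)
      exact hg1 (Units.ext hA1)
    · exact h.2
  let Mm : Matrix (Fin 2) (Fin 2) (ZMod (2 ^ k)) := !![1, A 0 0; 0, A 1 0]
  have hdet : IsUnit Mm.det := by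
    rw [Matrix.det_fin_two_of]; simpa using hu
  let M : GL (Fin 2) (ZMod (2 ^ k)) := Matrix.nonsingInvUnit Mm hdet
  refine ⟨M, ?_⟩
  set D : Matrix (Fin 2) (Fin 2) (ZMod (2 ^ k)) :=
    ((M⁻¹ * g * M : GL (Fin 2) (ZMod (2 ^ k))) : Matrix (Fin 2) (Fin 2) (ZMod (2 ^ k)))
  have hMD : Mm * D = A * Mm := by
    have : M * (M⁻¹ * g * M) = g * M := by group
    exact congrArg (fun x : GL (Fin 2) (ZMod (2 ^ k)) =>
      (x : Matrix (Fin 2) (Fin 2) (ZMod (2 ^ k)))) this
  have hD3 : D ^ 3 = 1 := by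
    have : (M⁻¹ * g * M) ^ 3 = 1 := by
      calc (M⁻¹ * g * M) ^ 3 = M⁻¹ * g ^ 3 * M := by simp [pow_succ, mul_assoc]
        _ = 1 := by rw [hg]; group
    exact (Units.val_pow_eq_pow_val _ _).symm.trans ((congrArg Units.val this).trans Units.val_one)
  have h10 : D 1 0 = 1 := by
    have h := congrFun (congrFun hMD 1) 0
    simp [Mm, Matrix.mul_apply, Fin.sum_univ_two] at h
    exact hu.mul_eq_left.mp h
  have h00 : D 0 0 = 0 := by
    have h := congrFun (congrFun hMD 0) 0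
    simp [Mm, Matrix.mul_apply, Fin.sum_univ_two, h10] at h
    exact h
  have e00 := congrFun (congrFun hD3 0) 0
  have e10 := congrFun (congrFun hD3 1) 0
  simp [pow_succ, Matrix.mul_apply, Fin.sum_univ_two, h00, h10] at e00 e10
  set a := D 0 1
  set b := D 1 1
  have hb : b = -1 := by
    have hb3 : (b + 1) * (b * b - b + 1) = 0 := by linear_combination b * e10 - e00
    have hunit : IsUnit (b * b - b + 1) := by
      rcases even_or_isUnit (b * b - b + 1) with ⟨y, hy⟩ | h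
      · exfalso
        have h1 := congrArg φ hy
        rw [hφ2, map_add, map_sub, map_mul, map_one] at h1
        revert h1
        generalize φ b = z
        decide +revert
      · exact h.2
    exact eq_neg_of_add_eq_zero_left ((hunit.mul_left_eq_zero).mp hb3)
  have ha : a = -1 := by
    rw [hb] at e10
    linear_combination e10
  ext i j
  fin_cases i <;> fin_cases j <;> simp [compMat, h00, h10, a, b] at * <;> assumption

theorem conj_step (x y : ZMod (2 ^ k)) (hx : 2 * x = 0) (hy : 2 * y = 0) :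
    compMat k * !![1 + x, y; x + y, 1 + x] * compMat k ^ 2 =
      !![1 + y, x + y; y + (x + y), 1 + y] := by
  have hxx : x + x = 0 := by rw [← two_mul, hx]
  have hyy : y + y = 0 := by rw [← two_mul, hy]
  ext i j
  fin_cases i <;> fin_cases j <;> simp [compMat, pow_two, Matrix.mul_apply, Fin.sum_univ_two] <;>
    grind

theorem map_conj_eq_model (hk : 2 ≤ k) (H : Subgroup (GL (Fin 2) (ZMod (2 ^ k))))
    (h : Nonempty (↥H ≃* ↥(alternatingGroup (Fin 4)))) :
    ∃ M : GL (Fin 2) (ZMod (2 ^ k)), H.map (MulAut.conj M).toMonoidHom = model k := by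
  obtain ⟨e⟩ := h
  let o4 : alternatingGroup (Fin 4) :=
    ⟨Equiv.swap 0 1 * Equiv.swap 1 2, Equiv.Perm.mem_alternatingGroup.mpr (by decide)⟩
  let u4 : alternatingGroup (Fin 4) :=
    ⟨Equiv.swap 0 1 * Equiv.swap 2 3, Equiv.Perm.mem_alternatingGroup.mpr (by decide)⟩
  have r1 : o4 ^ 3 = 1 := by decide
  have r2 : o4 ≠ 1 := by decide
  have r3 : u4 * u4 = 1 := by decide
  have r4 : u4 ≠ 1 := by decide
  have r5 : u4 * (o4 * u4 * o4 ^ 2) = (o4 * u4 * o4 ^ 2) * u4 := by decide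
  have r6 : o4 ^ 2 * u4 * o4 = u4 * (o4 * u4 * o4 ^ 2) := by decide
  have r7 : ∀ x : alternatingGroup (Fin 4), ∃ i : Fin 3, x = o4 ^ (i : ℕ) ∨ x = o4 ^ (i : ℕ) * u4 ∨
      x = o4 ^ (i : ℕ) * (o4 * u4 * o4 ^ 2) ∨
      x = o4 ^ (i : ℕ) * (u4 * (o4 * u4 * o4 ^ 2)) := by decide
  let ψ : alternatingGroup (Fin 4) →* GL (Fin 2) (ZMod (2 ^ k)) :=
    H.subtype.comp e.symm.toMonoidHom
  have hψ : Function.Injective ψ := H.subtype_injective.comp e.symm.injective
  obtain ⟨M, hM⟩ := exists_conj_compMat (k := k) (by omega) (ψ o4)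
    (by rw [← map_pow, r1, map_one]) (fun h => r2 (hψ (h.trans (map_one ψ).symm)))
  refine ⟨M⁻¹, ?_⟩
  let χ : alternatingGroup (Fin 4) →* GL (Fin 2) (ZMod (2 ^ k)) :=
    (MulAut.conj M⁻¹).toMonoidHom.comp ψ
  have hχ : Function.Injective χ := (MulAut.conj M⁻¹).injective.comp hψ
  have hrange : χ.range = H.map (MulAut.conj M⁻¹).toMonoidHom := by
    rw [MonoidHom.range_eq_map, ← Subgroup.map_map, ← MonoidHom.range_eq_map]
    congr 1
    rw [MonoidHom.range_eq_map, ← Subgroup.map_map, Subgroup.map_top_of_surjective _ e.symm.surjective,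
      ← MonoidHom.range_eq_map, Subgroup.range_subtype]
  rw [← hrange]
  have hC : ((χ o4 : GL (Fin 2) (ZMod (2 ^ k))) : Matrix (Fin 2) (Fin 2) (ZMod (2 ^ k))) =
      compMat k := by
    rw [← hM]; simp [χ, MulAut.conj_apply]
  let val : alternatingGroup (Fin 4) →* Matrix (Fin 2) (Fin 2) (ZMod (2 ^ k)) :=
    (Units.coeHom _).comp χ
  have hval : val o4 = compMat k := hC
  set C := compMat k with hCdef
  have hCω : C ^ 2 + C + 1 = 0 := by
    ext i j
    fin_cases i <;> fin_cases j <;> simp [hCdef, compMat, pow_two, Matrix.mul_apply, Fin.sum_univ_two]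
  have h3u : IsUnit (3 : ZMod (2 ^ k)) := by
    have := ((Commute.all (2 : ZMod (2 ^ k)) 1).isNilpotent_mul_right (isNilpotent_two k)).isUnit_one_add
    rwa [mul_one, show (1 : ZMod (2 ^ k)) + 2 = 3 by ring] at this
  obtain ⟨i3, hi3⟩ := isUnit_iff_exists_inv'.mp h3u
  let j3 : Matrix (Fin 2) (Fin 2) (ZMod (2 ^ k)) := algebraMap (ZMod (2 ^ k)) _ i3
  set U := val u4 with hU
  obtain ⟨h2c, hcC⟩ := involution_form (ω := C) (i3 := j3) (u := U) (v := C * U * C ^ 2) hCω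
    (by
      show algebraMap (ZMod (2 ^ k)) _ i3 * 3 = 1
      rw [← map_ofNat (algebraMap (ZMod (2 ^ k)) (Matrix (Fin 2) (Fin 2) (ZMod (2 ^ k)))) 3,
        ← map_mul, hi3, map_one])
    (fun x => Algebra.commutes i3 x) rfl
    (by rw [hU, ← map_mul, r3, map_one])
    (by simp only [hU, ← hval, ← map_mul, ← map_pow, r5])
    (by simp only [hU, ← hval, ← map_mul, ← map_pow, r6])
  set h := ((2 ^ (k - 1) : ℕ) : ZMod (2 ^ k)) with hh
  have hh2 : 2 * h = 0 := (two_mul_eq_zero_iff (by omega)).mpr (Or.inr rfl)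
  -- the three possibilities
  obtain ⟨x, y, hx2, hy2, hUx⟩ : ∃ x y : ZMod (2 ^ k), (x = 0 ∨ x = h) ∧ (y = 0 ∨ y = h) ∧
      U = !![1 + x, y; x + y, 1 + x] := by
    set c := U - 1 with hc
    have hent : ∀ i j, 2 * c i j = 0 := by
      intro i j
      have h' := congrFun (congrFun h2c i) j
      simpa [two_mul] using h'
    have e00 := congrFun (congrFun hcC 0) 0
    have e10 := congrFun (congrFun hcC 1) 0
    simp [hCdef, compMat, pow_two, Matrix.mul_apply, Fin.sum_univ_two] at e00 e10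
    refine ⟨c 0 0, c 0 1, (two_mul_eq_zero_iff (by omega)).mp (hent 0 0),
      (two_mul_eq_zero_iff (by omega)).mp (hent 0 1), ?_⟩
    have hU1 : U = 1 + c := by rw [hc]; abel
    ext i j
    fin_cases i <;> fin_cases j <;> simp [hU1]
    · linear_combination -e00
    · linear_combination e10 - hent 0 0
  have hUne : U ≠ 1 := by
    intro h1
    refine r4 (hχ (Units.ext ?_))
    rw [map_one]
    exact h1
  have hhh : h + h = 0 := by rw [← two_mul, hh2]
  -- some conjugate of `u` by a power of `ω` is the model involution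
  obtain ⟨i, hi⟩ : ∃ i : ℕ, val (o4 ^ i * u4 * o4 ^ (2 * i)) = invMat k := by
    have hstep : ∀ x y : ZMod (2 ^ k), 2 * x = 0 → 2 * y = 0 →
        C * !![1 + x, y; x + y, 1 + x] * C ^ 2 = !![1 + y, x + y; y + (x + y), 1 + y] := conj_step
    have h20 : (2 : ZMod (2 ^ k)) * 0 = 0 := mul_zero _
    rcases hx2 with rfl | rfl <;> rcases hy2 with rfl | rfl
    · exfalso; apply hUne; rw [hUx]
      ext a b; fin_cases a <;> fin_cases b <;> simp
    · refine ⟨2, ?_⟩
      have h4 : C ^ 4 = C ^ 2 * C ^ 2 := by rw [← pow_add]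
      rw [map_mul, map_mul, map_pow, map_pow, hval, ← hU, hUx, h4, pow_two C]
      rw [show C * C * !![1 + 0, h; 0 + h, 1 + 0] * (C * C * (C * C)) =
        C * (C * !![1 + 0, h; 0 + h, 1 + 0] * C ^ 2) * C ^ 2 by
          simp only [pow_two, mul_assoc]]
      rw [hstep 0 h h20 hh2]
      simp only [zero_add, add_zero]
      rw [show !![1 + h, h; h + h, 1 + h] = !![1 + h, h; h + h, 1 + h] from rfl, hstep h h hh2 hh2,
        hhh]
      simp [invMat, ← hh]
    · refine ⟨0, ?_⟩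
      simp only [map_mul, map_pow, hval, ← hU, hUx, mul_zero, pow_zero, one_mul, mul_one]
      simp [invMat, ← hh]
    · refine ⟨1, ?_⟩
      simp only [map_mul, map_pow, hval, ← hU, hUx, pow_one, mul_one]
      rw [hstep h h hh2 hh2, hhh]
      simp [invMat, ← hh]
  apply le_antisymm
  · rintro _ ⟨z, rfl⟩
    have ho : χ o4 ∈ model k := Subgroup.subset_closure (Or.inl hC)
    have hu' : χ (o4 ^ i * u4 * o4 ^ (2 * i)) ∈ model k := Subgroup.subset_closure (Or.inr hi)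
    have hu : χ u4 ∈ model k := by
      rw [map_mul, map_mul, map_pow, map_pow,
        Subgroup.mul_mem_cancel_right _ (pow_mem ho _),
        Subgroup.mul_mem_cancel_left _ (pow_mem ho _)] at hu'
      exact hu'
    obtain ⟨j, rfl | rfl | rfl | rfl⟩ := r7 z <;> simp only [map_mul, map_pow] <;>
      repeat' first
        | exact ho
        | exact hu
        | apply mul_mem
        | apply pow_mem
  · rw [model, Subgroup.closure_le]
    rintro z (hz | hz)
    · exact ⟨o4, Units.ext (hC.trans hz.symm)⟩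
    · exact ⟨o4 ^ i * u4 * o4 ^ (2 * i), Units.ext (hi.trans hz.symm)⟩

theorem conj_of_iso (hk : 2 ≤ k) (H₁ H₂ : Subgroup (GL (Fin 2) (ZMod (2 ^ k))))
    (h₁ : Nonempty (↥H₁ ≃* ↥(alternatingGroup (Fin 4))))
    (h₂ : Nonempty (↥H₂ ≃* ↥(alternatingGroup (Fin 4)))) :
    ∃ g : GL (Fin 2) (ZMod (2 ^ k)), H₂ = H₁.map (MulAut.conj g).toMonoidHom := by
  obtain ⟨M₁, e₁⟩ := map_conj_eq_model hk H₁ h₁
  obtain ⟨M₂, e₂⟩ := map_conj_eq_model hk H₂ h₂
  refine ⟨M₂⁻¹ * M₁, ?_⟩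
  have h3 : (H₂.map (MulAut.conj M₂).toMonoidHom).map (MulAut.conj M₂⁻¹).toMonoidHom = H₂ := by
    rw [Subgroup.map_map]
    conv_rhs => rw [← Subgroup.map_id H₂]
    congr 1
    ext z
    simp [mul_assoc]
  conv_lhs => rw [← h3, e₂, ← e₁, Subgroup.map_map]
  congr 1
  ext z
  simp [mul_assoc]

end H76.A4GL2
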