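import Cfsg.Prelude.Def_LocalStructure
import Cfsg.Agent.H74.CosetGraph
import Cfsg.Agent.H5.PResidual
import Cfsg.Agent.H76.Basic

/-!
The iterated closures `V^{(n)}` on the coset graph of an amalgam with strongly p-embedded residues.
-/

set_option autoImplicit false

namespace H76

open MulAction
open scoped commutatorElement

variable {X : Type*} [Group X] {p : ℕ} [Fact p.Prime] {M₁ M₂ : Subgroup X}

/-- The iterated commutators `[V, Q, …, Q]`. -/
def iterComm (V Q : Subgroup X) : ℕ → Subgroup X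
  | 0 => V
  | n + 1 => ⁅iterComm V Q n, Q⁆

/-- `O^p(O^{p'}(G_a))` in the ambient group. -/
def vertexR (p : ℕ) (a : Cfsg.CosetVertex M₁ M₂) : Subgroup X :=
  (Cfsg.pResidual p ↥(Cfsg.pElementClosure p (stabilizer X a))).map
    (Cfsg.pElementClosure p (stabilizer X a)).subtype

theorem vertexR_le (a : Cfsg.CosetVertex M₁ M₂) : vertexR p a ≤ stabilizer X a :=
  (Subgroup.map_subtype_le _).trans (H74.pElementClosure_le _)

theorem edge_normalizer_le (h : Cfsg.IsSpeAmalgamPair p M₁ M₂) {a b : Cfsg.CosetVertex M₁ M₂}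
    (hab : (Cfsg.cosetGraph M₁ M₂).Adj a b) {T : Subgroup X}
    (hT : H74.IsSylIn p T (Cfsg.edgeStabilizer a b)) :
    stabilizer X a ⊓ Subgroup.normalizer (T : Set X) ≤ stabilizer X b := by
  obtain ⟨hc, hN, -⟩ := h
  haveI := H74.vertex_finite hc a
  haveI : Finite (Cfsg.edgeStabilizer a b) :=
    Finite.of_injective _ (Subgroup.inclusion_injective inf_le_left)
  haveI : Finite ↥(M₁ ⊓ M₂) :=
    haveI := hc.2.1; Finite.of_injective _ (Subgroup.inclusion_injective inf_le_left)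
  intro g hg
  obtain ⟨x, hx⟩ := H74.adj_iff.mp hab
  have hT0 : H74.IsSylIn p (T.map (MulAut.conj x⁻¹).toMonoidHom) (M₁ ⊓ M₂) := by
    have h1 := hT.map (MulAut.conj x⁻¹).toMonoidHom (MulAut.conj x⁻¹).injective
    have hinv : ∀ M : Subgroup X, (M.map (MulAut.conj x).toMonoidHom).map
        (MulAut.conj x⁻¹).toMonoidHom = M := fun M => by
      rw [Subgroup.map_map]
      conv_rhs => rw [← Subgroup.map_id M]
      congr 1; ext y; simp [mul_assoc]
    rcases hx with ⟨rfl, rfl⟩ | ⟨rfl, rfl⟩ <;>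
      rw [Cfsg.edgeStabilizer, H74.stab_smul_baseL, H74.stab_smul_baseR,
        Subgroup.map_inf _ _ _ (MulAut.conj x⁻¹).injective, hinv, hinv] at h1
    · exact h1
    · rwa [inf_comm] at h1
  obtain ⟨S0, hS0⟩ := hT0.exists_sylow
  obtain ⟨e, l⟩ := hN S0
  rw [hS0] at e l
  have hg' : x⁻¹ * g * x ∈ Subgroup.normalizer
      ((T.map (MulAut.conj x⁻¹).toMonoidHom : Subgroup X) : Set X) := by
    apply H74.mem_normalizer_of_map_conj
    conv_rhs => rw [← H74.map_conj_eq_self hg.2, Subgroup.map_map]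
    rw [Subgroup.map_map]
    congr 1; ext y; simp [mul_assoc]
  have hin : ∀ M : Subgroup X, ∀ y, x⁻¹ * y * x ∈ M → y ∈ M.map (MulAut.conj x).toMonoidHom :=
    fun M y hy => ⟨_, hy, by simp [mul_assoc]⟩
  have hout : ∀ M : Subgroup X, ∀ y, y ∈ M.map (MulAut.conj x).toMonoidHom → x⁻¹ * y * x ∈ M := by
    rintro M _ ⟨y, hy, rfl⟩; simpa [mul_assoc] using hy
  rcases hx with ⟨rfl, rfl⟩ | ⟨rfl, rfl⟩ <;>
    rw [H74.stab_smul_baseL, H74.stab_smul_baseR] at * <;> apply hin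
  · exact (l ⟨hout _ _ hg.1, hg'⟩).2
  · exact (e.symm.le ⟨hout _ _ hg.1, hg'⟩).1

theorem le_normalizer_vertexR (h : Cfsg.IsCharPAmalgamPair p M₁ M₂) (a : Cfsg.CosetVertex M₁ M₂) :
    Cfsg.pElementClosure p (stabilizer X a) ≤ Subgroup.normalizer (vertexR p a : Set X) := by
  set L := Cfsg.pElementClosure p (stabilizer X a)
  have hn : (Cfsg.pResidual p ↥L).Normal := inferInstance
  intro l hl
  rw [vertexR, Subgroup.mem_normalizer_iff_map_conj_eq]
  ext y
  constructor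
  · rintro ⟨_, ⟨r, hr, rfl⟩, rfl⟩
    exact ⟨⟨l, hl⟩ * r * ⟨l, hl⟩⁻¹, hn.conj_mem r hr _, rfl⟩
  · rintro ⟨r, hr, rfl⟩
    exact ⟨_, ⟨⟨l, hl⟩⁻¹ * r * ⟨l, hl⟩, by simpa using hn.conj_mem r hr ⟨l, hl⟩⁻¹, rfl⟩,
      by simp [mul_assoc]⟩

/-- `O^p(L_a)` is transitive on the neighbours of `a`. -/
theorem vertexR_transitive (h : Cfsg.IsSpeAmalgamPair p M₁ M₂) {a b ν : Cfsg.CosetVertex M₁ M₂}
    (hb : (Cfsg.cosetGraph M₁ M₂).Adj a b) (hν : (Cfsg.cosetGraph M₁ M₂).Adj a ν) :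
    ∃ r ∈ vertexR p a, r • b = ν := by
  have hc := h.1
  haveI := H74.vertex_finite hc a
  obtain ⟨T, hT⟩ := H74.exists_sylIn_edge hc a b
  have hTs := H74.sylIn_edge_left hc hb hT
  set L := Cfsg.pElementClosure p (stabilizer X a) with hL
  haveI : Finite L := Finite.of_injective _ (Subgroup.inclusion_injective (H74.pElementClosure_le _))
  have hTL : T ≤ L := hTs.le_pElementClosure
  obtain ⟨g, hg, hgν⟩ := H74.neighbours_transitive hb hν
  obtain ⟨o, ho, hon⟩ := H74.frattini_in hTs (H74.pElementClosure_le _) hTL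
    (H74.le_normalizer_pElementClosure _) hg
  obtain ⟨P, hP⟩ := (hTs.of_le hTL (H74.pElementClosure_le _)).exists_sylow
  have hsplit : L ≤ vertexR p a ⊔ T := by
    have h1 := congrArg (Subgroup.map L.subtype) (H5.pResidual_sup_sylow (G := L) P)
    rw [Subgroup.map_sup, hP, ← MonoidHom.range_eq_map, Subgroup.range_subtype] at h1
    exact h1.ge
  have ho' : o ∈ ((vertexR p a ⊔ T : Subgroup X) : Set X) := hsplit ho
  rw [Subgroup.coe_mul_of_right_le_normalizer_left _ _ (hTL.trans (le_normalizer_vertexR hc a))] at ho'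
  obtain ⟨r, hr, t, ht, rfl⟩ := ho'
  refine ⟨r, hr, ?_⟩
  have h1 : ((r * t)⁻¹ * g) • b = b :=
    mem_stabilizer_iff.mp (edge_normalizer_le h hb hT hon)
  have htb : t • b = b := mem_stabilizer_iff.mp (hT.le ht).2
  rw [mul_smul, inv_smul_eq_iff, mul_smul, htb, hgν] at h1
  exact h1.symm

theorem dist_smul_le (hgen : M₁ ⊔ M₂ = ⊤) (g : X) (a b : Cfsg.CosetVertex M₁ M₂) :
    (Cfsg.cosetGraph M₁ M₂).dist (g • a) (g • b) ≤ (Cfsg.cosetGraph M₁ M₂).dist a b := by
  obtain ⟨w, hw⟩ := (H74.connected_of_sup_eq_top hgen).exists_walk_length_eq_dist a b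
  let f : Cfsg.cosetGraph M₁ M₂ →g Cfsg.cosetGraph M₁ M₂ := ⟨(g • ·), fun h => H74.adj_smul h g⟩
  have := SimpleGraph.dist_le (w.map f)
  rw [SimpleGraph.Walk.length_map, hw] at this
  exact this

theorem map_vertexZ_le (h : Cfsg.IsCharPAmalgamPair p M₁ M₂) (g : X) (a : Cfsg.CosetVertex M₁ M₂) :
    (Cfsg.vertexZ p a).map (MulAut.conj g).toMonoidHom ≤ Cfsg.vertexZ p (g • a) := by
  haveI := H74.vertex_finite h a
  have := H74.map_sylowCenterClosure_le (p := p) (stabilizer X a) (MulAut.conj g).toMonoidHom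
    (MulAut.conj g).injective
  rwa [Cfsg.vertexZ, Cfsg.vertexZ, stabilizer_smul_eq_stabilizer_map_conj]

theorem map_vIter_le (h : Cfsg.IsCharPAmalgamPair p M₁ M₂) (g : X) (n : ℕ)
    (a : Cfsg.CosetVertex M₁ M₂) :
    (Cfsg.vertexVIter p M₁ M₂ n a).map (MulAut.conj g).toMonoidHom ≤
      Cfsg.vertexVIter p M₁ M₂ n (g • a) := by
  rw [Cfsg.vertexVIter, Subgroup.map_iSup, iSup_le_iff]
  rintro ⟨ν, hν⟩
  exact (map_vertexZ_le h g ν).trans (le_iSup (fun μ : {μ : Cfsg.CosetVertex M₁ M₂ //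
    (Cfsg.cosetGraph M₁ M₂).dist (g • a) μ ≤ n} => Cfsg.vertexZ p (μ : Cfsg.CosetVertex M₁ M₂))
    ⟨g • ν, (dist_smul_le h.1.1 g a ν).trans hν⟩)

theorem stabilizer_le_normalizer_vIter (h : Cfsg.IsCharPAmalgamPair p M₁ M₂) (n : ℕ)
    (a : Cfsg.CosetVertex M₁ M₂) :
    stabilizer X a ≤ Subgroup.normalizer (Cfsg.vertexVIter p M₁ M₂ n a : Set X) := by
  have key : ∀ g ∈ stabilizer X a, ∀ y ∈ Cfsg.vertexVIter p M₁ M₂ n a,
      g * y * g⁻¹ ∈ Cfsg.vertexVIter p M₁ M₂ n a := by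
    intro g hg y hy
    have h1 := map_vIter_le h g n a ⟨y, hy, rfl⟩
    rwa [mem_stabilizer_iff.mp hg] at h1
  intro g hg
  rw [Subgroup.mem_normalizer_iff]
  refine fun y => ⟨key g hg y, fun hy => ?_⟩
  simpa [mul_assoc] using key g⁻¹ (inv_mem hg) _ hy

theorem vIter_le_of_dist (h : Cfsg.IsCharPAmalgamPair p M₁ M₂) {a b : Cfsg.CosetVertex M₁ M₂}
    {m n : ℕ} (hmn : (Cfsg.cosetGraph M₁ M₂).dist a b + m ≤ n) :
    Cfsg.vertexVIter p M₁ M₂ m b ≤ Cfsg.vertexVIter p M₁ M₂ n a := by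
  rw [Cfsg.vertexVIter, iSup_le_iff]
  rintro ⟨ν, hν⟩
  refine le_iSup (fun μ : {μ : Cfsg.CosetVertex M₁ M₂ //
    (Cfsg.cosetGraph M₁ M₂).dist a μ ≤ n} => Cfsg.vertexZ p (μ : Cfsg.CosetVertex M₁ M₂))
    ⟨ν, ?_⟩
  have := (H74.connected_of_sup_eq_top h.1.1).dist_triangle (u := a) (v := b) (w := ν)
  omega

theorem vertexZ_le_vIter (n : ℕ) (a : Cfsg.CosetVertex M₁ M₂) :
    Cfsg.vertexZ p a ≤ Cfsg.vertexVIter p M₁ M₂ n a :=
  le_iSup (fun μ : {μ : Cfsg.CosetVertex M₁ M₂ //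
    (Cfsg.cosetGraph M₁ M₂).dist a μ ≤ n} => Cfsg.vertexZ p (μ : Cfsg.CosetVertex M₁ M₂))
    ⟨a, by rw [SimpleGraph.dist_self]; exact Nat.zero_le n⟩

theorem vIter_le_iSup_neighbours (h : Cfsg.IsCharPAmalgamPair p M₁ M₂) (n : ℕ) (hn : 1 ≤ n)
    (a : Cfsg.CosetVertex M₁ M₂) :
    Cfsg.vertexVIter p M₁ M₂ n a ≤
      ⨆ b : {b : Cfsg.CosetVertex M₁ M₂ // (Cfsg.cosetGraph M₁ M₂).Adj a b},
        Cfsg.vertexVIter p M₁ M₂ (n - 1) b.1 := by
  rw [Cfsg.vertexVIter, iSup_le_iff]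
  rintro ⟨ν, hν⟩
  by_cases hνa : ν = a
  · subst hνa
    haveI := H74.vertex_finite h ν
    refine H74.sylowCenterClosure_le fun T hT => ?_
    obtain ⟨b, hb⟩ := H74.exists_adj ν
    obtain ⟨T₀, hT₀⟩ := H74.exists_sylIn_edge h ν b
    obtain ⟨g, hg, rfl⟩ := (H74.sylIn_edge_left h hb hT₀).conj hT
    rw [H74.omegaZ_map _ _ (MulAut.conj g).injective]
    haveI := H74.vertex_finite h b
    have hgb : (Cfsg.cosetGraph M₁ M₂).Adj ν (g • b) := by
      have := H74.adj_smul hb g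
      rwa [mem_stabilizer_iff.mp hg] at this
    refine le_trans ?_ (le_iSup _ ⟨g • b, hgb⟩)
    refine le_trans (Subgroup.map_mono (H74.omegaZ_le_closure (H74.sylIn_edge_right h hb hT₀))) ?_
    exact (map_vertexZ_le h g b).trans (vertexZ_le_vIter _ _)
  · obtain ⟨c, hc, hcd⟩ := H74.exists_closer (H74.connected_of_sup_eq_top h.1.1) (Ne.symm hνa)
    refine le_trans ?_ (le_iSup _ ⟨c, hc⟩)
    exact le_iSup (fun μ : {μ : Cfsg.CosetVertex M₁ M₂ //
      (Cfsg.cosetGraph M₁ M₂).dist c μ ≤ n - 1} => Cfsg.vertexZ p (μ : Cfsg.CosetVertex M₁ M₂))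
      ⟨ν, by
        have hν' : (Cfsg.cosetGraph M₁ M₂).dist a ν ≤ n := hν
        show (Cfsg.cosetGraph M₁ M₂).dist c ν ≤ n - 1
        omega⟩

theorem vertexZ_ne_bot (h : Cfsg.IsCharPAmalgamPair p M₁ M₂) (a : Cfsg.CosetVertex M₁ M₂) :
    Cfsg.vertexZ p a ≠ ⊥ := by
  haveI := H74.vertex_finite h a
  obtain ⟨S⟩ := (inferInstance : Nonempty (Sylow p ↥(stabilizer X a)))
  have hd : p ∣ Nat.card ↥(stabilizer X a) := by
    obtain ⟨-, -, -, hd1, hd2, -⟩ := h
    obtain ⟨x, rfl | rfl⟩ := H74.vertex_cases a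
    · rw [H74.stab_smul_baseL, Subgroup.card_map_of_injective (MulAut.conj x).injective]; exact hd1
    · rw [H74.stab_smul_baseR, Subgroup.card_map_of_injective (MulAut.conj x).injective]; exact hd2
  have hS : (S : Subgroup ↥(stabilizer X a)) ≠ ⊥ := S.ne_bot_of_dvd_card hd
  have hn : Nontrivial ↥(S : Subgroup ↥(stabilizer X a)) := (Subgroup.nontrivial_iff_ne_bot _).mpr hS
  haveI := S.isPGroup'.center_nontrivial
  obtain ⟨k, hk, hcard⟩ :=
    (S.isPGroup'.to_subgroup (Subgroup.center _)).nontrivial_iff_card.mp S.isPGroup'.center_nontrivial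
  obtain ⟨z, hz⟩ := exists_prime_orderOf_dvd_card' p
    (show p ∣ Nat.card ↥(Subgroup.center ↥(S : Subgroup ↥(stabilizer X a))) by
      rw [hcard]; exact dvd_pow_self p (by omega))
  intro hbot
  have hmem : ((z.1.1 : ↥(stabilizer X a)) : X) ∈ Cfsg.vertexZ p a := by
    refine le_iSup (fun S : Sylow p ↥(stabilizer X a) =>
      Cfsg.omegaOne p (((S : Subgroup _).map (stabilizer X a).subtype) ⊓ Subgroup.centralizer
        (((S : Subgroup _).map (stabilizer X a).subtype : Subgroup X) : Set X))) S ?_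
    refine Subgroup.subset_closure ⟨⟨⟨z.1.1, z.1.2, rfl⟩, Subgroup.mem_centralizer_iff.mpr ?_⟩, ?_⟩
    · rintro _ ⟨s, hs, rfl⟩
      exact congrArg (fun w : ↥(S : Subgroup ↥(stabilizer X a)) => ((w : ↥(stabilizer X a)) : X))
        (Subgroup.mem_center_iff.mp z.2 ⟨s, hs⟩)
    · have h1 : z ^ p = 1 := orderOf_dvd_iff_pow_eq_one.mp (by rw [hz])
      exact congrArg (fun w : ↥(Subgroup.center ↥(S : Subgroup ↥(stabilizer X a))) =>
        ((w.1 : ↥(stabilizer X a)) : X)) h1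
  rw [hbot, Subgroup.mem_bot] at hmem
  have : z = 1 := Subtype.ext (Subtype.ext (Subtype.ext hmem))
  rw [this, orderOf_one] at hz
  exact (Fact.out : p.Prime).ne_one hz.symm

/-- The central argument: `O^p(L_a)` cannot act trivially on `V_a^{(n)}` modulo `[V, Q_a] V_b^{(n-1)}`. -/
theorem vIter_noncentral (h : Cfsg.IsSpeAmalgamPair p M₁ M₂) (a : Cfsg.CosetVertex M₁ M₂) (n : ℕ)
    (hn : 1 ≤ n) (hVQ : Cfsg.vertexVIter p M₁ M₂ n a ≤ Cfsg.vertexQ p a)
    (hR : ∀ b, (Cfsg.cosetGraph M₁ M₂).Adj a b →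
      ⁅Cfsg.vertexVIter p M₁ M₂ n a, vertexR p a⁆ ≤
        ⁅Cfsg.vertexVIter p M₁ M₂ n a, Cfsg.vertexQ p a⁆ ⊔ Cfsg.vertexVIter p M₁ M₂ (n - 1) b) :
    False := by
  have hc := h.1
  set V := Cfsg.vertexVIter p M₁ M₂ n a with hV
  set Q := Cfsg.vertexQ p a with hQ
  obtain ⟨b, hb⟩ := H74.exists_adj a
  set W := Cfsg.vertexVIter p M₁ M₂ (n - 1) b with hW
  have hWV : W ≤ V := vIter_le_of_dist hc (by
    rw [SimpleGraph.dist_eq_one_iff_adj.mpr hb]; omega)
  haveI := H74.vertex_finite hc a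
  haveI := H74.vertex_finite hc b
  have hQa : Q ≤ stabilizer X a := H74.pCoreOf_le _
  have hQb : Q ≤ stabilizer X b := (H74.vertexQ_le hc a).trans (H74.neighbourKernel_le hb)
  have hQV : Q ≤ Subgroup.normalizer (V : Set X) :=
    hQa.trans (stabilizer_le_normalizer_vIter hc n a)
  have hQW : Q ≤ Subgroup.normalizer (W : Set X) :=
    hQb.trans (stabilizer_le_normalizer_vIter hc (n - 1) b)
  have hVW : V ≤ ⁅V, Q⁆ ⊔ W := by
    refine (vIter_le_iSup_neighbours hc n hn a).trans (iSup_le ?_)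
    rintro ⟨ν, hν⟩
    obtain ⟨r, hr, rfl⟩ := vertexR_transitive h hb hν
    intro y hy
    have h1 := map_vIter_le hc r⁻¹ (n - 1) (r • b) ⟨y, hy, rfl⟩
    rw [inv_smul_smul] at h1
    have hw : r⁻¹ * y * r ∈ W := by simpa using h1
    have hcomm : r * (r⁻¹ * y * r) * r⁻¹ * (r⁻¹ * y * r)⁻¹ ∈ ⁅V, vertexR p a⁆ := by
      rw [Subgroup.commutator_comm]
      exact Subgroup.commutator_mem_commutator hr (hWV hw)
    have h2 := (⁅V, Q⁆ ⊔ W).mul_mem (hR b hb hcomm) (Subgroup.mem_sup_right hw)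
    refine Eq.mp (congrArg (· ∈ ⁅V, Q⁆ ⊔ W) ?_) h2
    group
  -- iterate down the lower central series of `Q`
  let γ : ℕ → Subgroup X := iterComm V Q
  have hγQ : ∀ i : ℕ, Q ≤ Subgroup.normalizer (SetLike.coe (iterComm V Q i)) := by
    intro i
    cases i with
    | zero => exact hQV
    | succ i => exact Subgroup.normalizer_commutator_ge_right _ _
  have hstep : ∀ i, V ≤ W ⊔ γ i := by
    intro i
    induction i with
    | zero => exact le_sup_right
    | succ i ih =>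
      refine hVW.trans (sup_le ?_ le_sup_left)
      refine (Subgroup.commutator_mono ih le_rfl).trans ?_
      set D := W ⊔ γ (i + 1) with hD
      have hQD : Q ≤ Subgroup.normalizer (D : Set X) := by
        intro q hq
        rw [Subgroup.mem_normalizer_iff_map_conj_eq]
        exact (Subgroup.map_sup W (γ (i + 1)) (MulAut.conj q).toMonoidHom).trans (congrArg₂ (· ⊔ ·)
          (H76.map_conj_eq_of_mem_normalizer (hQW hq))
          (H76.map_conj_eq_of_mem_normalizer (hγQ (i + 1) hq)))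
      have hγle : ∀ j, γ j ≤ Q := by
        intro j
        induction j with
        | zero => exact hVQ
        | succ j ihj =>
          exact (Subgroup.commutator_mono ihj le_rfl).trans (Subgroup.commutator_le_self Q)
      let U : Subgroup X :=
        { carrier := {x | x ∈ Q ∧ ∀ q ∈ Q, ⁅x, q⁆ ∈ D}
          one_mem' := ⟨one_mem _, fun q _ => by rw [commutatorElement_one_left]; exact one_mem _⟩
          mul_mem' := by
            rintro x y ⟨hx, hx'⟩ ⟨hy, hy'⟩
            refine ⟨mul_mem hx hy, fun q hq => ?_⟩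
            have h1 := (Subgroup.mem_normalizer_iff.mp (hQD hx) _).mp (hy' q hq)
            refine Eq.mp (congrArg (· ∈ D) ?_) (D.mul_mem h1 (hx' q hq))
            simp only [commutatorElement_def]; group
          inv_mem' := by
            rintro x ⟨hx, hx'⟩
            refine ⟨inv_mem hx, fun q hq => ?_⟩
            have h1 := (Subgroup.mem_normalizer_iff.mp (hQD (inv_mem hx)) _).mp (D.inv_mem (hx' q hq))
            refine Eq.mp (congrArg (· ∈ D) ?_) h1
            simp only [commutatorElement_def]; group }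
      have hU : W ⊔ γ i ≤ U := by
        refine sup_le (fun w hw => ⟨hVQ (hWV hw), fun q hq => ?_⟩) (fun x hx => ⟨hγle i hx, fun q hq => ?_⟩)
        · refine Subgroup.mem_sup_left ?_
          have := W.mul_mem hw ((Subgroup.mem_normalizer_iff.mp (hQW hq) _).mp (W.inv_mem hw))
          simpa [commutatorElement_def, mul_assoc] using this
        · exact Subgroup.mem_sup_right (Subgroup.commutator_mem_commutator hx hq)
      rw [Subgroup.commutator_le]
      exact fun x hx q hq => (hU hx).2 q hq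
  have hQp : IsPGroup p Q :=
    (show IsPGroup p (Cfsg.pCore p ↥(stabilizer X a)) from
      Sylow.sSup_of_normal _ (fun _ h => h.2) (fun _ h => h.1)).map _
  haveI : Finite Q := Finite.of_injective _ (Subgroup.inclusion_injective hQa)
  have hnil : Group.IsNilpotent Q := hQp.isNilpotent
  obtain ⟨m, hm⟩ := (Subgroup.nilpotent_iff_lowerCentralSeries (G := Q)).mp hnil
  have hγm : γ m ≤ Q.lowerCentralSeries m := by
    have : ∀ j, γ j ≤ Q.lowerCentralSeries j := by
      intro j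
      induction j with
      | zero => exact hVQ
      | succ j ihj =>
        rw [Subgroup.lowerCentralSeries_succ]
        exact Subgroup.commutator_mono ihj le_rfl
    exact this m
  have hm' : Q.lowerCentralSeries m = ⊥ := by
    rw [← Subgroup.top_subtype_lowerCentralSeries, hm, Subgroup.map_bot]
  have hVeqW : V = W := le_antisymm ((hstep m).trans (sup_le le_rfl (hγm.trans (hm'.le.trans bot_le)))) hWV
  have hVbot : V = ⊥ := by
    refine H74.eq_bot_of_transitive_normalizers hc.1.1 hc.1.2.2.2 hb V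
      (le_inf (hVQ.trans hQa) (hVQ.trans hQb)) (stabilizer X a : Set X) (stabilizer X b : Set X)
      (stabilizer_le_normalizer_vIter hc n a) ?_ ?_ ?_
    · rw [hVeqW]; exact stabilizer_le_normalizer_vIter hc (n - 1) b
    · intro ν hν
      obtain ⟨g, hg, hgν⟩ := H74.neighbours_transitive hb hν
      exact ⟨g, hg, mem_stabilizer_iff.mp hg, hgν⟩
    · intro ν hν
      obtain ⟨g, hg, hgν⟩ := H74.neighbours_transitive hb.symm hν
      exact ⟨g, hg, mem_stabilizer_iff.mp hg, hgν⟩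
  exact vertexZ_ne_bot hc a (le_bot_iff.mp ((vertexZ_le_vIter n a).trans hVbot.le))

end H76
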