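import Mathlib.GroupTheory.Transfer
import Mathlib.GroupTheory.PGroup
import Mathlib.GroupTheory.Index
import Mathlib.Tactic.Group

/-!
Transfer of a central involution of a Sylow 2-subgroup.
-/

set_option autoImplicit false

namespace H76

open Subgroup MonoidHom

variable {G : Type*} [Group G] [Finite G]

open scoped Classical in
theorem transfer_central_involution {A : Type*} [CommGroup A] (S : Sylow 2 G)
    (φ : ↥(S : Subgroup G) →* A) (a : A) (ha : ∀ b : A, b = 1 ∨ b = a) (z : G) (hz : z ∈ (S : Subgroup G))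
    (hzc : ∀ s ∈ (S : Subgroup G), s * z = z * s) (hz2 : z ^ 2 = 1)
    (hN : ∀ g ∈ Subgroup.normalizer ((S : Subgroup G) : Set G), g * z * g⁻¹ = z)
    (hφ : φ ⟨z, hz⟩ = a) (ha1 : a ≠ 1) : transfer φ z = a := by
  have : Fintype (G ⧸ (S : Subgroup G)) := Fintype.ofFinite _
  let T : (S : Subgroup G).LeftTransversal :=
    ⟨Set.range (fun q : G ⧸ (S : Subgroup G) => q.out),
      Subgroup.isComplement_range_left Quotient.out_eq'⟩
  have hT : ∀ q, (T.2.leftQuotientEquiv q : G) = q.out :=
    IsComplement.leftQuotientEquiv_apply Quotient.out_eq'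
  have hzinv : z⁻¹ = z := inv_eq_of_mul_eq_one_right (by rw [← pow_two, hz2])
  have hmem : ∀ q : G ⧸ (S : Subgroup G), q.out⁻¹ * z * (z • q).out ∈ (S : Subgroup G) := by
    intro q
    rw [mul_assoc]
    refine QuotientGroup.eq.mp ?_
    rw [QuotientGroup.out_eq', show ((z * (z • q).out : G) : G ⧸ (S : Subgroup G))
      = z • ((z • q).out : G ⧸ (S : Subgroup G)) from rfl, QuotientGroup.out_eq', ← mul_smul,
      ← pow_two, hz2, one_smul]
  let F : G ⧸ (S : Subgroup G) → A := fun q => φ ⟨_, hmem q⟩
  have hsum : transfer φ z = ∏ q, F q := by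
    rw [transfer_def φ T, Subgroup.leftTransversals.diff]
    refine Finset.prod_congr (Finset.ext fun q => by simp) fun q _ => ?_
    refine congrArg φ (Subtype.ext ?_)
    show (T.2.leftQuotientEquiv q : G)⁻¹ * ((z • T).2.leftQuotientEquiv q : G) = _
    rw [Subgroup.smul_apply_eq_smul_apply_inv_smul, hT, hT, hzinv, smul_eq_mul]
    exact (mul_assoc _ _ _).symm
  -- two-cycles cancel
  have hfix : ∏ q, F q = ∏ q ∈ Finset.univ.filter (fun q : G ⧸ (S : Subgroup G) => z • q = q), F q := by
    rw [← Finset.prod_filter_mul_prod_filter_not Finset.univ (fun q : G ⧸ (S : Subgroup G) => z • q = q)]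
    refine mul_eq_left.mpr ?_
    refine Finset.prod_involution (fun q _ => z • q) ?_ ?_ ?_ ?_
    · intro q _
      have e : z • (z • q) = q := by rw [← mul_smul, ← pow_two, hz2, one_smul]
      show φ ⟨_, hmem q⟩ * φ ⟨_, hmem (z • q)⟩ = 1
      rw [← map_mul, ← map_one φ]
      refine congrArg φ (Subtype.ext ?_)
      show q.out⁻¹ * z * (z • q).out * ((z • q).out⁻¹ * z * (z • (z • q)).out) = 1
      rw [e]
      calc q.out⁻¹ * z * (z • q).out * ((z • q).out⁻¹ * z * q.out)
          = q.out⁻¹ * (z * z) * q.out := by group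
        _ = 1 := by rw [← pow_two, hz2]; group
    · intro q hq _
      exact (Finset.mem_filter.mp hq).2
    · intro q hq
      rw [Finset.mem_filter]
      refine ⟨Finset.mem_univ _, fun h => (Finset.mem_filter.mp hq).2 ?_⟩
      calc z • q = z • (z • q) := h.symm
        _ = q := by rw [← mul_smul, ← pow_two, hz2, one_smul]
    · intro q _
      rw [← mul_smul, ← pow_two, hz2, one_smul]
  -- the set of fixed cosets with nontrivial contribution
  let X : SubMulAction ↥(S : Subgroup G) (G ⧸ (S : Subgroup G)) :=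
    { carrier := {q | z • q = q ∧ F q = a}
      smul_mem' := by
        rintro ⟨s, hs⟩ q ⟨hq, hFq⟩
        have h1 : z • (s • q) = s • q := by rw [← mul_smul, ← hzc s hs, mul_smul, hq]
        refine ⟨h1, ?_⟩
        rw [← hFq]
        show φ ⟨_, hmem (s • q)⟩ = φ ⟨_, hmem q⟩
        obtain ⟨t, ht⟩ : ∃ t : ↥(S : Subgroup G), (s • q).out = s * q.out * t := by
          have : (s • q : G ⧸ (S : Subgroup G)) = ((s * q.out : G) : G ⧸ (S : Subgroup G)) := by
            conv_lhs => rw [← QuotientGroup.out_eq' q]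
            rfl
          rw [this]
          exact QuotientGroup.mk_out_eq_mul (S : Subgroup G) (s * q.out)
        have h2 : φ ⟨_, hmem (s • q)⟩ = φ (t⁻¹ * ⟨_, hmem q⟩ * t) := by
          refine congrArg φ (Subtype.ext ?_)
          show (s • q).out⁻¹ * z * (z • (s • q)).out = (t : G)⁻¹ * (q.out⁻¹ * z * (z • q).out) * t
          rw [h1, hq, ht]
          calc (s * q.out * t)⁻¹ * z * (s * q.out * t)
              = (t : G)⁻¹ * q.out⁻¹ * (s⁻¹ * (z * s)) * q.out * t := by group
            _ = _ := by rw [← hzc s hs]; group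
        rw [h2, map_mul, map_mul, map_inv, mul_comm, ← mul_assoc, mul_inv_cancel, one_mul] }
  have hprod : ∏ q ∈ Finset.univ.filter (fun q : G ⧸ (S : Subgroup G) => z • q = q), F q
      = a ^ Nat.card X := by
    rw [← Finset.prod_filter_mul_prod_filter_not _ (fun q => F q = a)]
    have h1 : ∀ q ∈ ((Finset.univ.filter (fun q : G ⧸ (S : Subgroup G) => z • q = q)).filter
        (fun q => ¬ F q = a)), F q = 1 :=
      fun q hq => (ha (F q)).resolve_right (Finset.mem_filter.mp hq).2
    rw [Finset.prod_eq_one h1, mul_one,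
      Finset.prod_congr rfl (fun q hq => (Finset.mem_filter.mp hq).2), Finset.prod_const]
    congr 1
    rw [Finset.filter_filter, Nat.card_eq_fintype_card]
    exact (Fintype.card_subtype (fun q => z • q = q ∧ F q = a)).symm.trans (Fintype.card_congr (Equiv.refl _))
  have hfp : ∀ q : G ⧸ (S : Subgroup G),
      q ∈ MulAction.fixedPoints ↥(S : Subgroup G) (G ⧸ (S : Subgroup G)) → z • q = q ∧ F q = a := by
    intro q hq
    have h1 : z • q = q := hq ⟨z, hz⟩
    refine ⟨h1, ?_⟩
    have hout : (q.out : G ⧸ (S : Subgroup G)) ∈ MulAction.fixedPoints ↥(S : Subgroup G) (G ⧸ (S : Subgroup G)) := by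
      rwa [QuotientGroup.out_eq']
    have hn : q.out ∈ Subgroup.normalizer ((S : Subgroup G) : Set G) :=
      (Sylow.mem_fixedPoints_mul_left_cosets_iff_mem_normalizer).mp hout
    rw [← hφ]
    refine congrArg φ (Subtype.ext ?_)
    show q.out⁻¹ * z * (z • q).out = z
    rw [h1]
    calc q.out⁻¹ * z * q.out = q.out⁻¹ * (q.out * z * q.out⁻¹) * q.out := by rw [hN _ hn]
      _ = z := by group
  have hodd : Odd (Nat.card X) := by
    have h1 := S.isPGroup'.card_modEq_card_fixedPoints X
    have h2 := S.isPGroup'.card_modEq_card_fixedPoints (G ⧸ (S : Subgroup G))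
    have h3 : Nat.card (MulAction.fixedPoints ↥(S : Subgroup G) X)
        = Nat.card (MulAction.fixedPoints ↥(S : Subgroup G) (G ⧸ (S : Subgroup G))) :=
      Nat.card_congr
        { toFun := fun x => ⟨x.1.1, fun s => congrArg Subtype.val (x.2 s)⟩
          invFun := fun q => ⟨⟨q.1, hfp q.1 q.2⟩, fun s => Subtype.ext (q.2 s)⟩
          left_inv := fun x => rfl
          right_inv := fun q => rfl }
    rw [h3] at h1
    have h4 := h1.trans h2.symm
    rw [← Subgroup.index_eq_card] at h4
    have h5 := S.not_dvd_index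
    rw [Nat.dvd_iff_mod_eq_zero] at h5
    rw [Nat.odd_iff]
    have h4' : Nat.card X % 2 = (S : Subgroup G).index % 2 := h4
    omega
  rw [hsum, hfix, hprod]
  obtain ⟨k, hk⟩ := hodd
  have hsq : a ^ 2 = 1 := by
    rcases ha (a * a) with h | h
    · rw [pow_two]; exact h
    · exact absurd (mul_eq_right.mp h) ha1
  rw [hk, pow_succ, pow_mul, hsq, one_pow, one_mul]

end H76
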