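import Cfsg.Agent.H76.ExcCover
import Cfsg.Agent.H76.SLnExtensions
import Cfsg.Prelude.Def_ChevD4

/-!
Lifts for D₄ over fields with at least three elements; over three elements the orthogonal pairs with
equal parity commute because a Weyl element exchanges them.
-/

set_option autoImplicit false
set_option linter.unusedSectionVars false
set_option maxRecDepth 100000

namespace H76.Exc

open Cfsg.Lie Subgroup
open scoped commutatorElement

/-- The image of a pair of root elements under a word of fundamental reflections, with signs. -/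
def pairRun (D : ChevalleyDatum) (T : H52.Tables) (r s : ℕ) : List ℕ → ℕ × ℕ × ℤ × ℤ
  | [] => (r, s, 1, 1)
  | i :: w =>
    let p := pairRun D T r s w
    (D.reflectRoot i p.1, D.reflectRoot i p.2.1, p.2.2.1 * T.eps i p.1, p.2.2.2 * T.eps i p.2.1)

variable {D : ChevalleyDatum} (C : H54.Ctx D) {F : Type*} [Field F]

theorem pairRun_spec {Γ : Type*} [Group Γ] {π : Γ →* ↥(D.group F)} (hs : Function.Surjective π)
    {r s : ℕ} (hr : r < D.nroots) (hs' : s < D.nroots) :
    ∀ w : List ℕ, (∀ i ∈ w, i < D.rank) →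
      (pairRun D C.T r s w).1 < D.nroots ∧ (pairRun D C.T r s w).2.1 < D.nroots ∧
      ∃ g : Γ, (∀ t, π g * xg C r t * (π g)⁻¹ =
          xg C (pairRun D C.T r s w).1 (((pairRun D C.T r s w).2.2.1 : F) * t)) ∧
        ∀ t, π g * xg C s t * (π g)⁻¹ =
          xg C (pairRun D C.T r s w).2.1 (((pairRun D C.T r s w).2.2.2 : F) * t) := by
  intro w
  induction w with
  | nil => exact fun _ => ⟨hr, hs', 1, fun t => by simp [pairRun], fun t => by simp [pairRun]⟩
  | cons i w ih =>
    intro hw
    obtain ⟨h1, h2, g, hg1, hg2⟩ := ih fun j hj => hw j (List.mem_cons_of_mem _ hj)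
    have hi := hw i List.mem_cons_self
    obtain ⟨n, hn⟩ := hs (ng C (⟨i, hi⟩ : Fin D.rank))
    refine ⟨C.hC.reflect_lt hi h1, C.hC.reflect_lt hi h2, n * g, fun t => ?_, fun t => ?_⟩
    · rw [map_mul, mul_inv_rev, show π n * π g * xg C r t * ((π g)⁻¹ * (π n)⁻¹) =
          π n * (π g * xg C r t * (π g)⁻¹) * (π n)⁻¹ by group, hg1, hn, ng_conj C _ h1]
      simp only [pairRun]; push_cast; ring_nf
    · rw [map_mul, mul_inv_rev, show π n * π g * xg C s t * ((π g)⁻¹ * (π n)⁻¹) =
          π n * (π g * xg C s t * (π g)⁻¹) * (π n)⁻¹ by group, hg2, hn, ng_conj C _ h2]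
      simp only [pairRun]; push_cast; ring_nf

/-- Over three elements, commuting root subgroups exchanged with equal signs lift to commuting
groups. -/
theorem commLift_of_swap [Fintype F] (h3 : Fintype.card F = 3) {Γ : Type*} [Group Γ]
    {π : Γ →* ↥(D.group F)} (hs : Function.Surjective π) (hc : π.ker ≤ center Γ) {r s : ℕ}
    (hr : r < D.nroots) (hs' : s < D.nroots) (hcm : commOK D r s = true) (w : List ℕ)
    (hw : ∀ i ∈ w, i < D.rank) {e : ℤ} (he : e = 1 ∨ e = -1)
    (h : pairRun D C.T r s w = (s, r, e, e)) : CommLift C π r s := by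
  classical
  choose lf hlf using fun (m : ℕ) (t : F) => hs (xg C m t)
  let B : F → F → Γ := fun t u => ⁅lf r t, lf s u⁆
  have hB : ∀ t u, B t u ∈ center Γ := fun t u => hc (by
    rw [MonoidHom.mem_ker, map_commutatorElement, hlf, hlf, commutatorElement_eq_one_iff_commute]
    exact commOK_spec C hr hs' hcm t u)
  have hl : ∀ t t' u, B (t + t') u = B t' u * B t u := by
    intro t t' u
    show ⁅lf r (t + t'), lf s u⁆ = _
    rw [Cover.comm_congr π hc (x' := lf r t * lf r t') (y' := lf s u)
        (by rw [map_mul, hlf, hlf, hlf, xg_add]) rfl,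
      commutatorElement_mul_left_eq_conj_mul, mem_center_iff.1 (hB t' u) (lf r t),
      mul_inv_cancel_right]
  have hr' : ∀ t u u', B t (u + u') = B t u * B t u' := by
    intro t u u'
    show ⁅lf r t, lf s (u + u')⁆ = _
    rw [Cover.comm_congr π hc (x' := lf r t) (y' := lf s u * lf s u') rfl
        (by rw [map_mul, hlf, hlf, hlf, xg_add]),
      commutatorElement_mul_right_eq_mul_conj, mul_assoc ⁅lf r t, lf s u⁆,
      mem_center_iff.1 (hB t u') (lf s u), ← mul_assoc, mul_inv_cancel_right]
  have hneg : ∀ t u, B (-t) (-u) = B t u := by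
    intro t u
    have l0 : B 0 (-u) = 1 := by
      have := hl 0 0 (-u); rw [add_zero] at this; exact left_eq_mul.1 this
    have r0 : B t 0 = 1 := by
      have := hr' t 0 0; rw [add_zero] at this; exact left_eq_mul.1 this
    have e1 := hl (-t) t (-u)
    rw [neg_add_cancel, l0] at e1
    have e2 := hr' t (-u) u
    rw [neg_add_cancel, r0] at e2
    rw [eq_inv_of_mul_eq_one_right e1.symm, eq_inv_of_mul_eq_one_right e2.symm]
  obtain ⟨-, -, g, hg1, hg2⟩ := pairRun_spec C hs hr hs' w hw
  rw [h] at hg1 hg2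
  have hsw : B 1 1 = (B (e : F) e)⁻¹ := by
    show _ = ⁅lf r (e : F), lf s (e : F)⁆⁻¹
    rw [commutatorElement_inv]
    calc B 1 1 = g * B 1 1 * g⁻¹ := by rw [mem_center_iff.1 (hB 1 1) g, mul_inv_cancel_right]
      _ = _ := by
        rw [conjugate_commutatorElement]
        exact Cover.comm_congr π hc
          (by rw [map_mul, map_mul, map_inv, hlf, hlf, hg1, mul_one])
          (by rw [map_mul, map_mul, map_inv, hlf, hlf, hg2, mul_one])
  have hee : B (e : F) e = B 1 1 := by
    rcases he with rfl | rfl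
    · simp
    · push_cast; exact hneg 1 1
  rw [hee] at hsw
  have hall := SLn.vanish_two B hl hr' (Or.inr ⟨h3, hsw⟩)
  intro a b t u ha hb
  refine commutatorElement_eq_one_iff_commute.1 ?_
  rw [Cover.comm_congr π hc (x' := lf r t) (y' := lf s u) (by rw [ha, hlf]) (by rw [hb, hlf])]
  exact hall t u

/-- D₄. -/
def ctxD4 : H54.Ctx chevD4 :=
  ⟨H52.tablesD4, H52.checkedD4, H53.weylForD4, H54.chainOK_of_mem chevD4 (by simp)⟩

/-- The exchanging words for the pairs of the top root without other certificate. -/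
def d4Words : List (ℕ × List ℕ × ℤ) :=
  [(5, [0, 1, 3, 2, 1, 0], -1), (10, [2, 1, 3, 0, 1, 2], -1), (11, [3, 1, 2, 0, 1, 3], -1),
    (12, [1, 2, 0, 1], 1), (13, [1, 3, 0, 1], 1), (18, [1, 3, 2, 1], 1)]

/-- The check for D₄ over three elements. -/
def goodD4Three : Bool :=
  (List.range chevD4.nroots).all fun r => !topRoot chevD4 r ||
    (List.range chevD4.nroots).all fun s => (s == r) || (s == chevD4.neg r) ||
      torusOK chevD4 1 r s || (commOK chevD4 r s && decompOK chevD4 2 r s) ||
      d4Words.any fun p => (p.1 == s) && commOK chevD4 r s && (p.2.2.natAbs == 1) &&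
        (p.2.1.all fun i => Nat.blt i 4) &&
        (pairRun chevD4 H52.tablesD4 r s p.2.1 == (s, r, p.2.2, p.2.2))

theorem goodD4_three : goodD4Three = true := by decide +kernel
theorem goodD4_four : goodOK chevD4 2 1 = true := by decide +kernel
theorem unitD4 : unitOK chevD4 1 = true := by decide +kernel
theorem selfD4 : selfOK chevD4 1 = true := by decide +kernel

/-- Lifts exist for D₄ over fields with at least three elements. -/
theorem lifts_D4 [Fintype F] (hq : 3 ≤ Fintype.card F) {Γ : Type*} [Group Γ]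
    {π : Γ →* ↥(chevD4.group F)} (hs : Function.Surjective π) (hc : π.ker ≤ center Γ) :
    Nonempty (Lifts ctxD4 π) := by
  have hN1 : ∀ n : ℕ, 1 ≤ n → n ≤ 1 → (n : F) ≠ 0 := by
    intro n h1 h1'
    obtain rfl : n = 1 := by omega
    simp
  have hS := self_of_selfOK (C := ctxD4) hs hc hN1 selfD4
  by_cases h3 : Fintype.card F = 3
  swap
  · exact lifts_of_checks hs hc (M := 2) (by omega) hN1 (unitOK_mono (by norm_num) unitD4)
      goodD4_four hS
  have hN2 : ∀ n : ℕ, 1 ≤ n → n ≤ 2 → (n : F) ≠ 0 := by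
    intro n h1 h2 he
    have h := FiniteField.cast_card_eq_zero F
    rw [h3] at h
    push_cast at h
    rcases (by omega : n = 1 ∨ n = 2) with rfl | rfl
    · simp at he
    · push_cast at he
      exact one_ne_zero (α := F) (by linear_combination h - he)
  obtain ⟨z, hz⟩ := exists_generator_zpow (F := F) 1 (by omega)
  have hu := unitD4
  have hg := goodD4_three
  simp only [unitOK, List.all_eq_true, List.mem_range, List.any_eq_true, Bool.and_eq_true,
    Nat.ble_eq] at hu
  simp only [goodD4Three, List.all_eq_true, List.mem_range, Bool.or_eq_true, Bool.not_eq_true',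
    beq_iff_eq, Bool.and_eq_true, torusOK, List.any_eq_true, Nat.ble_eq, Nat.blt_eq] at hg
  refine ⟨torLifts hs hc hS (fun r hr => ?_) fun r hr htop s hs' h1 h2 => ?_⟩
  · obtain ⟨i, hi, h4, h5⟩ := hu r hr
    exact ⟨Pi.mulSingle ⟨i, hi⟩ z, by rw [chi_mulSingle ctxD4]; exact hz _ h4 h5⟩
  · have h := (hg r hr).resolve_left (by simp [htop]) s hs'
    rcases h with (((h | h) | ⟨a, -, ⟨h4, h5⟩, h6⟩) | ⟨-, h⟩) | ⟨p, -, ⟨⟨⟨-, hcm⟩, he⟩, hw⟩, hrun⟩
    · exact absurd h h1
    · exact absurd h h2
    · exact Or.inl ⟨fun i => z ^ H52.crt chevD4 a i.val,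
        by rw [chi_coroot ctxD4, h4, zpow_zero],
        by rw [chi_coroot ctxD4]; exact hz _ h5 h6⟩
    · exact Or.inr (commLift_of_decomp hs hc hN2 hr h)
    · exact Or.inr (commLift_of_swap ctxD4 h3 hs hc hr hs' hcm p.2.1 (fun i hi => hw i hi)
        (by omega) hrun)

end H76.Exc
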