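import Cfsg.Agent.H76.D4TwoCheck
import Cfsg.Agent.H76.ExcD4
import Cfsg.Agent.H76.ExcSchur
import Cfsg.Agent.H52.Simple
import Mathlib.GroupTheory.SpecificGroups.KleinFour

/-!
The group of type D₄ over two elements: its map to the Weyl group of type E₈ modulo sign, and a
stem extension with kernel a four-group.
-/

set_option autoImplicit false
set_option linter.unusedSectionVars false
set_option maxRecDepth 100000

namespace H76.Exc

open Cfsg.Lie Subgroup
open scoped commutatorElement

/-- A matrix given by rows, over the integers modulo three. -/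
def toM (A : List (List ℕ)) : Matrix (Fin 8) (Fin 8) (ZMod 3) :=
  Matrix.of fun i j => (((A.getD i.val []).getD j.val 0 : ℕ) : ZMod 3)

theorem toM_rmul (A B : List (List ℕ)) : toM (rmul A B) = toM A * toM B := by
  ext i j
  simp only [toM, rmul, Matrix.mul_apply, Matrix.of_apply, Fin.sum_univ_eight,
    List.getD_eq_getElem?_getD, List.getElem?_ofFn, i.isLt, j.isLt, dif_pos, Option.getD_some,
    Fin.eta, ZMod.natCast_mod, Nat.cast_add, Nat.cast_mul]
  rfl

theorem toM_one : toM (rsc 1) = 1 := by decide +kernel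

theorem toM_two : toM (rsc 2) = -1 := by decide +kernel

variable (L : List (List (List ℕ)))

/-- The `r`-th lift as an invertible matrix. -/
def rgl (r : ℕ) : GL (Fin 8) (ZMod 3) :=
  if h : rmul (L.getD r []) (L.getD r []) = rsc 1 then
    ⟨toM (L.getD r []), toM (L.getD r []), by rw [← toM_rmul, h, toM_one],
      by rw [← toM_rmul, h, toM_one]⟩
  else 1

/-- The class modulo scalars of the `r`-th lift. -/
def rcl (r : ℕ) : GL (Fin 8) (ZMod 3) ⧸ center (GL (Fin 8) (ZMod 3)) :=
  QuotientGroup.mk (rgl L r)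

variable {L}
variable (hL : liftRelOK L = true)
include hL

theorem rgl_val {r : ℕ} (hr : r < 24) :
    ((rgl L r : GL (Fin 8) (ZMod 3)) : Matrix (Fin 8) (Fin 8) (ZMod 3)) = toM (L.getD r []) := by
  simp only [liftRelOK, List.all_eq_true, List.mem_range, Bool.and_eq_true, beq_iff_eq] at hL
  rw [rgl, dif_pos (hL r hr).1.1]

theorem rgl_sq {r : ℕ} (hr : r < 24) : rgl L r * rgl L r = 1 := by
  apply Units.ext
  have h := hL
  simp only [liftRelOK, List.all_eq_true, List.mem_range, Bool.and_eq_true, beq_iff_eq] at h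
  rw [Units.val_mul, rgl_val hL hr, ← toM_rmul, (h r hr).1.1, toM_one, Units.val_one]

theorem rgl_inv {r : ℕ} (hr : r < 24) : (rgl L r)⁻¹ = rgl L r :=
  inv_eq_of_mul_eq_one_right (rgl_sq hL hr)

theorem rwd_val : ∀ w : List ℕ, (∀ r ∈ w, r < 24) →
    (((w.map (rgl L)).prod : GL (Fin 8) (ZMod 3)) : Matrix (Fin 8) (Fin 8) (ZMod 3)) =
      toM (rwd L w) := by
  intro w
  induction w with
  | nil => intro _; simp [rwd, toM_one]
  | cons r w ih =>
    intro h
    rw [List.map_cons, List.prod_cons, Units.val_mul, rgl_val hL (h r List.mem_cons_self),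
      ih fun q hq => h q (List.mem_cons_of_mem _ hq), ← toM_rmul]
    rfl

omit hL in
theorem mk_eq_of_eqPM {x y : GL (Fin 8) (ZMod 3)} {A B : List (List ℕ)}
    (hx : (x : Matrix (Fin 8) (Fin 8) (ZMod 3)) = toM A)
    (hy : (y : Matrix (Fin 8) (Fin 8) (ZMod 3)) = toM B) (h : rEqPM A B = true) :
    (QuotientGroup.mk x : GL (Fin 8) (ZMod 3) ⧸ center (GL (Fin 8) (ZMod 3))) =
      QuotientGroup.mk y := by
  simp only [rEqPM, Bool.or_eq_true, beq_iff_eq] at h
  rcases h with h | h
  · rw [show x = y from Units.ext (by rw [hx, hy, h])]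
  · have e : x = -1 * y := Units.ext (by
      rw [Units.val_mul, Units.val_neg, Units.val_one, hx, hy, h, toM_rmul, toM_two])
    rw [e, QuotientGroup.eq]
    refine mem_center_iff.2 fun g => ?_
    simp

theorem rcl_rels {r s : ℕ} (hr : r < 24) (hs : s < 24) :
    rcl L r * rcl L r = 1 ∧
    rcl L r * (rcl L (chevD4.neg r) * rcl L r) * (rcl L r * (rcl L (chevD4.neg r) * rcl L r)) = 1 ∧
    (s ≠ r → s ≠ chevD4.neg r →
      (rcl L s)⁻¹ * (rcl L r)⁻¹ * rcl L s * rcl L r =
        ((chevD4.commTerms r s).map fun c => rcl L c.1).prod) := by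
  have h := hL
  simp only [liftRelOK, List.all_eq_true, List.mem_range, Bool.and_eq_true, beq_iff_eq] at h
  obtain ⟨⟨h1, h2⟩, h3⟩ := h r hr
  have hn : chevD4.neg r < 24 := ctxD4.hC.neg_lt (D := chevD4) hr
  refine ⟨?_, ?_, fun hne hne' => ?_⟩
  · rw [rcl, ← QuotientGroup.mk_mul, rgl_sq hL hr, QuotientGroup.mk_one]
  · have e := mk_eq_of_eqPM (y := 1) (rwd_val hL [r, chevD4.neg r, r, r, chevD4.neg r, r] (by
      simp [hr, hn])) (by rw [Units.val_one, toM_one]) h2
    simpa [rcl, List.prod_cons, mul_assoc] using e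
  · have h4 := h3 s hs
    simp only [Bool.or_eq_true, beq_iff_eq] at h4
    replace h4 := h4.resolve_left (by simp [hne, hne'])
    have hlhs : (rcl L s)⁻¹ * (rcl L r)⁻¹ * rcl L s * rcl L r =
        QuotientGroup.mk (rgl L s * rgl L r * (rgl L s * rgl L r)) := by
      rw [rcl, rcl, ← QuotientGroup.mk_inv, ← QuotientGroup.mk_inv, rgl_inv hL hr, rgl_inv hL hs,
        ← QuotientGroup.mk_mul, ← QuotientGroup.mk_mul, ← QuotientGroup.mk_mul, mul_assoc (rgl L s * rgl L r)]
    have hv : ((rgl L s * rgl L r * (rgl L s * rgl L r) : GL (Fin 8) (ZMod 3)) :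
        Matrix (Fin 8) (Fin 8) (ZMod 3)) =
        toM (rmul (rmul (L.getD s []) (L.getD r [])) (rmul (L.getD s []) (L.getD r []))) := by
      simp only [Units.val_mul, rgl_val hL hr, rgl_val hL hs, toM_rmul]
    rw [hlhs]
    split at h4
    · rename_i heq
      rw [heq, List.map_nil, List.prod_nil, ← QuotientGroup.mk_one]
      exact mk_eq_of_eqPM hv (by rw [Units.val_one, toM_one]) h4
    · rename_i k c i j heq
      have hk : k < 24 := ctxD4.hC.commTerms_lt (k, c, i, j) (by rw [heq]; simp)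
      rw [heq, List.map_cons, List.map_nil, List.prod_cons, List.prod_nil, mul_one]
      exact mk_eq_of_eqPM hv (rgl_val hL hk) h4
    · exact absurd h4 Bool.false_ne_true

universe u

variable {F : Type u} [Field F] [Fintype F] (h2 : Fintype.card F = 2)
include h2

/-- The map of the presented group modulo scalars. -/
theorem exists_stLiftHom : ∃ f : chevD4.SteinbergGroup F →* GL (Fin 8) (ZMod 3) ⧸ center _,
    ∀ r < 24, f (chevD4.stGen F r 1) = rcl L r := by
  classical
  let g : Fin chevD4.nroots × F → GL (Fin 8) (ZMod 3) ⧸ center _ := fun p =>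
    if p.2 = 0 then 1 else rcl L p.1.val
  let v : ℕ → F → GL (Fin 8) (ZMod 3) ⧸ center _ := fun r t => if t = 0 then 1 else rcl L r
  have hx : ∀ r < 24, ∀ t : F, FreeGroup.lift g (chevD4.stX r t) = v r t := by
    intro r hr t
    rw [ChevalleyDatum.stX, dif_pos (show r < chevD4.nroots from hr), FreeGroup.lift_apply_of]
  have hw : ∀ w : List (ℕ × F), (∀ p ∈ w, p.1 < 24) →
      FreeGroup.lift g (chevD4.stWord w) = (w.map fun p => v p.1 p.2).prod := by
    intro w
    induction w with
    | nil => intro _; simp [ChevalleyDatum.stWord]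
    | cons p w ih =>
      intro h
      have := ih fun q hq => h q (List.mem_cons_of_mem _ hq)
      simp only [ChevalleyDatum.stWord, List.map_cons, List.prod_cons, map_mul] at this ⊢
      rw [this, hx _ (h p List.mem_cons_self)]
  have h11 : (1 : F) + 1 = 0 := by
    nth_rewrite 1 [← neg_one_eq h2]
    exact neg_add_cancel 1
  have hone : ∀ t : F, t = 0 ∨ t = 1 := fun t => (em (t = 0)).imp id fun h => eq_one_of_ne_zero h2 h
  have hrel : ∀ x ∈ chevD4.steinbergRels F, FreeGroup.lift g x = 1 := by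
    rintro x ((⟨r, t, u, hr, rfl⟩ | ⟨r, s, t, u, hr, hs, hne, hne', rfl⟩) | ⟨r, t, u, hr, ht, hu, rfl⟩)
    · simp only [map_mul, map_inv, hx r hr, v]
      rcases hone t with rfl | rfl <;> rcases hone u with rfl | rfl
      · simp
      · simp
      · simp
      · rw [h11, if_neg one_ne_zero, if_pos rfl, inv_one, mul_one]
        exact (rcl_rels hL hr hr).1
    · have hlt : ∀ p ∈ chevD4.commWord F r s t u, p.1 < 24 := by
        intro p hp
        obtain ⟨c, hc, rfl⟩ := List.mem_map.1 hp
        exact ctxD4.hC.commTerms_lt (D := chevD4) c hc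
      simp only [map_mul, map_inv, hx r hr, hx s hs, hw _ hlt]
      rw [mul_inv_eq_one]
      have hc := (rcl_rels hL hr hs).2.2 hne hne'
      have h4 := hL
      simp only [liftRelOK, List.all_eq_true, List.mem_range, Bool.and_eq_true] at h4
      have h5 := (h4 r hr).2 s hs
      simp only [Bool.or_eq_true, beq_iff_eq] at h5
      replace h5 := h5.resolve_left (by simp [hne, hne'])
      simp only [ChevalleyDatum.commWord, v]
      split at h5
      · rename_i heq
        rw [heq] at hc ⊢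
        simp only [List.map_nil, List.prod_nil] at hc ⊢
        rcases hone t with rfl | rfl <;> rcases hone u with rfl | rfl <;>
          simp only [one_ne_zero, if_true, if_false, inv_one, one_mul, mul_one, inv_mul_cancel]
        exact hc
      · rename_i k c i j heq
        obtain ⟨hi, hj⟩ := ctxD4.hC.commTerms_co (D := chevD4) hr hs (k, c, i, j) (by rw [heq]; simp)
          |> fun ⟨i', j', _⟩ => (⟨i', j'⟩ : 1 ≤ i ∧ 1 ≤ j)
        rw [heq] at hc ⊢
        simp only [List.map_cons, List.map_nil, List.prod_cons, List.prod_nil, mul_one] at hc ⊢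
        have hcne : ((c : ℤ) : F) ≠ 0 := by
          have := d4_coeff r hr s hs (k, c, i, j) (by rw [heq]; simp)
          rcases Int.natAbs_eq c with e | e <;> rw [this] at e <;> simp [e]
        rcases hone t with rfl | rfl <;> rcases hone u with rfl | rfl <;>
          simp [zero_pow (by omega : i ≠ 0), zero_pow (by omega : j ≠ 0), hcne] at hc ⊢
        exact hc
      · exact absurd h5 Bool.false_ne_true
    · have ht1 := eq_one_of_ne_zero h2 ht
      have hu1 := eq_one_of_ne_zero h2 hu
      subst ht1 hu1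
      rw [mul_one, map_mul, map_inv, map_mul, mul_inv_cancel_right]
      have hn : chevD4.neg r < 24 := ctxD4.hC.neg_lt (D := chevD4) hr
      rw [ChevalleyDatum.stH, hw _ (by
        intro p hp
        simp only [ChevalleyDatum.hWord, ChevalleyDatum.nWord, List.mem_append, List.mem_cons,
          List.not_mem_nil, or_false] at hp
        rcases hp with (rfl | rfl | rfl) | rfl | rfl | rfl <;> first | exact hr | exact hn)]
      simp only [ChevalleyDatum.hWord, ChevalleyDatum.nWord, List.map_append, List.map_cons,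
        List.map_nil, List.prod_append, List.prod_cons, List.prod_nil, mul_one, inv_one, v,
        neg_one_eq h2, one_ne_zero, if_false]
      exact (rcl_rels hL hr hr).2.1
  refine ⟨PresentedGroup.toGroup hrel, fun r hr => ?_⟩
  show PresentedGroup.toGroup hrel (PresentedGroup.mk _ (chevD4.stX r 1)) = _
  rw [ChevalleyDatum.stX, dif_pos (show r < chevD4.nroots from hr)]
  refine (PresentedGroup.toGroup.of hrel).trans ?_
  simp [g]
where
  d4_coeff : ∀ r < 24, ∀ s < 24, ∀ c ∈ chevD4.commTerms r s, c.2.1.natAbs = 1 := by decide +kernel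

/-- The map of the Chevalley group modulo scalars. -/
theorem exists_liftHom : ∃ f : ↥(chevD4.group F) →* GL (Fin 8) (ZMod 3) ⧸ center _,
    ∀ r < 24, f (xg ctxD4 r 1) = rcl L r := by
  obtain ⟨θ₀, hθ₀⟩ := H53.exists_stHom (F := F) ctxD4.hC
  have hP : H53.HasPairs chevD4 := H53.hasPairs_of_mem (by simp)
  have hS := H53.stSys_rel θ₀ hθ₀
  set θ := H53.ChevSys.thetaG ctxD4.hC ctxD4.hok hS hP with hθ
  have hi : Function.Injective θ := by
    rw [← MonoidHom.ker_eq_bot_iff, H53.ChevSys.ker_eq_center ctxD4.hC ctxD4.W ctxD4.hok hS hP,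
      eq_bot_iff]
    intro g hg
    obtain ⟨c, -, rfl⟩ := H53.mem_center_stTorus ctxD4.hC ctxD4.W hP ctxD4.hok hg
    rw [show c = 1 from funext fun i => units_eq_one h2 (c i), map_one]
    exact one_mem _
  let e := MulEquiv.ofBijective θ
    ⟨hi, H53.ChevSys.thetaG_surjective ctxD4.hC ctxD4.W ctxD4.hok hS hP⟩
  obtain ⟨f, hf⟩ := exists_stLiftHom hL h2
  refine ⟨f.comp e.symm.toMonoidHom, fun r hr => ?_⟩
  rw [← hf r hr]
  show f (e.symm _) = _
  congr 1
  rw [MulEquiv.symm_apply_eq]
  exact Subtype.ext (hθ₀ r hr 1).symm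

omit hL

/-- Words of root elements with the same image up to sign are equal. -/
theorem word_eq_of_check {w w' : List ℕ} (hw : ∀ r ∈ w, r < 24) (hw' : ∀ r ∈ w', r < 24)
    (h : rEqPM (rwd d4LiftA w) (rwd d4LiftA w') = true) :
    (w.map fun r => xg ctxD4 r (1 : F)).prod = (w'.map fun r => xg ctxD4 r (1 : F)).prod := by
  obtain ⟨f, hf⟩ := exists_liftHom liftRelA h2
  have hsimp : IsSimpleGroup ↥(chevD4.group F) := (H52.group_simple (by simp) (by
    rintro (h | h) <;> exact absurd (congrArg ChevalleyDatum.nroots h) (by decide))).1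
  have hinj : Function.Injective f := by
    rw [← MonoidHom.ker_eq_bot_iff]
    rcases hsimp.eq_bot_or_eq_top_of_normal f.ker inferInstance with h' | h'
    · exact h'
    exfalso
    have h23 : xg ctxD4 23 (1 : F) ∈ f.ker := h' ▸ mem_top _
    rw [MonoidHom.mem_ker, hf 23 (by norm_num), rcl, QuotientGroup.eq_one_iff] at h23
    have e := congrArg (fun g : GL (Fin 8) (ZMod 3) => (g : Matrix (Fin 8) (Fin 8) (ZMod 3)))
      (show rgl d4LiftA 23 * rgl d4LiftA 11 * rgl d4LiftA 23 * rgl d4LiftA 11 = 1 by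
        rw [(mem_center_iff.1 h23 _).symm, mul_assoc (rgl d4LiftA 11) (rgl d4LiftA 23),
          rgl_sq liftRelA (by norm_num), mul_one, rgl_sq liftRelA (by norm_num)])
    have h1 := rwd_val liftRelA [23, 11, 23, 11] (by simp)
    have hs := liftSign
    simp only [liftSignOK, Bool.and_eq_true, beq_iff_eq] at hs
    rw [hs.1.1.1.2, toM_two] at h1
    simp only [List.map_cons, List.map_nil, List.prod_cons, List.prod_nil, mul_one, ← mul_assoc] at h1
    simp only [h1, Units.val_one] at e
    exact absurd e (by decide)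
  refine hinj ?_
  have hm : ∀ w : List ℕ, (∀ r ∈ w, r < 24) → f ((w.map fun r => xg ctxD4 r (1 : F)).prod) =
      QuotientGroup.mk ((w.map (rgl d4LiftA)).prod) := by
    intro w hw
    induction w with
    | nil => simp
    | cons r w ih =>
      rw [List.map_cons, List.prod_cons, map_mul, hf r (hw r List.mem_cons_self),
        ih fun q hq => hw q (List.mem_cons_of_mem _ hq), List.map_cons, List.prod_cons,
        QuotientGroup.mk_mul]
      rfl
  rw [hm w hw, hm w' hw']
  exact mk_eq_of_eqPM (rwd_val liftRelA w hw) (rwd_val liftRelA w' hw') h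

theorem center_eq_pm {z : GL (Fin 8) (ZMod 3)} (hz : z ∈ center (GL (Fin 8) (ZMod 3))) :
    z = 1 ∨ z = -1 := by
  rw [Matrix.GeneralLinearGroup.center_eq_range_scalar] at hz
  obtain ⟨a, rfl⟩ := hz
  rcases (by decide : ∀ a : (ZMod 3)ˣ, a = 1 ∨ a = -1) a with rfl | rfl
  · exact Or.inl (map_one _)
  · refine Or.inr (Units.ext ?_)
    ext i j
    by_cases h : i = j <;> simp [h]

/-- A stem extension with kernel a four-group. -/
theorem exists_fourCover : ∃ (Γ : Type u) (_ : Group Γ) (_ : Finite Γ) (σ : Γ →* ↥(chevD4.group F)),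
    Cfsg.IsStemExtension σ ∧ Nonempty (σ.ker ≃* Multiplicative (ZMod 2 × ZMod 2)) := by
  classical
  obtain ⟨fA, hA⟩ := exists_liftHom liftRelA h2
  obtain ⟨fB, hB⟩ := exists_liftHom liftRelB h2
  let Q := GL (Fin 8) (ZMod 3) ⧸ center (GL (Fin 8) (ZMod 3))
  let P : Subgroup ((GL (Fin 8) (ZMod 3) × GL (Fin 8) (ZMod 3)) × ↥(chevD4.group F)) :=
    (((QuotientGroup.mk' (center (GL (Fin 8) (ZMod 3)))).prodMap
      (QuotientGroup.mk' (center (GL (Fin 8) (ZMod 3))))).comp (MonoidHom.fst _ _)).eqLocus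
        ((fA.prod fB).comp (MonoidHom.snd _ _))
  let π₀ : P →* ↥(chevD4.group F) := (MonoidHom.snd _ _).comp P.subtype
  have h₀s : Function.Surjective π₀ := fun x => by
    obtain ⟨a, ha⟩ := QuotientGroup.mk'_surjective _ (fA x)
    obtain ⟨b, hb⟩ := QuotientGroup.mk'_surjective _ (fB x)
    exact ⟨⟨((a, b), x), Prod.ext ha hb⟩, rfl⟩
  have h₀k : ∀ z ∈ π₀.ker, (z.val.1.1 = 1 ∨ z.val.1.1 = -1) ∧
      (z.val.1.2 = 1 ∨ z.val.1.2 = -1) ∧ z.val.2 = 1 := by
    rintro ⟨⟨⟨a, b⟩, x⟩, hgx⟩ hz
    have hx : x = 1 := hz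
    subst hx
    have h1 : (QuotientGroup.mk a : Q) = fA 1 := congrArg Prod.fst hgx
    have h3 : (QuotientGroup.mk b : Q) = fB 1 := congrArg Prod.snd hgx
    rw [map_one, QuotientGroup.eq_one_iff] at h1 h3
    exact ⟨center_eq_pm h2 h1, center_eq_pm h2 h3, rfl⟩
  have hpm : ∀ a : GL (Fin 8) (ZMod 3), a = 1 ∨ a = -1 → a ∈ center (GL (Fin 8) (ZMod 3)) := by
    rintro a (rfl | rfl)
    · exact one_mem _
    · exact mem_center_iff.2 fun g => by simp
  have h₀c : π₀.ker ≤ center P := fun z hz => mem_center_iff.2 fun g => by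
    obtain ⟨h1, h3, h4⟩ := h₀k z hz
    refine Subtype.ext (Prod.ext (Prod.ext (mem_center_iff.1 (hpm _ h1) _)
      (mem_center_iff.1 (hpm _ h3) _)) ?_)
    show g.val.2 * z.val.2 = z.val.2 * g.val.2
    rw [h4, mul_one, one_mul]
  let π : ↥(commutator P) →* ↥(chevD4.group F) := π₀.comp (commutator P).subtype
  have hperf : commutator ↥(chevD4.group F) = ⊤ := H52.group_perfect (by simp) (by
    rintro (h | h) <;> exact absurd (congrArg ChevalleyDatum.nroots h) (by decide))
  have hs : Function.Surjective π := fun x => by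
    have hx : x ∈ (commutator P).map π₀ := by
      rw [map_commutator_eq, MonoidHom.range_eq_top.2 h₀s, ← _root_.commutator_def, hperf]
      exact mem_top _
    obtain ⟨y, hy, rfl⟩ := hx
    exact ⟨⟨y, hy⟩, rfl⟩
  have hc : π.ker ≤ center ↥(commutator P) := fun z hz =>
    mem_center_iff.2 fun g => Subtype.ext (mem_center_iff.1 (h₀c hz) g)
  have hperfP : commutator ↥(commutator P) = ⊤ := by
    apply Subgroup.map_injective (commutator P).subtype_injective
    rw [Subgroup.map_subtype_commutator, ← MonoidHom.range_eq_map, Subgroup.range_subtype]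
    apply le_antisymm (commutator P).commutator_le_self
    refine Subgroup.commutator_le.2 fun a _ b _ => ?_
    obtain ⟨a', ha'⟩ := hs (π₀ a)
    obtain ⟨b', hb'⟩ := hs (π₀ b)
    rw [Cover.comm_congr π₀ h₀c (x' := (a' : P)) (y' := (b' : P)) ha'.symm hb'.symm]
    exact commutator_mem_commutator a'.2 b'.2
  have hmem : ∀ r : ℕ, r < 24 → ((rgl d4LiftA r, rgl d4LiftB r), xg ctxD4 r (1 : F)) ∈ P :=
    fun r hr => Prod.ext (hA r hr).symm (hB r hr).symm
  have hs' := liftSign
  simp only [liftSignOK, Bool.and_eq_true, beq_iff_eq] at hs'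
  have hcm : ∀ (L : List (List (List ℕ))), liftRelOK L = true → ∀ r s, r < 24 → s < 24 →
      ∀ c, rwd L [r, s, r, s] = rsc c →
      ((⁅rgl L r, rgl L s⁆ : GL (Fin 8) (ZMod 3)) : Matrix (Fin 8) (Fin 8) (ZMod 3)) =
        toM (rsc c) := by
    intro L hL r s hr hs c e
    rw [← e, ← rwd_val hL [r, s, r, s] (by simp [hr, hs]), commutatorElement_def, rgl_inv hL hr,
      rgl_inv hL hs]
    simp [mul_assoc]
  have hcommG : ∀ s, s < 24 → commOK chevD4 23 s = true →
      ⁅xg ctxD4 23 (1 : F), xg ctxD4 s (1 : F)⁆ = 1 := fun s hs h =>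
    commutatorElement_eq_one_iff_commute.2 (commOK_spec ctxD4 (by decide) hs h (1 : F) (1 : F))
  let e5 : P := ⁅(⟨_, hmem 23 (by norm_num)⟩ : P), ⟨_, hmem 5 (by norm_num)⟩⁆
  let e11 : P := ⁅(⟨_, hmem 23 (by norm_num)⟩ : P), ⟨_, hmem 11 (by norm_num)⟩⁆
  have h5 : e5.val = ((1, -1), 1) := by
    refine Prod.ext (Prod.ext (Units.ext ?_) (Units.ext ?_))
      (hcommG 5 (by norm_num) (by decide +kernel))
    · exact (hcm _ liftRelA 23 5 (by norm_num) (by norm_num) 1 hs'.1.1.1.1).trans toM_one
    · exact (hcm _ liftRelB 23 5 (by norm_num) (by norm_num) 2 hs'.1.1.2).trans toM_two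
  have h11 : e11.val = ((-1, 1), 1) := by
    refine Prod.ext (Prod.ext (Units.ext ?_) (Units.ext ?_))
      (hcommG 11 (by norm_num) (by decide +kernel))
    · exact (hcm _ liftRelA 23 11 (by norm_num) (by norm_num) 2 hs'.1.1.1.2).trans toM_two
    · exact (hcm _ liftRelB 23 11 (by norm_num) (by norm_num) 1 hs'.1.2).trans toM_one
  have hk5 : (⟨e5, commutator_mem_commutator (mem_top _) (mem_top _)⟩ : ↥(commutator P)) ∈ π.ker := by
    show e5.val.2 = 1
    rw [h5]
  have hk11 : (⟨e11, commutator_mem_commutator (mem_top _) (mem_top _)⟩ : ↥(commutator P)) ∈ π.ker := by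
    show e11.val.2 = 1
    rw [h11]
  let ev : π.ker → GL (Fin 8) (ZMod 3) × GL (Fin 8) (ZMod 3) := fun z =>
    ((z : ↥(commutator P)) : P).val.1
  have hevinj : Function.Injective ev := fun a b h =>
    Subtype.ext (Subtype.ext (Subtype.ext (Prod.ext h
      ((h₀k _ a.2).2.2.trans (h₀k _ b.2).2.2.symm))))
  have hev : ∀ z : π.ker, ((ev z).1 = 1 ∨ (ev z).1 = -1) ∧ ((ev z).2 = 1 ∨ (ev z).2 = -1) :=
    fun z => ⟨(h₀k _ z.2).1, (h₀k _ z.2).2.1⟩
  have hne : (-1 : GL (Fin 8) (ZMod 3)) ≠ 1 := fun e =>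
    absurd (congrArg (fun g : GL (Fin 8) (ZMod 3) => (g : Matrix (Fin 8) (Fin 8) (ZMod 3))) e)
      (by decide)
  have hcard : Nat.card π.ker = 4 := by
    let S : Finset (GL (Fin 8) (ZMod 3) × GL (Fin 8) (ZMod 3)) := {(1, 1), (1, -1), (-1, 1), (-1, -1)}
    have hr : Set.range ev = ↑S := by
      refine Set.Subset.antisymm ?_ ?_
      · rintro _ ⟨z, rfl⟩
        obtain ⟨h1, h3⟩ := hev z
        show ((ev z).1, (ev z).2) ∈ S
        rcases h1 with h1 | h1 <;> rcases h3 with h3 | h3 <;> rw [h1, h3] <;> simp [S]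
      · intro q hq
        simp only [S, Finset.coe_insert, Finset.coe_singleton, Set.mem_insert_iff,
          Set.mem_singleton_iff] at hq
        rcases hq with rfl | rfl | rfl | rfl
        · exact ⟨1, rfl⟩
        · exact ⟨⟨_, hk5⟩, congrArg Prod.fst h5⟩
        · exact ⟨⟨_, hk11⟩, congrArg Prod.fst h11⟩
        · refine ⟨⟨_, hk5⟩ * ⟨_, hk11⟩, ?_⟩
          show (e5.val * e11.val).1 = _
          rw [h5, h11]; simp
    rw [← Nat.card_range_of_injective hevinj, hr]
    simp [S, hne, hne.symm]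
  have hsq : ∀ z : π.ker, z ^ 2 = 1 := fun z => hevinj (by
    show (ev z) ^ 2 = (1, 1)
    obtain ⟨h1, h3⟩ := hev z
    refine Prod.ext ?_ ?_
    · rw [Prod.pow_fst]; rcases h1 with h | h <;> rw [h] <;> simp [sq]
    · rw [Prod.pow_snd]; rcases h3 with h | h <;> rw [h] <;> simp [sq])
  have : Finite P := inferInstance
  refine ⟨↥(commutator P), inferInstance, inferInstance, π, ⟨hs, hc, hperfP ▸ le_top⟩, ?_⟩
  haveI : IsKleinFour π.ker := ⟨hcard, by
    have : Finite π.ker := Nat.finite_of_card_ne_zero (by omega)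
    refine ((Nat.dvd_prime Nat.prime_two).1 (Monoid.exponent_dvd_of_forall_pow_eq_one hsq)).resolve_left ?_
    intro h
    have := Monoid.exp_eq_one_iff.1 h
    rw [Nat.card_of_subsingleton (1 : π.ker)] at hcard
    omega⟩
  haveI : IsKleinFour (Multiplicative (ZMod 2 × ZMod 2)) := inferInstance
  exact IsKleinFour.nonempty_mulEquiv

end H76.Exc
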