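import Mathlib.Data.ZMod.Defs

/-!
Lifts to the Weyl group of type E₈, taken modulo three, of root elements of D₄ over two elements.
-/

set_option autoImplicit false

namespace H76.Exc

/-- The first family of lifts, by rows. -/
def d4LiftA : List (List (List ℕ)) := [
  [[2, 0, 2, 2, 0, 0, 1, 0], [0, 1, 0, 0, 1, 2, 0, 1], [2, 0, 2, 1, 0, 0, 2, 0], [2, 0, 1, 2, 0, 0, 2, 0], [0, 1, 0, 0, 1, 1, 0, 2], [0, 2, 0, 0, 1, 1, 0, 1], [1, 0, 2, 2, 0, 0, 2, 0], [0, 1, 0, 0, 2, 1, 0, 1]],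
  [[2, 0, 0, 2, 1, 2, 0, 0], [0, 1, 2, 0, 0, 0, 1, 1], [0, 2, 1, 0, 0, 0, 1, 1], [2, 0, 0, 2, 2, 1, 0, 0], [1, 0, 0, 2, 2, 2, 0, 0], [2, 0, 0, 1, 2, 2, 0, 0], [0, 1, 1, 0, 0, 0, 1, 2], [0, 1, 1, 0, 0, 0, 2, 1]],
  [[2, 0, 0, 0, 1, 0, 1, 1], [0, 1, 2, 2, 0, 2, 0, 0], [0, 2, 1, 2, 0, 2, 0, 0], [0, 2, 2, 1, 0, 2, 0, 0], [1, 0, 0, 0, 2, 0, 1, 1], [0, 2, 2, 2, 0, 1, 0, 0], [1, 0, 0, 0, 1, 0, 2, 1], [1, 0, 0, 0, 1, 0, 1, 2]],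
  [[1, 1, 1, 0, 0, 1, 0, 0], [1, 1, 2, 0, 0, 2, 0, 0], [1, 2, 1, 0, 0, 2, 0, 0], [0, 0, 0, 2, 2, 0, 2, 2], [0, 0, 0, 2, 2, 0, 1, 1], [1, 2, 2, 0, 0, 1, 0, 0], [0, 0, 0, 2, 1, 0, 2, 1], [0, 0, 0, 2, 1, 0, 1, 2]],
  [[2, 0, 0, 2, 0, 2, 0, 1], [0, 1, 2, 0, 1, 0, 1, 0], [0, 2, 1, 0, 1, 0, 1, 0], [2, 0, 0, 2, 0, 1, 0, 2], [0, 1, 1, 0, 1, 0, 2, 0], [2, 0, 0, 1, 0, 2, 0, 2], [0, 1, 1, 0, 2, 0, 1, 0], [1, 0, 0, 2, 0, 2, 0, 2]],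
  [[2, 2, 0, 2, 0, 0, 1, 0], [2, 2, 0, 1, 0, 0, 2, 0], [0, 0, 1, 0, 1, 2, 0, 1], [2, 1, 0, 2, 0, 0, 2, 0], [0, 0, 1, 0, 1, 1, 0, 2], [0, 0, 2, 0, 1, 1, 0, 1], [1, 2, 0, 2, 0, 0, 2, 0], [0, 0, 1, 0, 2, 1, 0, 1]],
  [[2, 0, 0, 2, 2, 1, 0, 0], [0, 1, 1, 0, 0, 0, 2, 1], [0, 1, 1, 0, 0, 0, 1, 2], [2, 0, 0, 2, 1, 2, 0, 0], [2, 0, 0, 1, 2, 2, 0, 0], [1, 0, 0, 2, 2, 2, 0, 0], [0, 2, 1, 0, 0, 0, 1, 1], [0, 1, 2, 0, 0, 0, 1, 1]],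
  [[1, 0, 0, 0, 1, 0, 2, 1], [0, 2, 2, 2, 0, 1, 0, 0], [0, 2, 2, 1, 0, 2, 0, 0], [0, 2, 1, 2, 0, 2, 0, 0], [1, 0, 0, 0, 1, 0, 1, 2], [0, 1, 2, 2, 0, 2, 0, 0], [2, 0, 0, 0, 1, 0, 1, 1], [1, 0, 0, 0, 2, 0, 1, 1]],
  [[2, 1, 2, 0, 0, 1, 0, 0], [1, 2, 2, 0, 0, 1, 0, 0], [2, 2, 2, 0, 0, 2, 0, 0], [0, 0, 0, 1, 2, 0, 1, 2], [0, 0, 0, 2, 1, 0, 1, 2], [1, 1, 2, 0, 0, 2, 0, 0], [0, 0, 0, 1, 1, 0, 1, 1], [0, 0, 0, 2, 2, 0, 1, 1]],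
  [[2, 1, 0, 2, 2, 0, 0, 0], [1, 2, 0, 2, 2, 0, 0, 0], [0, 0, 1, 0, 0, 1, 1, 2], [2, 2, 0, 2, 1, 0, 0, 0], [2, 2, 0, 1, 2, 0, 0, 0], [0, 0, 1, 0, 0, 1, 2, 1], [0, 0, 1, 0, 0, 2, 1, 1], [0, 0, 2, 0, 0, 1, 1, 1]],
  [[0, 0, 0, 0, 1, 0, 0, 0], [0, 0, 1, 0, 0, 0, 0, 0], [0, 1, 0, 0, 0, 0, 0, 0], [0, 0, 0, 0, 0, 1, 0, 0], [1, 0, 0, 0, 0, 0, 0, 0], [0, 0, 0, 1, 0, 0, 0, 0], [0, 0, 0, 0, 0, 0, 0, 1], [0, 0, 0, 0, 0, 0, 1, 0]],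
  [[0, 0, 0, 0, 0, 2, 0, 0], [0, 0, 1, 0, 0, 0, 0, 0], [0, 1, 0, 0, 0, 0, 0, 0], [0, 0, 0, 0, 2, 0, 0, 0], [0, 0, 0, 2, 0, 0, 0, 0], [2, 0, 0, 0, 0, 0, 0, 0], [0, 0, 0, 0, 0, 0, 0, 1], [0, 0, 0, 0, 0, 0, 1, 0]],
  [[2, 0, 0, 0, 2, 0, 2, 1], [0, 1, 2, 1, 0, 1, 0, 0], [0, 2, 1, 1, 0, 1, 0, 0], [0, 1, 1, 1, 0, 2, 0, 0], [2, 0, 0, 0, 2, 0, 1, 2], [0, 1, 1, 2, 0, 1, 0, 0], [2, 0, 0, 0, 1, 0, 2, 2], [1, 0, 0, 0, 2, 0, 2, 2]],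
  [[1, 2, 2, 0, 0, 1, 0, 0], [2, 1, 2, 0, 0, 1, 0, 0], [2, 2, 1, 0, 0, 1, 0, 0], [0, 0, 0, 2, 1, 0, 1, 2], [0, 0, 0, 1, 2, 0, 1, 2], [1, 1, 1, 0, 0, 1, 0, 0], [0, 0, 0, 1, 1, 0, 2, 2], [0, 0, 0, 2, 2, 0, 2, 2]],
  [[0, 0, 0, 1, 0, 0, 0, 0], [0, 0, 0, 0, 0, 0, 1, 0], [0, 0, 0, 0, 0, 0, 0, 1], [1, 0, 0, 0, 0, 0, 0, 0], [0, 0, 0, 0, 0, 1, 0, 0], [0, 0, 0, 0, 1, 0, 0, 0], [0, 1, 0, 0, 0, 0, 0, 0], [0, 0, 1, 0, 0, 0, 0, 0]],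
  [[0, 0, 0, 0, 0, 0, 1, 0], [0, 0, 0, 1, 0, 0, 0, 0], [0, 0, 0, 0, 0, 1, 0, 0], [0, 1, 0, 0, 0, 0, 0, 0], [0, 0, 0, 0, 0, 0, 0, 1], [0, 0, 1, 0, 0, 0, 0, 0], [1, 0, 0, 0, 0, 0, 0, 0], [0, 0, 0, 0, 1, 0, 0, 0]],
  [[0, 2, 0, 0, 0, 0, 0, 0], [2, 0, 0, 0, 0, 0, 0, 0], [0, 0, 0, 0, 0, 1, 0, 0], [0, 0, 0, 0, 0, 0, 2, 0], [0, 0, 0, 0, 0, 0, 0, 1], [0, 0, 1, 0, 0, 0, 0, 0], [0, 0, 0, 2, 0, 0, 0, 0], [0, 0, 0, 0, 1, 0, 0, 0]],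
  [[2, 1, 0, 2, 0, 0, 2, 0], [1, 2, 0, 2, 0, 0, 2, 0], [0, 0, 1, 0, 1, 1, 0, 2], [2, 2, 0, 2, 0, 0, 1, 0], [0, 0, 1, 0, 1, 2, 0, 1], [0, 0, 1, 0, 2, 1, 0, 1], [2, 2, 0, 1, 0, 0, 2, 0], [0, 0, 2, 0, 1, 1, 0, 1]],
  [[2, 0, 2, 2, 0, 0, 0, 2], [0, 1, 0, 0, 1, 2, 2, 0], [2, 0, 2, 1, 0, 0, 0, 1], [2, 0, 1, 2, 0, 0, 0, 1], [0, 1, 0, 0, 1, 1, 1, 0], [0, 2, 0, 0, 1, 1, 2, 0], [0, 2, 0, 0, 1, 2, 1, 0], [2, 0, 1, 1, 0, 0, 0, 2]],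
  [[0, 0, 0, 1, 0, 0, 0, 0], [0, 0, 0, 0, 0, 0, 2, 0], [0, 0, 0, 0, 0, 0, 0, 2], [1, 0, 0, 0, 0, 0, 0, 0], [0, 0, 0, 0, 0, 1, 0, 0], [0, 0, 0, 0, 1, 0, 0, 0], [0, 2, 0, 0, 0, 0, 0, 0], [0, 0, 2, 0, 0, 0, 0, 0]],
  [[0, 0, 0, 0, 0, 0, 0, 2], [0, 0, 0, 0, 0, 1, 0, 0], [0, 0, 0, 1, 0, 0, 0, 0], [0, 0, 1, 0, 0, 0, 0, 0], [0, 0, 0, 0, 0, 0, 2, 0], [0, 1, 0, 0, 0, 0, 0, 0], [0, 0, 0, 0, 2, 0, 0, 0], [2, 0, 0, 0, 0, 0, 0, 0]],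
  [[0, 0, 2, 0, 0, 0, 0, 0], [0, 0, 0, 0, 0, 1, 0, 0], [2, 0, 0, 0, 0, 0, 0, 0], [0, 0, 0, 0, 0, 0, 0, 1], [0, 0, 0, 0, 0, 0, 2, 0], [0, 1, 0, 0, 0, 0, 0, 0], [0, 0, 0, 0, 2, 0, 0, 0], [0, 0, 0, 1, 0, 0, 0, 0]],
  [[2, 0, 1, 2, 0, 0, 0, 1], [0, 1, 0, 0, 1, 1, 1, 0], [1, 0, 2, 2, 0, 0, 0, 1], [2, 0, 2, 2, 0, 0, 0, 2], [0, 1, 0, 0, 1, 2, 2, 0], [0, 1, 0, 0, 2, 1, 2, 0], [0, 1, 0, 0, 2, 2, 1, 0], [1, 0, 1, 2, 0, 0, 0, 2]],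
  [[0, 0, 0, 1, 0, 0, 0, 0], [0, 0, 0, 0, 0, 0, 1, 0], [0, 0, 0, 0, 0, 0, 0, 2], [1, 0, 0, 0, 0, 0, 0, 0], [0, 0, 0, 0, 0, 2, 0, 0], [0, 0, 0, 0, 2, 0, 0, 0], [0, 1, 0, 0, 0, 0, 0, 0], [0, 0, 2, 0, 0, 0, 0, 0]]]

/-- The second family of lifts, by rows. -/
def d4LiftB : List (List (List ℕ)) := [
  [[2, 0, 2, 2, 0, 0, 1, 0], [0, 1, 0, 0, 1, 2, 0, 1], [2, 0, 2, 1, 0, 0, 2, 0], [2, 0, 1, 2, 0, 0, 2, 0], [0, 1, 0, 0, 1, 1, 0, 2], [0, 2, 0, 0, 1, 1, 0, 1], [1, 0, 2, 2, 0, 0, 2, 0], [0, 1, 0, 0, 2, 1, 0, 1]],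
  [[2, 0, 0, 2, 1, 2, 0, 0], [0, 1, 2, 0, 0, 0, 1, 1], [0, 2, 1, 0, 0, 0, 1, 1], [2, 0, 0, 2, 2, 1, 0, 0], [1, 0, 0, 2, 2, 2, 0, 0], [2, 0, 0, 1, 2, 2, 0, 0], [0, 1, 1, 0, 0, 0, 1, 2], [0, 1, 1, 0, 0, 0, 2, 1]],
  [[2, 0, 0, 2, 2, 1, 0, 0], [0, 1, 1, 0, 0, 0, 2, 1], [0, 1, 1, 0, 0, 0, 1, 2], [2, 0, 0, 2, 1, 2, 0, 0], [2, 0, 0, 1, 2, 2, 0, 0], [1, 0, 0, 2, 2, 2, 0, 0], [0, 2, 1, 0, 0, 0, 1, 1], [0, 1, 2, 0, 0, 0, 1, 1]],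
  [[1, 1, 1, 0, 0, 1, 0, 0], [1, 1, 2, 0, 0, 2, 0, 0], [1, 2, 1, 0, 0, 2, 0, 0], [0, 0, 0, 2, 2, 0, 2, 2], [0, 0, 0, 2, 2, 0, 1, 1], [1, 2, 2, 0, 0, 1, 0, 0], [0, 0, 0, 2, 1, 0, 2, 1], [0, 0, 0, 2, 1, 0, 1, 2]],
  [[2, 1, 2, 0, 0, 1, 0, 0], [1, 2, 2, 0, 0, 1, 0, 0], [2, 2, 2, 0, 0, 2, 0, 0], [0, 0, 0, 1, 2, 0, 1, 2], [0, 0, 0, 2, 1, 0, 1, 2], [1, 1, 2, 0, 0, 2, 0, 0], [0, 0, 0, 1, 1, 0, 1, 1], [0, 0, 0, 2, 2, 0, 1, 1]],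
  [[0, 0, 0, 0, 0, 2, 0, 0], [0, 0, 1, 0, 0, 0, 0, 0], [0, 1, 0, 0, 0, 0, 0, 0], [0, 0, 0, 0, 2, 0, 0, 0], [0, 0, 0, 2, 0, 0, 0, 0], [2, 0, 0, 0, 0, 0, 0, 0], [0, 0, 0, 0, 0, 0, 0, 1], [0, 0, 0, 0, 0, 0, 1, 0]],
  [[2, 0, 0, 0, 1, 0, 1, 1], [0, 1, 2, 2, 0, 2, 0, 0], [0, 2, 1, 2, 0, 2, 0, 0], [0, 2, 2, 1, 0, 2, 0, 0], [1, 0, 0, 0, 2, 0, 1, 1], [0, 2, 2, 2, 0, 1, 0, 0], [1, 0, 0, 0, 1, 0, 2, 1], [1, 0, 0, 0, 1, 0, 1, 2]],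
  [[1, 0, 0, 0, 1, 0, 2, 1], [0, 2, 2, 2, 0, 1, 0, 0], [0, 2, 2, 1, 0, 2, 0, 0], [0, 2, 1, 2, 0, 2, 0, 0], [1, 0, 0, 0, 1, 0, 1, 2], [0, 1, 2, 2, 0, 2, 0, 0], [2, 0, 0, 0, 1, 0, 1, 1], [1, 0, 0, 0, 2, 0, 1, 1]],
  [[2, 0, 0, 2, 0, 2, 0, 1], [0, 1, 2, 0, 1, 0, 1, 0], [0, 2, 1, 0, 1, 0, 1, 0], [2, 0, 0, 2, 0, 1, 0, 2], [0, 1, 1, 0, 1, 0, 2, 0], [2, 0, 0, 1, 0, 2, 0, 2], [0, 1, 1, 0, 2, 0, 1, 0], [1, 0, 0, 2, 0, 2, 0, 2]],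
  [[2, 1, 0, 2, 2, 0, 0, 0], [1, 2, 0, 2, 2, 0, 0, 0], [0, 0, 1, 0, 0, 1, 1, 2], [2, 2, 0, 2, 1, 0, 0, 0], [2, 2, 0, 1, 2, 0, 0, 0], [0, 0, 1, 0, 0, 1, 2, 1], [0, 0, 1, 0, 0, 2, 1, 1], [0, 0, 2, 0, 0, 1, 1, 1]],
  [[0, 0, 0, 0, 1, 0, 0, 0], [0, 0, 1, 0, 0, 0, 0, 0], [0, 1, 0, 0, 0, 0, 0, 0], [0, 0, 0, 0, 0, 1, 0, 0], [1, 0, 0, 0, 0, 0, 0, 0], [0, 0, 0, 1, 0, 0, 0, 0], [0, 0, 0, 0, 0, 0, 0, 1], [0, 0, 0, 0, 0, 0, 1, 0]],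
  [[2, 2, 0, 2, 0, 0, 1, 0], [2, 2, 0, 1, 0, 0, 2, 0], [0, 0, 1, 0, 1, 2, 0, 1], [2, 1, 0, 2, 0, 0, 2, 0], [0, 0, 1, 0, 1, 1, 0, 2], [0, 0, 2, 0, 1, 1, 0, 1], [1, 2, 0, 2, 0, 0, 2, 0], [0, 0, 1, 0, 2, 1, 0, 1]],
  [[2, 0, 2, 2, 0, 0, 0, 2], [0, 1, 0, 0, 1, 2, 2, 0], [2, 0, 2, 1, 0, 0, 0, 1], [2, 0, 1, 2, 0, 0, 0, 1], [0, 1, 0, 0, 1, 1, 1, 0], [0, 2, 0, 0, 1, 1, 2, 0], [0, 2, 0, 0, 1, 2, 1, 0], [2, 0, 1, 1, 0, 0, 0, 2]],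
  [[1, 2, 2, 0, 0, 1, 0, 0], [2, 1, 2, 0, 0, 1, 0, 0], [2, 2, 1, 0, 0, 1, 0, 0], [0, 0, 0, 2, 1, 0, 1, 2], [0, 0, 0, 1, 2, 0, 1, 2], [1, 1, 1, 0, 0, 1, 0, 0], [0, 0, 0, 1, 1, 0, 2, 2], [0, 0, 0, 2, 2, 0, 2, 2]],
  [[0, 0, 0, 1, 0, 0, 0, 0], [0, 0, 0, 0, 0, 0, 1, 0], [0, 0, 0, 0, 0, 0, 0, 1], [1, 0, 0, 0, 0, 0, 0, 0], [0, 0, 0, 0, 0, 1, 0, 0], [0, 0, 0, 0, 1, 0, 0, 0], [0, 1, 0, 0, 0, 0, 0, 0], [0, 0, 1, 0, 0, 0, 0, 0]],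
  [[0, 0, 0, 1, 0, 0, 0, 0], [0, 0, 0, 0, 0, 0, 2, 0], [0, 0, 0, 0, 0, 0, 0, 2], [1, 0, 0, 0, 0, 0, 0, 0], [0, 0, 0, 0, 0, 1, 0, 0], [0, 0, 0, 0, 1, 0, 0, 0], [0, 2, 0, 0, 0, 0, 0, 0], [0, 0, 2, 0, 0, 0, 0, 0]],
  [[0, 2, 0, 0, 0, 0, 0, 0], [2, 0, 0, 0, 0, 0, 0, 0], [0, 0, 0, 0, 0, 1, 0, 0], [0, 0, 0, 0, 0, 0, 2, 0], [0, 0, 0, 0, 0, 0, 0, 1], [0, 0, 1, 0, 0, 0, 0, 0], [0, 0, 0, 2, 0, 0, 0, 0], [0, 0, 0, 0, 1, 0, 0, 0]],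
  [[0, 0, 2, 0, 0, 0, 0, 0], [0, 0, 0, 0, 0, 1, 0, 0], [2, 0, 0, 0, 0, 0, 0, 0], [0, 0, 0, 0, 0, 0, 0, 1], [0, 0, 0, 0, 0, 0, 2, 0], [0, 1, 0, 0, 0, 0, 0, 0], [0, 0, 0, 0, 2, 0, 0, 0], [0, 0, 0, 1, 0, 0, 0, 0]],
  [[2, 0, 0, 0, 2, 0, 2, 1], [0, 1, 2, 1, 0, 1, 0, 0], [0, 2, 1, 1, 0, 1, 0, 0], [0, 1, 1, 1, 0, 2, 0, 0], [2, 0, 0, 0, 2, 0, 1, 2], [0, 1, 1, 2, 0, 1, 0, 0], [2, 0, 0, 0, 1, 0, 2, 2], [1, 0, 0, 0, 2, 0, 2, 2]],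
  [[0, 0, 0, 0, 0, 0, 1, 0], [0, 0, 0, 1, 0, 0, 0, 0], [0, 0, 0, 0, 0, 1, 0, 0], [0, 1, 0, 0, 0, 0, 0, 0], [0, 0, 0, 0, 0, 0, 0, 1], [0, 0, 1, 0, 0, 0, 0, 0], [1, 0, 0, 0, 0, 0, 0, 0], [0, 0, 0, 0, 1, 0, 0, 0]],
  [[0, 0, 0, 0, 0, 0, 0, 2], [0, 0, 0, 0, 0, 1, 0, 0], [0, 0, 0, 1, 0, 0, 0, 0], [0, 0, 1, 0, 0, 0, 0, 0], [0, 0, 0, 0, 0, 0, 2, 0], [0, 1, 0, 0, 0, 0, 0, 0], [0, 0, 0, 0, 2, 0, 0, 0], [2, 0, 0, 0, 0, 0, 0, 0]],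
  [[2, 1, 0, 2, 0, 0, 2, 0], [1, 2, 0, 2, 0, 0, 2, 0], [0, 0, 1, 0, 1, 1, 0, 2], [2, 2, 0, 2, 0, 0, 1, 0], [0, 0, 1, 0, 1, 2, 0, 1], [0, 0, 1, 0, 2, 1, 0, 1], [2, 2, 0, 1, 0, 0, 2, 0], [0, 0, 2, 0, 1, 1, 0, 1]],
  [[2, 0, 1, 2, 0, 0, 0, 1], [0, 1, 0, 0, 1, 1, 1, 0], [1, 0, 2, 2, 0, 0, 0, 1], [2, 0, 2, 2, 0, 0, 0, 2], [0, 1, 0, 0, 1, 2, 2, 0], [0, 1, 0, 0, 2, 1, 2, 0], [0, 1, 0, 0, 2, 2, 1, 0], [1, 0, 1, 2, 0, 0, 0, 2]],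
  [[0, 0, 0, 1, 0, 0, 0, 0], [0, 0, 0, 0, 0, 0, 1, 0], [0, 0, 0, 0, 0, 0, 0, 2], [1, 0, 0, 0, 0, 0, 0, 0], [0, 0, 0, 0, 0, 2, 0, 0], [0, 0, 0, 0, 2, 0, 0, 0], [0, 1, 0, 0, 0, 0, 0, 0], [0, 0, 2, 0, 0, 0, 0, 0]]]

end H76.Exc
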