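import Cfsg.Agent.H1.Cores
import Mathlib.GroupTheory.Sylow
import Mathlib.GroupTheory.SpecificGroups.Dihedral
import Mathlib.Tactic

/-!
A group whose quotient by its 2-core is dihedral of order `2r`, `r` an odd prime.
-/

set_option autoImplicit false

namespace H76

open DihedralGroup

variable {r : ℕ} [Fact r.Prime]

theorem two_mul_ne_zero_zmod (hr : r ≠ 2) {i : ZMod r} (hi : i ≠ 0) : i + i ≠ 0 := by
  rw [← two_mul]
  refine mul_ne_zero (fun h => ?_) hi
  have h1 : ((2 : ℕ) : ZMod r) = 0 := by exact_mod_cast h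
  rw [ZMod.natCast_eq_zero_iff] at h1
  exact hr ((Nat.prime_dvd_prime_iff_eq Fact.out Nat.prime_two).mp h1)

theorem dihedral_invol (hr : r ≠ 2) {x : DihedralGroup r} (hx : x * x = 1) (hx1 : x ≠ 1) :
    ∃ i, x = sr i := by
  rcases x with i | i
  · exfalso
    by_cases hi : i = 0
    · exact hx1 (by rw [hi]; rfl)
    · rw [r_mul_r, one_def] at hx
      exact two_mul_ne_zero_zmod hr hi (DihedralGroup.r.inj hx)
  · exact ⟨i, rfl⟩

theorem dihedral_rot (hr : r ≠ 2) {x : DihedralGroup r} (hx : x ^ r = 1) : ∃ i, x = .r i := by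
  rcases x with i | i
  · exact ⟨i, rfl⟩
  · exfalso
    have h1 : orderOf (sr i : DihedralGroup r) ∣ r := orderOf_dvd_of_pow_eq_one hx
    rw [orderOf_sr] at h1
    exact hr ((Nat.prime_dvd_prime_iff_eq Nat.prime_two Fact.out).mp h1).symm

variable {G : Type*} [Group G] [Finite G]

/-- Injective self-map of a finite coset. -/
theorem exists_conj_eq_mul (V : Subgroup G) [V.Normal] {ρ : G}
    (hC : ∀ v ∈ V, v * ρ = ρ * v → v = 1) {c : G} (hc : c ∈ V) :
    ∃ v ∈ V, v * ρ * v⁻¹ = c * ρ := by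
  let f : V → V := fun v => ⟨(v : G) * (ρ * (v : G)⁻¹ * ρ⁻¹),
    V.mul_mem v.2 (Subgroup.Normal.conj_mem inferInstance _ (V.inv_mem v.2) ρ)⟩
  have hf : Function.Injective f := by
    intro u v huv
    have h : (u : G) * (ρ * (u : G)⁻¹ * ρ⁻¹) = (v : G) * (ρ * (v : G)⁻¹ * ρ⁻¹) :=
      congrArg Subtype.val huv
    have h' : ((v : G)⁻¹ * (u : G)) * ρ = ρ * ((v : G)⁻¹ * u) := by
      calc ((v : G)⁻¹ * (u : G)) * ρ
          = (v : G)⁻¹ * ((u : G) * (ρ * (u : G)⁻¹ * ρ⁻¹)) * ρ * u := by group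
        _ = (v : G)⁻¹ * ((v : G) * (ρ * (v : G)⁻¹ * ρ⁻¹)) * ρ * u := by rw [h]
        _ = _ := by group
    exact Subtype.ext (inv_mul_eq_one.mp (hC _ (V.mul_mem (V.inv_mem v.2) u.2) h')).symm
  obtain ⟨v, hv⟩ := (Finite.injective_iff_surjective.mp hf) ⟨c, hc⟩
  refine ⟨v, v.2, ?_⟩
  have h : (v : G) * (ρ * (v : G)⁻¹ * ρ⁻¹) = c := congrArg Subtype.val hv
  calc (v : G) * ρ * (v : G)⁻¹ = (v : G) * (ρ * (v : G)⁻¹ * ρ⁻¹) * ρ := by group
    _ = c * ρ := by rw [h]

theorem dihedral_mod_core (hr : r ≠ 2) [(Cfsg.pCore 2 G).Normal]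
    (hquot : Nonempty (G ⧸ Cfsg.pCore 2 G ≃* DihedralGroup r)) (R : Sylow r G)
    (hC : Cfsg.pCore 2 G ⊓ Subgroup.centralizer ((R : Subgroup G) : Set G) = ⊥) :
    Nonempty (↥(Subgroup.normalizer ((R : Subgroup G) : Set G)) ≃* DihedralGroup r) ∧
      ∀ a : G, a ∈ Subgroup.normalizer ((R : Subgroup G) : Set G) → orderOf a = 2 →
        (∀ b : G, orderOf b = 2 → b ∉ Cfsg.pCore 2 G → ∃ g : G, g * a * g⁻¹ = b) ∧
        Nat.card ↥(Cfsg.pCore 2 G ⊓ Subgroup.centralizer ({a} : Set G)) ^ 2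
          = Nat.card ↥(Cfsg.pCore 2 G) := by
  obtain ⟨e⟩ := hquot
  set V := Cfsg.pCore 2 G with hV
  set N := Subgroup.normalizer ((R : Subgroup G) : Set G) with hN
  have : Fact (Nat.Prime 2) := ⟨Nat.prime_two⟩
  have hVp : IsPGroup 2 V := H1.isPGroup_pCore 2 G
  let π : G →* DihedralGroup r := (e : G ⧸ V →* DihedralGroup r).comp (QuotientGroup.mk' V)
  have hπV : ∀ x, π x = 1 ↔ x ∈ V := fun x => by
    simp [π]
  have hπs : Function.Surjective π := e.surjective.comp (QuotientGroup.mk'_surjective V)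
  have hπeq : ∀ x y, π x = π y → x * y⁻¹ ∈ V := fun x y h => by
    rw [← hπV, map_mul, map_inv, h, mul_inv_cancel]
  -- the Sylow subgroup has order r
  obtain ⟨n, hn⟩ := IsPGroup.iff_card.mp hVp
  have hcardG : Nat.card G = 2 ^ n * (2 * r) := by
    rw [← Subgroup.card_mul_index V, hn, Subgroup.index_eq_card, Nat.card_congr e.toEquiv,
      DihedralGroup.nat_card]
  have hRr : Nat.card R = r := by
    rw [Sylow.card_eq_multiplicity, hcardG]
    have h2 : (2 ^ n * 2).factorization r = 0 := by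
      rw [← pow_succ]
      exact Nat.factorization_eq_zero_of_not_dvd fun h =>
        hr ((Nat.prime_dvd_prime_iff_eq Fact.out Nat.prime_two).mp ((Fact.out : r.Prime).dvd_of_dvd_pow h))
    rw [← mul_assoc, Nat.factorization_mul (by positivity) (Fact.out : r.Prime).ne_zero,
      Finsupp.add_apply, h2, (Fact.out : r.Prime).factorization_self, zero_add, pow_one]
  have : IsCyclic (R : Subgroup G) := isCyclic_of_prime_card hRr
  have hRV : ∀ x ∈ (R : Subgroup G), x ∈ V → x = 1 := by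
    intro x hx hxV
    have hd : Disjoint V (R : Subgroup G) :=
      IsPGroup.disjoint_of_ne (p₁ := 2) (p₂ := r) (Ne.symm hr) _ _ hVp R.isPGroup'
    exact Subgroup.mem_bot.mp (hd.le_bot ⟨hxV, hx⟩)
  have hgen : ∀ x ∈ (R : Subgroup G), x ≠ 1 → Subgroup.zpowers x = (R : Subgroup G) := by
    intro x hx hx1
    refine Subgroup.eq_of_le_of_card_ge (Subgroup.zpowers_le.mpr hx) ?_
    have h1 : orderOf x = r := by
      rcases (Nat.dvd_prime (Fact.out : r.Prime)).mp (hRr ▸ Subgroup.orderOf_dvd_natCard _ hx) with h | h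
      · exact absurd (orderOf_eq_one_iff.mp h) hx1
      · exact h
    rw [Nat.card_zpowers, h1, hRr]
  have hCρ : ∀ x ∈ (R : Subgroup G), x ≠ 1 → ∀ v ∈ V, v * x = x * v → v = 1 := by
    intro x hx hx1 v hv hvx
    refine Subgroup.mem_bot.mp (hC ▸ ⟨hv, ?_⟩)
    rw [← hgen x hx hx1, Subgroup.zpowers_eq_closure, Subgroup.centralizer_closure]
    exact Subgroup.mem_centralizer_singleton_iff.mpr hvx
  obtain ⟨ρ, hρR, hρ1⟩ : ∃ ρ ∈ (R : Subgroup G), ρ ≠ 1 := by
    have : (R : Subgroup G) ≠ ⊥ := fun h => by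
      rw [← Subgroup.card_eq_one, hRr] at h
      exact (Fact.out : r.Prime).ne_one h
    obtain ⟨⟨x, hx⟩, hx1⟩ := (Subgroup.ne_bot_iff_exists_ne_one).mp this
    exact ⟨x, hx, fun h => hx1 (Subtype.ext h)⟩
  have hrot : ∀ x ∈ (R : Subgroup G), ∃ i, π x = .r i := fun x hx => dihedral_rot hr (by
    rw [← map_pow]
    have : x ^ r = 1 := by
      have := pow_card_eq_one' (x := (⟨x, hx⟩ : (R : Subgroup G)))
      rw [hRr] at this
      exact congrArg Subtype.val this
    rw [this, map_one])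
  obtain ⟨k, hk⟩ := hrot ρ hρR
  have hk0 : k ≠ 0 := fun h => hρ1 (hRV ρ hρR ((hπV ρ).mp (by rw [hk, h]; rfl)))
  have hrotR : ∀ i, ∃ x ∈ (R : Subgroup G), π x = .r i := by
    intro i
    refine ⟨ρ ^ (i / k).val, (R : Subgroup G).pow_mem hρR _, ?_⟩
    rw [map_pow, hk]
    simp only [DihedralGroup.r_pow, ZMod.natCast_val, ZMod.cast_id', id]
    rw [mul_div_cancel₀ i hk0]
  -- N(R) maps bijectively to the dihedral group
  have hNV : ∀ x ∈ N, x ∈ V → x = 1 := by
    intro x hx hxV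
    have h1 : x * ρ * x⁻¹ ∈ (R : Subgroup G) := (Subgroup.mem_normalizer_iff.mp hx ρ).mp hρR
    have h2 : x * ρ * x⁻¹ * ρ⁻¹ ∈ V := by
      rw [mul_assoc, mul_assoc]
      exact V.mul_mem hxV (by rw [← mul_assoc]; exact Subgroup.Normal.conj_mem inferInstance _ (V.inv_mem hxV) ρ)
    have h3 := hRV _ ((R : Subgroup G).mul_mem h1 ((R : Subgroup G).inv_mem hρR)) h2
    refine hCρ ρ hρR hρ1 x hxV ?_
    calc x * ρ = (x * ρ * x⁻¹ * ρ⁻¹) * ρ * x := by group
      _ = ρ * x := by rw [h3, one_mul]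
  have hNinj : ∀ x ∈ N, ∀ y ∈ N, π x = π y → x = y := fun x hx y hy h =>
    mul_inv_eq_one.mp (hNV _ (N.mul_mem hx (N.inv_mem hy)) (hπeq x y h))
  have hnormal : ∀ x y : G, x * ρ * x⁻¹ ∈ (R : Subgroup G) → y = x → x ∈ N := by
    intro x y h _
    rw [hN, Subgroup.mem_normalizer_iff_map_conj_eq]
    conv_rhs => rw [← hgen _ h (by rwa [Ne, conj_eq_one_iff])]
    rw [← hgen ρ hρR hρ1, MonoidHom.map_zpowers]
    rfl
  have hNsurj : ∀ d, ∃ x ∈ N, π x = d := by
    intro d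
    obtain ⟨g, rfl⟩ := hπs d
    obtain ⟨i, hi⟩ : ∃ i, π (g * ρ * g⁻¹) = .r i := dihedral_rot hr (by
      rw [← map_pow, conj_pow]
      have : ρ ^ r = 1 := by
        have := pow_card_eq_one' (x := (⟨ρ, hρR⟩ : (R : Subgroup G)))
        rw [hRr] at this
        exact congrArg Subtype.val this
      rw [this]; simp)
    obtain ⟨x, hxR, hx⟩ := hrotR i
    have hx1 : x ≠ 1 := by
      rintro rfl
      rw [map_one, ← hi] at hx
      have h1 : g * ρ * g⁻¹ ∈ V := (hπV _).mp hx.symm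
      have h2 := Subgroup.Normal.conj_mem (inferInstance : V.Normal) _ h1 g⁻¹
      exact hρ1 (hRV ρ hρR (by simpa [mul_assoc] using h2))
    obtain ⟨v, hv, hvx⟩ := exists_conj_eq_mul V (hCρ x hxR hx1) (hπeq (g * ρ * g⁻¹) x (hi.trans hx.symm))
    refine ⟨v⁻¹ * g, hnormal _ _ ?_ rfl, by rw [map_mul, map_inv, (hπV v).mpr hv, inv_one, one_mul]⟩
    have : v⁻¹ * g * ρ * (v⁻¹ * g)⁻¹ = x := by
      calc v⁻¹ * g * ρ * (v⁻¹ * g)⁻¹ = v⁻¹ * ((g * ρ * g⁻¹) * x⁻¹ * x) * v := by group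
        _ = v⁻¹ * (v * x * v⁻¹) * v := by rw [hvx]
        _ = x := by group
    rw [this]; exact hxR
  have hbij : Function.Bijective (π.comp N.subtype) :=
    ⟨fun x y h => Subtype.ext (hNinj x x.2 y y.2 h), fun d => by
      obtain ⟨x, hx, hxd⟩ := hNsurj d; exact ⟨⟨x, hx⟩, hxd⟩⟩
  refine ⟨⟨MulEquiv.ofBijective _ hbij⟩, fun a ha ha2 => ?_⟩
  have hsq : ∀ x : G, orderOf x = 2 → x * x = 1 := fun x hx => by
    rw [← pow_two, ← hx, pow_orderOf_eq_one]
  have hne : ∀ x : G, orderOf x = 2 → x ≠ 1 := fun x hx h => by rw [h, orderOf_one] at hx; omega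
  have hinv : ∀ x : G, orderOf x = 2 → x⁻¹ = x := fun x hx => inv_eq_of_mul_eq_one_right (hsq x hx)
  -- key lemma
  have key : ∀ a a'' : G, a ∈ N → a'' ∈ N → orderOf a = 2 → orderOf a'' = 2 → a ≠ a'' →
      ∀ b b'' : G, orderOf b = 2 → orderOf b'' = 2 → π b = π a → π b'' = π a'' →
        ∃ v ∈ V, v * a * v⁻¹ = b ∧ v * a'' * v⁻¹ = b'' := by
    intro a a'' ha ha'' h2 h2'' hne' b b'' hb hb'' hπb hπb''
    obtain ⟨i, hi⟩ := dihedral_invol hr (x := π a) (by rw [← map_mul, hsq a h2, map_one])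
      (fun h => hne a h2 (hNV a ha ((hπV a).mp h)))
    obtain ⟨j, hj⟩ := dihedral_invol hr (x := π a'') (by rw [← map_mul, hsq a'' h2'', map_one])
      (fun h => hne a'' h2'' (hNV a'' ha'' ((hπV a'').mp h)))
    obtain ⟨x, hxR, hx⟩ := hrotR (j - i)
    have hxN : x ∈ N := Subgroup.le_normalizer hxR
    have hprod : a * a'' = x := hNinj _ (N.mul_mem ha ha'') _ hxN (by rw [map_mul, hi, hj, sr_mul_sr, hx])
    have hx1 : x ≠ 1 := fun h => hne' (by
      rw [h] at hprod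
      calc a = a'' ⁻¹ := eq_inv_of_mul_eq_one_left hprod
        _ = a'' := hinv _ h2'')
    obtain ⟨v, hv, hvx⟩ := exists_conj_eq_mul V (hCρ x hxR hx1)
      (hπeq (b * b'') x (by rw [map_mul, hπb, hπb'', ← map_mul, hprod]))
    have hw : v * x * v⁻¹ = b * b'' := by rw [hvx]; group
    have hb' : v⁻¹ * b * v * x * (v⁻¹ * b * v)⁻¹ ∈ (R : Subgroup G) := by
      have : v⁻¹ * b * v * x * (v⁻¹ * b * v)⁻¹ = x⁻¹ := by
        calc v⁻¹ * b * v * x * (v⁻¹ * b * v)⁻¹
            = v⁻¹ * (b * (v * x * v⁻¹) * b⁻¹) * v := by group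
          _ = v⁻¹ * ((b * b) * b'' * b⁻¹) * v := by rw [hw]; group
          _ = v⁻¹ * ((b * b'')⁻¹) * v := by rw [hsq b hb, mul_inv_rev, hinv b'' hb'', one_mul]
          _ = x⁻¹ := by rw [← hw]; group
      rw [this]
      exact (R : Subgroup G).inv_mem hxR
    have hbN : v⁻¹ * b * v ∈ N := by
      rw [hN, Subgroup.mem_normalizer_iff_map_conj_eq]
      conv_rhs => rw [← hgen _ hb' (by rwa [Ne, conj_eq_one_iff])]
      rw [← hgen x hxR hx1, MonoidHom.map_zpowers]
      rfl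
    have hba : v⁻¹ * b * v = a := hNinj _ hbN _ ha (by
      rw [map_mul, map_mul, map_inv, (hπV v).mpr hv, inv_one, one_mul, mul_one, hπb])
    have hb1 : v * a * v⁻¹ = b := by rw [← hba]; group
    refine ⟨v, hv, hb1, ?_⟩
    calc v * a'' * v⁻¹ = (v * a * v⁻¹)⁻¹ * (v * (a * a'') * v⁻¹) := by group
      _ = b⁻¹ * (b * b'') := by rw [hb1, hprod, hw]
      _ = b'' := by group
  set a'' := ρ * a * ρ⁻¹ with ha''
  have hρN : ρ ∈ N := Subgroup.le_normalizer hρR
  have ha''N : a'' ∈ N := N.mul_mem (N.mul_mem hρN ha) (N.inv_mem hρN)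
  have ha''2 : orderOf a'' = 2 := by
    rw [ha'', ← ha2]; exact (SemiconjBy.orderOf_eq ρ (by simp [SemiconjBy, mul_assoc])).symm
  obtain ⟨i, hi⟩ := dihedral_invol hr (x := π a) (by rw [← map_mul, hsq a ha2, map_one])
    (fun h => hne a ha2 (hNV a ha ((hπV a).mp h)))
  have hne'' : a ≠ a'' := by
    intro h
    have h' := congrArg π h
    rw [ha'', map_mul, map_mul, map_inv, hi, hk, inv_r, r_mul_sr, sr_mul_r] at h'
    have := DihedralGroup.sr.inj h'
    exact two_mul_ne_zero_zmod hr hk0 (by linear_combination this)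
  refine ⟨fun b hb hbV => ?_, ?_⟩
  · obtain ⟨j, hj⟩ := dihedral_invol hr (x := π b) (by rw [← map_mul, hsq b hb, map_one])
      (fun h => hbV ((hπV b).mp h))
    obtain ⟨g, hgN, hg⟩ := hNsurj (.r ((i - j) / 2))
    set a' := g * a * g⁻¹ with ha'
    have ha'2 : orderOf a' = 2 := by
      rw [ha', ← ha2]; exact (SemiconjBy.orderOf_eq g (by simp [SemiconjBy, mul_assoc])).symm
    have ha'N : a' ∈ N := N.mul_mem (N.mul_mem hgN ha) (N.inv_mem hgN)
    have hπa' : π a' = π b := by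
      have h2 : (2 : ZMod r) ≠ 0 := fun h => two_mul_ne_zero_zmod hr (one_ne_zero (α := ZMod r))
        (by linear_combination h)
      rw [ha', map_mul, map_mul, map_inv, hi, hg, inv_r, r_mul_sr, sr_mul_r, hj]
      congr 1
      field_simp
      ring
    obtain ⟨c, hcN, hc2, hca⟩ : ∃ c, c ∈ N ∧ orderOf c = 2 ∧ a' ≠ c := by
      by_cases h : a' = a
      · exact ⟨a'', ha''N, ha''2, h ▸ hne''⟩
      · exact ⟨a, ha, ha2, h⟩
    obtain ⟨v, -, hv, -⟩ := key a' c ha'N hcN ha'2 hc2 hca b c hb hc2 hπa'.symm rfl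
    exact ⟨v * g, by rw [← hv, ha']; group⟩
  · set C := V ⊓ Subgroup.centralizer ({a} : Set G) with hCdef
    set C'' := V ⊓ Subgroup.centralizer ({a''} : Set G) with hC''def
    have hcardC : Nat.card C'' = Nat.card C := by
      refine Nat.card_congr (Equiv.symm ?_)
      refine Equiv.subtypeEquiv (MulAut.conj ρ).toEquiv fun x => ?_
      show x ∈ C ↔ ρ * x * ρ⁻¹ ∈ C''
      rw [Subgroup.mem_inf, Subgroup.mem_inf, Subgroup.mem_centralizer_singleton_iff,
        Subgroup.mem_centralizer_singleton_iff, ha'',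
        show ρ * x * ρ⁻¹ * (ρ * a * ρ⁻¹) = ρ * (x * a) * ρ⁻¹ by group,
        show ρ * a * ρ⁻¹ * (ρ * x * ρ⁻¹) = ρ * (a * x) * ρ⁻¹ by group, mul_left_inj, mul_right_inj]
      refine and_congr_left fun _ => ⟨fun h => Subgroup.Normal.conj_mem inferInstance _ h ρ, fun h => ?_⟩
      simpa [mul_assoc] using Subgroup.Normal.conj_mem (inferInstance : V.Normal) _ h ρ⁻¹
    let Φ : V → (V ⧸ C.subgroupOf V) × (V ⧸ C''.subgroupOf V) := fun v => (↑v, ↑v)
    have hinj : Function.Injective Φ := by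
      intro u v huv
      have h1 := (QuotientGroup.eq.mp (congrArg Prod.fst huv) : u⁻¹ * v ∈ C.subgroupOf V)
      have h2 := (QuotientGroup.eq.mp (congrArg Prod.snd huv) : u⁻¹ * v ∈ C''.subgroupOf V)
      rw [Subgroup.mem_subgroupOf] at h1 h2
      obtain ⟨hwV, h1⟩ := h1
      obtain ⟨-, h2⟩ := h2
      set w := ((u⁻¹ * v : V) : G)
      have h1' : a * w = w * a := (Subgroup.mem_centralizer_singleton_iff.mp h1).symm
      have h2' : a'' * w = w * a'' := (Subgroup.mem_centralizer_singleton_iff.mp h2).symm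
      obtain ⟨j, hj⟩ := dihedral_invol hr (x := π a'') (by rw [← map_mul, hsq a'' ha''2, map_one])
        (fun h => hne a'' ha''2 (hNV a'' ha''N ((hπV a'').mp h)))
      obtain ⟨x, hxR, hx⟩ := hrotR (j - i)
      have hprod : a * a'' = x := hNinj _ (N.mul_mem ha ha''N) _ (Subgroup.le_normalizer hxR)
        (by rw [map_mul, hi, hj, sr_mul_sr, hx])
      have hx1 : x ≠ 1 := fun h => hne'' (by
        rw [h] at hprod
        calc a = a''⁻¹ := eq_inv_of_mul_eq_one_left hprod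
          _ = a'' := hinv _ ha''2)
      have hw : w = 1 := hCρ x hxR hx1 w hwV (by
        rw [← hprod]
        calc w * (a * a'') = (w * a) * a'' := (mul_assoc _ _ _).symm
          _ = (a * w) * a'' := by rw [h1']
          _ = a * (w * a'') := mul_assoc _ _ _
          _ = a * (a'' * w) := by rw [h2']
          _ = a * a'' * w := (mul_assoc _ _ _).symm)
      exact (inv_mul_eq_one (a := u) (b := v)).mp (Subtype.ext hw)
    have hsurj : Function.Surjective Φ := by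
      rintro ⟨u, u''⟩
      obtain ⟨u, rfl⟩ := QuotientGroup.mk_surjective u
      obtain ⟨u'', rfl⟩ := QuotientGroup.mk_surjective u''
      have hord : ∀ (v x : G), orderOf x = 2 → orderOf (v * x * v⁻¹) = 2 := fun v x hx => by
        rw [← hx]; exact (SemiconjBy.orderOf_eq v (by simp [SemiconjBy, mul_assoc])).symm
      have hπc : ∀ v ∈ V, ∀ x : G, π (v * x * v⁻¹) = π x := fun v hv x => by
        rw [map_mul, map_mul, map_inv, (hπV v).mpr hv, inv_one, one_mul, mul_one]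
      obtain ⟨v, hv, h1, h2⟩ := key a a'' ha ha''N ha2 ha''2 hne'' _ _ (hord u a ha2) (hord u'' a'' ha''2)
        (hπc u u.2 a) (hπc u'' u''.2 a'')
      have hmem : ∀ (w x : G), v * x * v⁻¹ = w * x * w⁻¹ → v⁻¹ * w ∈ Subgroup.centralizer ({x} : Set G) := by
        intro w x h
        rw [Subgroup.mem_centralizer_singleton_iff]
        calc v⁻¹ * w * x = v⁻¹ * (w * x * w⁻¹) * w := by group
          _ = x * (v⁻¹ * w) := by rw [← h]; group
      refine ⟨⟨v, hv⟩, Prod.ext ?_ ?_⟩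
      · exact QuotientGroup.eq.mpr (Subgroup.mem_subgroupOf.mpr ⟨V.mul_mem (V.inv_mem hv) u.2, hmem u a h1⟩)
      · exact QuotientGroup.eq.mpr (Subgroup.mem_subgroupOf.mpr ⟨V.mul_mem (V.inv_mem hv) u''.2, hmem u'' a'' h2⟩)
    have hprod := Nat.card_eq_of_bijective Φ ⟨hinj, hsurj⟩
    rw [Nat.card_prod] at hprod
    have e1 := Subgroup.card_mul_index (C.subgroupOf V)
    have e2 := Subgroup.card_mul_index (C''.subgroupOf V)
    rw [Subgroup.index_eq_card, Nat.card_congr (Subgroup.subgroupOfEquivOfLe (inf_le_left : C ≤ V)).toEquiv] at e1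
    rw [Subgroup.index_eq_card, Nat.card_congr (Subgroup.subgroupOfEquivOfLe (inf_le_left : C'' ≤ V)).toEquiv,
      hcardC] at e2
    have hpos : 0 < Nat.card V := Nat.card_pos
    refine Nat.eq_of_mul_eq_mul_right hpos ?_
    calc Nat.card C ^ 2 * Nat.card V
        = Nat.card C ^ 2 * (Nat.card (V ⧸ C.subgroupOf V) * Nat.card (V ⧸ C''.subgroupOf V)) := by rw [← hprod]
      _ = (Nat.card C * Nat.card (V ⧸ C.subgroupOf V)) * (Nat.card C * Nat.card (V ⧸ C''.subgroupOf V)) := by ring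
      _ = _ := by rw [e1, e2]

end H76
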