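import Cfsg.Agent.H76.ExcBig

/-!
Type B₂ over fields of characteristic two with more than two elements: root subgroups lift to
abelian groups by two-term decompositions.
-/

set_option autoImplicit false
set_option linter.unusedSectionVars false
set_option maxRecDepth 100000

namespace H76.Exc

open Cfsg.Lie Subgroup
open scoped commutatorElement

variable {D : ChevalleyDatum} {C : H54.Ctx D} {F : Type*} [Field F]

section
variable {Γ : Type*} [Group Γ] {π : Γ →* ↥(D.group F)} (hs : Function.Surjective π)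
  (hc : π.ker ≤ center Γ)
include hs hc

/-- Quotients of two commutators of elements commuting with `X_r` lift to elements commuting with
the lifts of `X_r`. -/
theorem commLift_of_quot {r k : ℕ}
    (h : ∀ v : F, ∃ A B A' B' : ↥(D.group F), xg C k v = ⁅B, A⁆ * ⁅B', A'⁆⁻¹ ∧
      ∀ t : F, ∀ Z ∈ [A, B, A', B'], Commute (xg C r t) Z) : CommLift C π r k := by
  intro x y t u hx hy
  obtain ⟨A, B, A', B', e, hcm⟩ := h u
  have key : ∀ P Q : ↥(D.group F), Commute (xg C r t) P → Commute (xg C r t) Q →
      Commute x ⁅Function.surjInv hs P, Function.surjInv hs Q⁆ := by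
    intro P Q hP hQ
    refine mul_inv_eq_iff_eq_mul.1 (?_ : x * _ * x⁻¹ = _)
    rw [conjugate_commutatorElement]
    refine Cover.comm_congr π hc ?_ ?_
    · rw [map_mul, map_mul, map_inv, hx, Function.surjInv_eq hs, mul_inv_eq_iff_eq_mul]
      exact hP.eq
    · rw [map_mul, map_mul, map_inv, hx, Function.surjInv_eq hs, mul_inv_eq_iff_eq_mul]
      exact hQ.eq
  set w := ⁅Function.surjInv hs B, Function.surjInv hs A⁆ *
    ⁅Function.surjInv hs B', Function.surjInv hs A'⁆⁻¹
  have hw : π w = π y := by
    simp only [w, map_mul, map_inv, map_commutatorElement, Function.surjInv_eq hs]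
    rw [hy, e]
  have hz : w⁻¹ * y ∈ center Γ := hc (by
    rw [MonoidHom.mem_ker, map_mul, map_inv, ← hw, inv_mul_cancel])
  rw [← mul_inv_cancel_left w y]
  refine Commute.mul_right (Commute.mul_right (key B A (hcm t B (by simp)) (hcm t A (by simp)))
    (key B' A' (hcm t B' (by simp)) (hcm t A' (by simp))).inv_right) (mem_center_iff.1 hz x)

end

theorem xg_comm_word {r s : ℕ} (hr : r < D.nroots) (hs : s < D.nroots) (h1 : s ≠ r)
    (h2 : s ≠ D.neg r) (t u : F) :
    ⁅xg C s (-u), xg C r t⁆ = ((D.commWord F r s (-t) u).map fun p => xg C p.1 p.2).prod := by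
  obtain ⟨t, rfl⟩ : ∃ t', t = -t' := ⟨-t, (neg_neg t).symm⟩
  rw [neg_neg]
  have h := C.hC.comm_rt hr hs h1 h2 t u
  rw [commutatorElement_def, xg_inv, xg_inv, neg_neg, neg_neg]
  apply Subtype.ext
  simp only [Subgroup.coe_mul, SubmonoidClass.coe_list_prod, List.map_map]
  show H52.rt D s (-u) * H52.rt D r (-t) * H52.rt D s u * H52.rt D r t = _
  rw [← C.hC.rt_inv, ← C.hC.rt_inv, mul_assoc _ (H52.rt D s u), h]
  simp only [H52.wordRt, Function.comp_def, xg]
  group

theorem commTerms_B2 :
    chevB2.commTerms 3 6 = [(5, 1, 1, 1), (7, 1, 1, 2)] ∧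
    chevB2.commTerms 4 5 = [(6, 1, 1, 1), (7, -1, 1, 2)] ∧
    commOK chevB2 7 3 = true ∧ commOK chevB2 7 6 = true ∧ commOK chevB2 6 4 = true ∧
    commOK chevB2 7 7 = true ∧
    chevB2.commTerms 6 5 = [(7, -2, 1, 1)] ∧ chevB2.neg 3 = 4 ∧ chevB2.neg 4 = 3 ∧
    chevB2.neg 6 = 1 ∧ chevB2.nroots = 8 := by decide +kernel

theorem topB2 : ∀ r < 8, topRoot chevB2 r = true → r = 6 ∨ r = 7 := by decide +kernel

/-- Root subgroups of B₂ in characteristic two lift to abelian groups. -/
theorem self_B2_two (C : H54.Ctx chevB2) {Γ : Type*} [Group Γ] {π : Γ →* ↥(chevB2.group F)}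
    (hs : Function.Surjective π) (hc : π.ker ≤ center Γ) (h2 : (2 : F) = 0)
    (hz : ∃ z : F, z ≠ 0 ∧ z ≠ 1) : ∀ r < chevB2.nroots, CommLift C π r r := by
  obtain ⟨t36, t45, c73, c76, c64, c77, t65, n3, n4, n6, nr⟩ := commTerms_B2
  obtain ⟨z, hz0, hz1⟩ := hz
  have hlt : ∀ k : ℕ, k < 8 → k < chevB2.nroots := fun k h => by omega
  refine commLift_self_of_top hs hc fun r hr htop => commLift_of_quot hs hc fun v => ?_
  rcases topB2 r (by omega) htop with rfl | rfl
  · let a : F := v / (z - z * z)
    refine ⟨xg C 4 a, xg C 5 (-z), xg C 4 (a * z * z), xg C 5 (-1), ?_, fun t Z hZ => ?_⟩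
    · have hd : z - z * z ≠ 0 := by
        rw [show z - z * z = z * (1 - z) by ring]
        exact mul_ne_zero hz0 (sub_ne_zero.2 hz1.symm)
      have hv : v = a * z - a * z * z * 1 := by
        linear_combination -(div_mul_cancel₀ v hd)
      rw [xg_comm_word (hlt 4 (by norm_num)) (hlt 5 (by norm_num)) (by norm_num) (by omega),
        xg_comm_word (hlt 4 (by norm_num)) (hlt 5 (by norm_num)) (by norm_num) (by omega)]
      simp only [ChevalleyDatum.commWord, t45, List.map_cons, List.map_nil, List.prod_cons,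
        List.prod_nil, mul_one, pow_one, mul_inv_rev, xg_inv, neg_neg]
      rw [mul_assoc (xg C 6 _) (xg C 7 _), ← mul_assoc (xg C 7 _) (xg C 7 _), xg_add]
      push_cast
      rw [show -1 * a * z ^ 2 + -(-1 * (a * z * z) * 1 ^ 2) = (0 : F) by ring, xg_zero,
        one_mul (xg C 6 _), xg_add]
      congr 1
      rw [hv]; ring
    · simp only [List.mem_cons, List.not_mem_nil, or_false] at hZ
      rcases hZ with rfl | rfl | rfl | rfl
      rotate_left
      rotate_left
      · exact commOK_spec C hr (hlt 4 (by norm_num)) c64 _ _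
      rotate_left
      · exact commOK_spec C hr (hlt 4 (by norm_num)) c64 _ _
      all_goals
        apply Subtype.ext
        have e := C.hC.comm_rt hr (hlt 5 (by norm_num)) (by norm_num) (by omega) t
        simp only [H52.wordRt, ChevalleyDatum.commWord, t65, List.map_cons, List.map_nil,
          List.prod_cons, List.prod_nil, mul_one, pow_one, Int.cast_neg, Int.cast_ofNat, h2, neg_zero,
          zero_mul, C.hC.rt_zero] at e
        exact (e _).symm
  · let a : F := v / (z * z - z)
    refine ⟨xg C 3 a, xg C 6 (-z), xg C 3 (a * z), xg C 6 (-1), ?_, fun t Z hZ => ?_⟩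
    · have hd : z * z - z ≠ 0 := by
        rw [show z * z - z = z * (z - 1) by ring]
        exact mul_ne_zero hz0 (sub_ne_zero.2 hz1)
      have hv : v = a * (z * z) - a * z := by
        linear_combination -(div_mul_cancel₀ v hd)
      rw [xg_comm_word (hlt 3 (by norm_num)) (hlt 6 (by norm_num)) (by norm_num) (by omega),
        xg_comm_word (hlt 3 (by norm_num)) (hlt 6 (by norm_num)) (by norm_num) (by omega)]
      simp only [ChevalleyDatum.commWord, t36, List.map_cons, List.map_nil, List.prod_cons,
        List.prod_nil, mul_one, pow_one, mul_inv_rev, xg_inv, neg_neg]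
      have hcomm : ∀ s u : F, xg C 7 s * xg C 5 u = xg C 5 u * xg C 7 s := fun s u =>
        (commOK_spec C (hlt 7 (by norm_num)) (hlt 5 (by norm_num)) (by decide +kernel) s u).eq
      rw [mul_assoc (xg C 5 _) (xg C 7 _), ← mul_assoc (xg C 7 _) (xg C 7 _), xg_add, hcomm,
        ← mul_assoc, xg_add]
      push_cast
      rw [show 1 * a * z + -(1 * (a * z)) = (0 : F) by ring, xg_zero, one_mul (xg C 7 _)]
      congr 1
      rw [hv]; ring
    · simp only [List.mem_cons, List.not_mem_nil, or_false] at hZ
      rcases hZ with rfl | rfl | rfl | rfl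
      exacts [commOK_spec C hr (hlt 3 (by norm_num)) c73 _ _,
        commOK_spec C hr (hlt 6 (by norm_num)) c76 _ _,
        commOK_spec C hr (hlt 3 (by norm_num)) c73 _ _,
        commOK_spec C hr (hlt 6 (by norm_num)) c76 _ _]

/-- Lifts for B₂ in characteristic two with more than two elements. -/
theorem lifts_B2_two [Fintype F] (C : H54.Ctx chevB2) {Γ : Type*} [Group Γ]
    {π : Γ →* ↥(chevB2.group F)} (hs : Function.Surjective π) (hc : π.ker ≤ center Γ)
    (h2 : (2 : F) = 0) (hq : 4 ≤ Fintype.card F) : Nonempty (Lifts C π) := by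
  have hN1 : ∀ n : ℕ, 1 ≤ n → n ≤ 1 → (n : F) ≠ 0 := by
    intro n h1 h1'
    obtain rfl : n = 1 := by omega
    simp
  have hz : ∃ z : F, z ≠ 0 ∧ z ≠ 1 := by
    classical
    by_contra hcon
    push Not at hcon
    have : (Finset.univ : Finset F) ⊆ {0, 1} := fun x _ => by
      by_cases h : x = 0
      · simp [h]
      · simp [hcon x h]
    have := (Finset.card_le_card this).trans (Finset.card_le_two)
    rw [Finset.card_univ] at this
    omega
  exact lifts_of_checks hs hc (M := 2) (by omega) hN1 unitB2 goodB2 (self_B2_two C hs hc h2 hz)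

end H76.Exc
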