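import Cfsg.Agent.H76.ExcCheck
import Cfsg.Prelude.Def_ChevE6
import Cfsg.Prelude.Def_ChevE7
import Cfsg.Prelude.Def_ChevF4
import Cfsg.Prelude.Def_ChevG2

/-!
Kernel verification of the checks for G₂, F₄, E₆, E₇.
-/

set_option autoImplicit false
set_option maxRecDepth 100000

namespace H76.Exc

open Cfsg.Lie

theorem unitG2 : unitOK chevG2 3 = true := by decide +kernel
theorem goodG2 : goodOK chevG2 3 1 = true := by decide +kernel
theorem unitF4 : unitOK chevF4 1 = true := by decide +kernel
theorem selfF4 : selfOK chevF4 1 = true := by decide +kernel
theorem goodF4_two : goodOK chevF4 2 1 = true := by decide +kernel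
theorem goodF4_three : goodOK chevF4 1 2 = true := by decide +kernel
theorem unitE6 : unitOK chevE6 1 = true := by decide +kernel
theorem selfE6 : selfOK chevE6 1 = true := by decide +kernel
theorem goodE6 : goodOK chevE6 1 1 = true := by decide +kernel
theorem pairTwoE6 : pairTwoOK chevE6 = true := by decide +kernel
theorem joinE6 : joinOK chevE6 = true := by decide +kernel
theorem splitE6 : splitOK chevE6 = true := by decide +kernel
theorem unitE7 : unitOK chevE7 1 = true := by decide +kernel
theorem selfE7 : selfOK chevE7 1 = true := by decide +kernel
theorem goodE7 : goodOK chevE7 1 1 = true := by decide +kernel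
theorem pairTwoE7 : pairTwoOK chevE7 = true := by decide +kernel
theorem joinE7 : joinOK chevE7 = true := by decide +kernel
theorem splitE7 : splitOK chevE7 = true := by decide +kernel

end H76.Exc
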