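import Cfsg.Agent.H76.ExcCheck
import Cfsg.Prelude.Def_ChevE8

/-!
Kernel verification of the checks for E₈.
-/

set_option autoImplicit false
set_option maxRecDepth 100000

namespace H76.Exc

open Cfsg.Lie

theorem unitE8 : unitOK chevE8 1 = true := by decide +kernel
theorem selfE8 : selfOK chevE8 1 = true := by decide +kernel
theorem goodE8 : goodOK chevE8 1 1 = true := by decide +kernel
theorem pairTwoE8 : pairTwoOK chevE8 = true := by decide +kernel
theorem joinE8 : joinOK chevE8 = true := by decide +kernel
theorem splitE8 : splitOK chevE8 = true := by decide +kernel

end H76.Exc
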