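import Cfsg.Agent.H76.ExcSchur
import Cfsg.Agent.H76.ExcData
import Cfsg.Agent.H76.ExcDataE8
import Cfsg.Agent.H76.ExcD4

/-!
Lifts over fields with more than four elements, and universality of the group presented by (R1), (R2).
-/

set_option autoImplicit false
set_option linter.unusedSectionVars false
set_option maxRecDepth 100000

namespace H76.Exc

open Cfsg.Lie Subgroup
open scoped commutatorElement

/-- Each top root has a decomposition, or is paired to `±1`, or is paired to `±2` and has a
decomposition with coefficient at most two. -/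
def selfBigOK (D : ChevalleyDatum) : Bool :=
  (List.range D.nroots).all fun r => !topRoot D r || decompOK D 1 r r ||
    ((List.range D.rank).any fun i => (D.cartan i r).natAbs == 1) ||
    (decompOK D 2 r r && (List.range D.rank).any fun i => (D.cartan i r).natAbs == 2)

theorem selfBigB2 : selfBigOK chevB2 = true := by decide +kernel
theorem selfBigG2 : selfBigOK chevG2 = true := by decide +kernel
theorem unitB2 : unitOK chevB2 2 = true := by decide +kernel
theorem goodB2 : goodOK chevB2 2 1 = true := by decide +kernel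

theorem selfBig_of_selfOK {D : ChevalleyDatum} (h : selfOK D 1 = true) : selfBigOK D = true := by
  simp only [selfOK, selfBigOK, List.all_eq_true, List.mem_range, Bool.or_eq_true] at h ⊢
  intro r hr
  rcases h r hr with h' | h'
  · exact Or.inl (Or.inl (Or.inl h'))
  · exact Or.inl (Or.inl (Or.inr h'))

variable {D : ChevalleyDatum} {C : H54.Ctx D} {F : Type*} [Field F]

theorem exists_good_scalar (h5 : ∃ s : Finset F, 4 < s.card) :
    ∃ x : F, x ≠ 0 ∧ x + 1 ≠ 0 ∧ x * x + x + 1 ≠ 0 := by
  classical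
  obtain ⟨s, hs⟩ := h5
  by_contra hcon
  push Not at hcon
  let p : Polynomial F :=
    Polynomial.X * (Polynomial.X + 1) * (Polynomial.X ^ 2 + Polynomial.X + 1)
  have hm : p.Monic := by
    simp only [p]; monicity!
  have hdeg : p.natDegree ≤ 4 := by simp only [p]; compute_degree
  have hroots : ∀ x : F, x ∈ p.roots := fun x => by
    rw [Polynomial.mem_roots hm.ne_zero]
    simp only [Polynomial.IsRoot, p, Polynomial.eval_mul, Polynomial.eval_add, Polynomial.eval_X,
      Polynomial.eval_one, Polynomial.eval_pow]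
    by_cases h0 : x = 0
    · simp [h0]
    by_cases h1 : x + 1 = 0
    · simp [h1]
    rw [pow_two, hcon x h0 h1, mul_zero]
  have hsub : s.card ≤ p.roots.toFinset.card :=
    Finset.card_le_card fun x _ => Multiset.mem_toFinset.2 (hroots x)
  have := p.card_roots'
  have := Multiset.toFinset_card_le p.roots
  omega

theorem exists_torus_scalar (h5 : ∃ s : Finset F, 4 < s.card) :
    ∃ z : Fˣ, ∀ m : ℤ, 1 ≤ m.natAbs → m.natAbs ≤ 3 → z ^ m ≠ 1 := by
  classical
  rcases finite_or_infinite F with hf | hf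
  · obtain ⟨s, hs⟩ := h5
    have := Fintype.ofFinite F
    have := Finset.card_le_univ s
    exact exists_generator_zpow (F := F) 3 (by omega)
  · let p : Polynomial F := Polynomial.X * (Polynomial.X ^ 6 - 1)
    have hp : p ≠ 0 := mul_ne_zero Polynomial.X_ne_zero (Polynomial.X_pow_sub_C_ne_zero (by norm_num) 1)
    obtain ⟨x, hx⟩ := Infinite.exists_notMem_finset p.roots.toFinset
    rw [Multiset.mem_toFinset, Polynomial.mem_roots hp] at hx
    simp only [Polynomial.IsRoot, p, Polynomial.eval_mul, Polynomial.eval_X, Polynomial.eval_sub,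
      Polynomial.eval_pow, Polynomial.eval_one, mul_eq_zero, sub_eq_zero, not_or] at hx
    refine ⟨Units.mk0 x hx.1, fun m h1 h2 h => hx.2 ?_⟩
    have h6 : (Units.mk0 x hx.1) ^ (6 : ℤ) = 1 := by
      obtain ⟨k, hk⟩ : m ∣ 6 := by
        rw [← Int.natAbs_dvd]
        interval_cases m.natAbs <;> norm_num
      rw [hk, zpow_mul, h, one_zpow]
    have := congrArg Units.val h6
    rwa [Units.val_zpow_eq_zpow_val, Units.val_mk0, Units.val_one, zpow_ofNat] at this

variable {Γ : Type*} [Group Γ] {π : Γ →* ↥(D.group F)} (hs : Function.Surjective π)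
  (hc : π.ker ≤ center Γ)
include hs hc

theorem self_big (h5 : ∃ s : Finset F, 4 < s.card) (h : selfBigOK D = true) :
    ∀ r < D.nroots, CommLift C π r r := by
  simp only [selfBigOK, List.all_eq_true, List.mem_range, Bool.or_eq_true, Bool.not_eq_true',
    List.any_eq_true, beq_iff_eq, Bool.and_eq_true] at h
  refine commLift_self_of_top hs hc fun r hr htop => ?_
  obtain ⟨x, hx0, hx1, hx2⟩ := exists_good_scalar h5
  have hN : ∀ n : ℕ, 1 ≤ n → n ≤ 1 → (n : F) ≠ 0 := by
    intro n h1 h1'
    obtain rfl : n = 1 := by omega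
    simp
  rcases h r hr with ((h' | h') | ⟨i, hi, ha⟩) | ⟨hd, i, hi, ha⟩
  · simp [htop] at h'
  · exact commLift_of_decomp hs hc hN hr h'
  · have hreach : ∀ y : F, y ≠ 0 → ∃ d : Fin D.rank → Fˣ, (chi D d r : F) = y := fun y hy => by
      refine ⟨Pi.mulSingle ⟨i, hi⟩ ((Units.mk0 y hy) ^ D.cartan i r), ?_⟩
      rw [chi_mulSingle C, ← zpow_mul]
      rcases Int.natAbs_eq (D.cartan i r) with e | e <;> rw [ha] at e <;> simp [e]
    exact commLift_self_of_elt hs hc hr hx0 hx1 hx2 (hreach x hx0) (hreach _ hx1)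
  · by_cases h2 : (2 : F) = 0
    · have hreach : ∀ y : F, y ≠ 0 → ∃ d : Fin D.rank → Fˣ, (chi D d r : F) = y * y := fun y hy => by
        rcases Int.natAbs_eq (D.cartan i r) with e | e <;> rw [ha] at e
        · exact ⟨Pi.mulSingle ⟨i, hi⟩ (Units.mk0 y hy), by
            rw [chi_mulSingle C, e]; push_cast; rw [zpow_two, Units.val_mk0]⟩
        · exact ⟨Pi.mulSingle ⟨i, hi⟩ (Units.mk0 y hy)⁻¹, by
            rw [chi_mulSingle C, e]; push_cast; rw [inv_zpow', neg_neg, zpow_two, Units.val_mk0]⟩
      have e1 : x * x + 1 = (x + 1) * (x + 1) := by linear_combination (-x) * h2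
      have e2 : x * x * (x * x) + x * x + 1 = (x * x + x + 1) * (x * x + x + 1) := by
        linear_combination (-(x * x * x + x * x + x)) * h2
      refine commLift_self_of_elt hs hc hr (mul_ne_zero hx0 hx0) ?_ ?_ (hreach x hx0) ?_
      · rw [e1]; exact mul_ne_zero hx1 hx1
      · rw [e2]; exact mul_ne_zero hx2 hx2
      · rw [e1]; exact hreach _ hx1
    · refine commLift_of_decomp hs hc (N := 2) (fun n h1 h1' => ?_) hr hd
      rcases (by omega : n = 1 ∨ n = 2) with rfl | rfl
      · simp
      · simpa using h2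

/-- Lifts over a field with more than four elements. -/
theorem lifts_big (h5 : ∃ s : Finset F, 4 < s.card) (hu : unitOK D 3 = true) {M : ℕ} (hM : M ≤ 3)
    (hg : goodOK D M 1 = true) (hsb : selfBigOK D = true) : Nonempty (Lifts C π) := by
  obtain ⟨z, hz⟩ := exists_torus_scalar h5
  simp only [unitOK, List.all_eq_true, List.mem_range, List.any_eq_true, Bool.and_eq_true,
    Nat.ble_eq] at hu
  simp only [goodOK, List.all_eq_true, List.mem_range, Bool.or_eq_true, Bool.not_eq_true',
    beq_iff_eq, Bool.and_eq_true, torusOK, List.any_eq_true, Nat.ble_eq] at hg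
  have hN : ∀ n : ℕ, 1 ≤ n → n ≤ 1 → (n : F) ≠ 0 := by
    intro n h1 h1'
    obtain rfl : n = 1 := by omega
    simp
  refine ⟨torLifts hs hc (self_big hs hc h5 hsb) (fun r hr => ?_) fun r hr htop s hs' h1 h2 => ?_⟩
  · obtain ⟨i, hi, h3, h4⟩ := hu r hr
    exact ⟨Pi.mulSingle ⟨i, hi⟩ z, by rw [chi_mulSingle C]; exact hz _ h3 h4⟩
  · have h := (hg r hr).resolve_left (by simp [htop]) s hs'
    rcases h with ((h | h) | ⟨a, -, ⟨h3, h4⟩, h5'⟩) | ⟨-, h⟩
    · exact absurd h h1
    · exact absurd h h2
    · exact Or.inl ⟨fun i => z ^ H52.crt D a i.val, by rw [chi_coroot C, h3, zpow_zero],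
        by rw [chi_coroot C]; exact hz _ h4 (h5'.trans hM)⟩
    · exact Or.inr (commLift_of_decomp hs hc hN hr h)

omit hs hc

theorem big_checks {D : ChevalleyDatum}
    (hD : D ∈ [chevG2, chevB2, chevD4, chevF4, chevE6, chevE7, chevE8]) :
    unitOK D 3 = true ∧ (∃ M, M ≤ 3 ∧ goodOK D M 1 = true) ∧ selfBigOK D = true := by
  simp only [List.mem_cons, List.not_mem_nil, or_false] at hD
  rcases hD with rfl | rfl | rfl | rfl | rfl | rfl | rfl
  · exact ⟨unitG2, ⟨3, le_rfl, goodG2⟩, selfBigG2⟩
  · exact ⟨unitOK_mono (by norm_num) unitB2, ⟨2, by norm_num, goodB2⟩, selfBigB2⟩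
  · exact ⟨unitOK_mono (by norm_num) unitD4, ⟨2, by norm_num, goodD4_four⟩, selfBig_of_selfOK selfD4⟩
  · exact ⟨unitOK_mono (by norm_num) unitF4, ⟨2, by norm_num, goodF4_two⟩, selfBig_of_selfOK selfF4⟩
  · exact ⟨unitOK_mono (by norm_num) unitE6, ⟨1, by norm_num, goodE6⟩, selfBig_of_selfOK selfE6⟩
  · exact ⟨unitOK_mono (by norm_num) unitE7, ⟨1, by norm_num, goodE7⟩, selfBig_of_selfOK selfE7⟩
  · exact ⟨unitOK_mono (by norm_num) unitE8, ⟨1, by norm_num, goodE8⟩, selfBig_of_selfOK selfE8⟩

variable (C)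

include C in
/-- The group presented by (R1), (R2) is universal over fields with more than four elements. -/
theorem universal (hP : H53.HasPairs D) (hpp : posPairOK D = true)
    (hperf : commutator (D.SteinbergCover F) = ⊤) (h5 : ∃ s : Finset F, 4 < s.card)
    (hu : unitOK D 3 = true) {M : ℕ} (hM : M ≤ 3) (hg : goodOK D M 1 = true)
    (hsb : selfBigOK D = true) {G₁ E : Type*} [Group G₁] [Group E] (π₁ : E →* G₁)
    (hπ : Function.Surjective π₁) (hk : π₁.ker ≤ center E) (σ : D.SteinbergCover F →* G₁) :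
    ∃! τ : D.SteinbergCover F →* E, π₁.comp τ = σ := by
  obtain ⟨θ₀, hθ₀⟩ := exists_scHom (F := F) C.hC
  have hS := scSys_rel θ₀ hθ₀
  set θ := H53.ChevSys.thetaG C.hC C.hok hS hP with hθdef
  have hθk : θ.ker ≤ center (D.SteinbergCover F) :=
    (H53.ChevSys.ker_eq_center C.hC C.W C.hok hS hP).le
  have hθs : Function.Surjective θ := H53.ChevSys.thetaG_surjective C.hC C.W C.hok hS hP
  let P : Subgroup (E × D.SteinbergCover F) :=
    (π₁.comp (MonoidHom.fst E _)).eqLocus (σ.comp (MonoidHom.snd E _))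
  let p : ↥(commutator P) →* D.SteinbergCover F :=
    ((MonoidHom.snd E _).comp P.subtype).comp (commutator P).subtype
  let p₀ : P →* D.SteinbergCover F := (MonoidHom.snd E _).comp P.subtype
  have hp₀s : Function.Surjective p₀ := fun x => by
    obtain ⟨e, he⟩ := hπ (σ x)
    exact ⟨⟨(e, x), he⟩, rfl⟩
  have hp₀c : p₀.ker ≤ center P := by
    rintro ⟨⟨e, x⟩, hex⟩ hx
    have hx1 : x = 1 := hx
    subst hx1
    have he : e ∈ π₁.ker := by
      show π₁ e = 1
      rw [← map_one σ]
      exact hex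
    refine mem_center_iff.2 fun g => Subtype.ext (Prod.ext ?_ ?_)
    · exact mem_center_iff.1 (hk he) _
    · show (g : E × D.SteinbergCover F).2 * 1 = 1 * (g : E × D.SteinbergCover F).2
      rw [one_mul, mul_one]
  have hps : Function.Surjective p := by
    intro x
    have hx : x ∈ (commutator P).map p₀ := by
      rw [map_commutator_eq, MonoidHom.range_eq_top.2 hp₀s, ← _root_.commutator_def, hperf]
      exact mem_top _
    obtain ⟨y, hy, rfl⟩ := hx
    exact ⟨⟨y, hy⟩, rfl⟩
  have hperfP : commutator ↥(commutator P) = ⊤ := by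
    apply Subgroup.map_injective (commutator P).subtype_injective
    rw [Subgroup.map_subtype_commutator, ← MonoidHom.range_eq_map, Subgroup.range_subtype]
    apply le_antisymm (commutator P).commutator_le_self
    refine Subgroup.commutator_le.2 fun a _ b _ => ?_
    obtain ⟨a', ha'⟩ := hps (p₀ a)
    obtain ⟨b', hb'⟩ := hps (p₀ b)
    rw [Cover.comm_congr p₀ hp₀c (x' := (a' : P)) (y' := (b' : P)) ha'.symm hb'.symm]
    exact commutator_mem_commutator a'.2 b'.2
  have hpc : p.ker ≤ center ↥(commutator P) := fun z hz =>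
    mem_center_iff.2 fun g => Subtype.ext (mem_center_iff.1 (hp₀c hz) g)
  have hc := comp_ker_le_center p θ hps hpc hθk hperfP
  obtain ⟨L⟩ := lifts_big (C := C) (π := θ.comp p) (hθs.comp hps) hc h5 hu hM hg hsb
  let Φ := L.coverHom (hθs.comp hps) hc hpp
  have hcomp : ∀ x, θ (p (Φ x)) = θ x := by
    refine DFunLike.congr_fun (show ((θ.comp p).comp Φ) = θ from PresentedGroup.ext fun q => ?_)
    have e : PresentedGroup.of (rels := D.steinbergRelsAB F) q = D.scGen F q.1.val q.2 := by
      simp [ChevalleyDatum.scGen, ChevalleyDatum.stX, PresentedGroup.of]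
    rw [MonoidHom.comp_apply, e, L.coverHom_gen _ _ _ q.1.isLt, L.proj _ q.1.isLt]
    apply Subtype.ext
    exact (hθ₀ _ q.1.isLt q.2).symm
  have hsec := comp_eq_id p θ hθk hperf Φ hcomp
  refine ⟨((MonoidHom.fst E _).comp P.subtype).comp ((commutator P).subtype.comp Φ), ?_, ?_⟩
  · refine MonoidHom.ext fun x => ?_
    have h1 := ((Φ x : P)).2
    change π₁ ((Φ x : P) : E × D.SteinbergCover F).1 = σ (p (Φ x)) at h1
    rw [show p (Φ x) = x from DFunLike.congr_fun hsec x] at h1
    exact h1
  · intro τ hτ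
    set τ₀ := ((MonoidHom.fst E _).comp P.subtype).comp ((commutator P).subtype.comp Φ)
    have hτ₀ : π₁.comp τ₀ = σ := by
      refine MonoidHom.ext fun x => ?_
      have h1 := ((Φ x : P)).2
      change π₁ ((Φ x : P) : E × D.SteinbergCover F).1 = σ (p (Φ x)) at h1
      rw [show p (Φ x) = x from DFunLike.congr_fun hsec x] at h1
      exact h1
    have hd : ∀ x, τ x * (τ₀ x)⁻¹ ∈ center E := fun x => hk (by
      rw [MonoidHom.mem_ker, map_mul, map_inv, ← MonoidHom.comp_apply, hτ, ← MonoidHom.comp_apply,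
        hτ₀, mul_inv_cancel])
    let f : D.SteinbergCover F →* center E := MonoidHom.mk' (fun x => ⟨τ x * (τ₀ x)⁻¹, hd x⟩)
      fun a b => Subtype.ext (by
        show τ (a * b) * (τ₀ (a * b))⁻¹ = τ a * (τ₀ a)⁻¹ * (τ b * (τ₀ b)⁻¹)
        rw [map_mul, map_mul, mul_inv_rev, mul_assoc (τ a) (τ₀ a)⁻¹,
          mem_center_iff.1 (hd b) (τ₀ a)⁻¹]
        group)
    have hf : commutator (D.SteinbergCover F) ≤ f.ker := by
      rw [_root_.commutator_def, Subgroup.commutator_le]
      intro a _ b _
      rw [MonoidHom.mem_ker, map_commutatorElement, commutatorElement_eq_one_iff_mul_comm]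
      exact Subtype.ext (mem_center_iff.1 (f b).2 _)
    refine MonoidHom.ext fun x => ?_
    exact mul_inv_eq_one.1 (congrArg Subtype.val (hf (hperf ▸ mem_top x) : f x = 1))

end H76.Exc
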