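import Cfsg.Agent.H76.ExcLift

/-!
Central extensions with finite kernel of order prime to the characteristic have canonical lifts of
root elements: the lifts of order dividing the characteristic.
-/

set_option autoImplicit false
set_option linter.unusedSectionVars false

namespace H76.Exc

open Cfsg.Lie Subgroup
open scoped commutatorElement

variable {D : ChevalleyDatum} (C : H54.Ctx D) {F : Type*} [Field F] (p : ℕ) [CharP F p]
  {Γ : Type*} [Group Γ] {π : Γ →* ↥(D.group F)} (hs : Function.Surjective π)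
  (hc : π.ker ≤ center Γ) [Finite π.ker] (hp : (Nat.card π.ker).Coprime p)

include C in
omit [CharP F p] in
theorem xg_pow (r : ℕ) (t : F) (n : ℕ) : xg C r t ^ n = xg C r ((n : F) * t) := by
  induction n with
  | zero => simp [xg_zero]
  | succ n ih => rw [pow_succ, ih, xg_add]; push_cast; ring_nf

include C in
theorem xg_pow_char (r : ℕ) (t : F) : xg C r t ^ p = 1 := by
  rw [xg_pow, CharP.cast_eq_zero, zero_mul, xg_zero]

include hs hc hp

theorem eq_of_pow_eq {x y : Γ} (hx : x ^ p = 1) (hy : y ^ p = 1) (h : π x = π y) : x = y := by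
  obtain ⟨z, rfl⟩ : ∃ z, y = x * z := ⟨x⁻¹ * y, (mul_inv_cancel_left x y).symm⟩
  have hz : z ∈ π.ker := by
    rw [map_mul] at h
    exact mul_left_cancel (h.symm.trans (mul_one _).symm)
  have hcm : Commute x z := mem_center_iff.1 (hc hz) x
  rw [hcm.mul_pow, hx, one_mul] at hy
  have : (⟨z, hz⟩ : π.ker) ^ p = 1 ^ p := by rw [one_pow]; exact Subtype.ext hy
  have := congrArg Subtype.val ((powCoprime hp).injective this)
  rw [show z = 1 from this, mul_one]

theorem exists_pow_lift {g : ↥(D.group F)} (hg : g ^ p = 1) : ∃ z, π z = g ∧ z ^ p = 1 := by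
  obtain ⟨y, hy⟩ := hs g
  have hk : y ^ p ∈ π.ker := by rw [MonoidHom.mem_ker, map_pow, hy, hg]
  obtain ⟨w, hw⟩ := (powCoprime hp).surjective ⟨y ^ p, hk⟩
  have hw' : (w : Γ) ^ p = y ^ p := congrArg Subtype.val hw
  refine ⟨y * (w : Γ)⁻¹, ?_, ?_⟩
  · rw [map_mul, map_inv, w.2, inv_one, mul_one, hy]
  · rw [(show Commute y (w : Γ)⁻¹ from mem_center_iff.1 (inv_mem (hc w.2)) y).mul_pow, inv_pow, hw',
      mul_inv_cancel]

/-- The lift of order dividing the characteristic. -/
noncomputable def powX (r : ℕ) (t : F) : Γ :=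
  (exists_pow_lift p hs hc hp (xg_pow_char C p r t)).choose

theorem powX_proj (r : ℕ) (t : F) : π (powX C p hs hc hp r t) = xg C r t :=
  (exists_pow_lift p hs hc hp (xg_pow_char C p r t)).choose_spec.1

theorem powX_pow (r : ℕ) (t : F) : powX C p hs hc hp r t ^ p = 1 :=
  (exists_pow_lift p hs hc hp (xg_pow_char C p r t)).choose_spec.2

theorem powX_conj (g : Γ) {r r' : ℕ} {t t' : F}
    (h : π g * xg C r t * (π g)⁻¹ = xg C r' t') :
    g * powX C p hs hc hp r t * g⁻¹ = powX C p hs hc hp r' t' :=
  eq_of_pow_eq p hs hc hp (by rw [conj_pow, powX_pow, mul_one, mul_inv_cancel])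
    (powX_pow C p hs hc hp r' t')
    (by rw [map_mul, map_mul, map_inv, powX_proj, powX_proj, h])

theorem powX_commute (r : ℕ) (t u : F) :
    Commute (powX C p hs hc hp r t) (powX C p hs hc hp r u) := by
  set a := powX C p hs hc hp r t
  set b := powX C p hs hc hp r u
  have h : b * a * b⁻¹ = a := powX_conj C p hs hc hp b (by
    rw [powX_proj, xg_add, xg_inv, xg_add]; congr 1; ring)
  exact (mul_inv_eq_iff_eq_mul.1 h).symm

/-- The lifts of order dividing the characteristic. -/
noncomputable def powLifts : Lifts C π where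
  X := powX C p hs hc hp
  proj r _ t := powX_proj C p hs hc hp r t
  add r _ t u := eq_of_pow_eq p hs hc hp
    (by rw [(powX_commute C p hs hc hp r t u).mul_pow, powX_pow, powX_pow, mul_one])
    (powX_pow C p hs hc hp r _)
    (by rw [map_mul, powX_proj, powX_proj, powX_proj, xg_add])
  conj_n i r hr g hg t := powX_conj C p hs hc hp g (by rw [hg, ng_conj C i hr])
  conj_h c r hr g hg t := powX_conj C p hs hc hp g (by rw [hg, tor_conj C c hr])
  good r hr s hs' h1 h2 t u := by
    set X := powX C p hs hc hp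
    set S := span X (tgt D r s)
    set e := X r (-t) * X s u * X r t
    have hinv : X r t = (X r (-t))⁻¹ := eq_of_pow_eq p hs hc hp (powX_pow C p hs hc hp r t)
      (by rw [inv_pow, powX_pow, inv_one])
      (by rw [map_inv, powX_proj, powX_proj, xg_inv, neg_neg])
    have he : e ^ p = 1 := by
      show (X r (-t) * X s u * X r t) ^ p = 1
      rw [hinv, conj_pow, powX_pow, mul_one, mul_inv_cancel]
    have hmem : π e ∈ S.map π := by
      refine (closure_le _).2 ?_ (show π e ∈ Subgroup.closure
        {g | ∃ m ∈ tgt D r s, ∃ v, g = xg C m v} from ?_)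
      · rintro _ ⟨m, hm, v, rfl⟩
        exact ⟨_, subset_closure ⟨m, hm, v, rfl⟩, powX_proj C p hs hc hp m v⟩
      · show π (X r (-t) * X s u * X r t) ∈ _
        rw [map_mul, map_mul, powX_proj, powX_proj, powX_proj]
        exact xg_conj_mem C hr hs' h1 h2 t u
    obtain ⟨w, hw, hwe⟩ := hmem
    have hk : w⁻¹ * e ∈ π.ker := by rw [MonoidHom.mem_ker, map_mul, map_inv, hwe, inv_mul_cancel]
    set c : π.ker := ⟨w⁻¹ * e, hk⟩
    have hcw : Commute w (c : Γ) := mem_center_iff.1 (hc hk) w
    have hwc : w ^ p * (c : Γ) ^ p = 1 := by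
      rw [← hcw.mul_pow, show w * (c : Γ) = e from mul_inv_cancel_left w e, he]
    have hcp : c ^ p ∈ S.subgroupOf π.ker := by
      rw [mem_subgroupOf, SubmonoidClass.coe_pow, eq_inv_of_mul_eq_one_right hwc]
      exact inv_mem (pow_mem hw p)
    have hc1 : c ∈ S.subgroupOf π.ker := by
      obtain ⟨k, hk'⟩ : ∃ k : ℤ, (c ^ p) ^ k = c := by
        refine ⟨Nat.gcdB (Nat.card π.ker) p, ?_⟩
        have hb := Nat.gcd_eq_gcd_ab (Nat.card π.ker) p
        rw [hp.gcd_eq_one] at hb
        calc (c ^ p) ^ Nat.gcdB (Nat.card π.ker) p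
            = c ^ ((Nat.card π.ker : ℤ) * Nat.gcdA (Nat.card π.ker) p +
                (p : ℤ) * Nat.gcdB (Nat.card π.ker) p) := by
              rw [zpow_add, zpow_mul, zpow_mul, zpow_natCast, zpow_natCast, pow_card_eq_one',
                one_zpow, one_mul]
          _ = c := by rw [← hb]; simp
      rw [← hk']
      exact zpow_mem hcp _
    have : e = w * (c : Γ) := (mul_inv_cancel_left w e).symm
    show e ∈ S
    rw [this]
    exact mul_mem hw hc1

end H76.Exc
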