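import Cfsg.Agent.H76.ExcCtx
import Cfsg.Agent.H76.ExcTwo
import Cfsg.Agent.H53.StEmb
import Cfsg.Agent.H52.Perfect

/-!
Cyclic multipliers: the presented group is a cover whose kernel is its centre.
-/

set_option autoImplicit false
set_option linter.unusedSectionVars false

namespace H76.Exc

open Cfsg.Lie Subgroup

universe u

variable {D : ChevalleyDatum} (C : H54.Ctx D) {F : Type u} [Field F] [Fintype F]

/-- With elementary divisors `1, …, 1, n` the kernel of the torus is cyclic. -/
theorem isCyclic_tor_ker {d : Fin D.rank → ℕ} (hd : H52.HasDivisors D d) (j : Fin D.rank)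
    (hj : ∀ i, i ≠ j → d i = 1) : IsCyclic (tor C (F := F)).ker := by
  obtain ⟨P, P', Q, Q', h1, h2, h3, h4⟩ := hd
  have hker : ∀ c ∈ (tor C (F := F)).ker, ∀ i, i ≠ j → H52.mact Q' c i = 1 := by
    intro c hc i hi
    have hc' : c ∈ (H52.torus D (F := F)).ker := by
      rw [← MonoidHom.ker_codRestrict (H52.torus D) (D.group F) (torus_mem C)]; exact hc
    have e := congrArg (H52.mact P) ((C.hC.mem_torus_ker_iff c).1 hc')
    rw [H52.mact_mact, map_one] at e
    have e2 : H52.mact (Matrix.diagonal fun i => (d i : ℤ)) (H52.mact Q' c) = 1 := by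
      rw [← h4, H52.mact_mact, Matrix.mul_assoc, h2, Matrix.mul_one, e]
    have e3 := congrFun e2 i
    rw [H52.mact_apply, Finset.prod_eq_single i] at e3
    · rwa [Matrix.diagonal_apply_eq, hj i hi, Nat.cast_one, zpow_one] at e3
    · intro b _ hb; rw [Matrix.diagonal_apply_ne' _ hb, zpow_zero]
    · simp
  let f : (tor C (F := F)).ker →* Fˣ :=
    ((Pi.evalMonoidHom (fun _ : Fin D.rank => Fˣ) j).comp (H52.mact Q')).comp
      (tor C (F := F)).ker.subtype
  refine isCyclic_of_injective (f := f) ((injective_iff_map_eq_one f).2 fun c hc => ?_)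
  have hall : H52.mact Q' c.1 = 1 := by
    funext i
    by_cases hi : i = j
    · subst hi; exact hc
    · exact hker c.1 c.2 i hi
  apply Subtype.ext
  have := congrArg (H52.mact (G := Fˣ) Q) hall
  rwa [H52.mact_mact, h2, H52.mact_one, map_one] at this

include C in
/-- The centre of the presented group is cyclic. -/
theorem isCyclic_center (hP : H53.HasPairs D) {d : Fin D.rank → ℕ} (hd : H52.HasDivisors D d)
    (j : Fin D.rank) (hj : ∀ i, i ≠ j → d i = 1) : IsCyclic (center (D.SteinbergGroup F)) := by
  have := isCyclic_tor_ker C (F := F) hd j hj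
  have hk : ∀ c, c ∈ (tor C (F := F)).ker ↔ c ∈ (H52.torus D (F := F)).ker := fun c => by
    rw [← MonoidHom.ker_codRestrict (H52.torus D) (D.group F) (torus_mem C)]; rfl
  let f : (tor C (F := F)).ker →* center (D.SteinbergGroup F) :=
    ((H53.stTorus C.hC C.W hP).comp (tor C (F := F)).ker.subtype).codRestrict _ fun c =>
      H53.stTorus_mem_center C.hC C.W hP C.hok ((hk _).1 c.2)
  refine isCyclic_of_surjective f fun g => ?_
  obtain ⟨c, hc, e⟩ := H53.mem_center_stTorus C.hC C.W hP C.hok g.2
  exact ⟨⟨c, (hk c).2 hc⟩, Subtype.ext e⟩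

/-- The presented group is perfect. -/
theorem steinbergGroup_perfect {D : ChevalleyDatum} (hok : H54.perfectOK D = true)
    (hK : ((List.range D.nroots).all fun k => H54.killedFirst D k) = true) :
    commutator (D.SteinbergGroup F) = ⊤ := by
  let q : D.SteinbergCover F →* D.SteinbergGroup F :=
    PresentedGroup.toGroup (f := fun p => D.stGen F p.1.val p.2) fun g hg => by
      have e : FreeGroup.lift (fun p : Fin D.nroots × F => D.stGen F p.1.val p.2) g =
          PresentedGroup.mk (D.steinbergRels F) g := by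
        refine DFunLike.congr_fun (FreeGroup.ext_hom (FreeGroup.lift fun p : Fin D.nroots × F => D.stGen F p.1.val p.2) (PresentedGroup.mk (D.steinbergRels F)) fun p => ?_) g
        simp [ChevalleyDatum.stGen, ChevalleyDatum.stX]
      rw [e]
      exact PresentedGroup.one_of_mem (by rcases hg with h | h; exacts [Or.inl (Or.inl h), Or.inl (Or.inr h)])
  have hq : Function.Surjective q := by
    rw [← MonoidHom.range_eq_top, eq_top_iff, ← PresentedGroup.closure_range_of (D.steinbergRels F),
      closure_le]
    rintro _ ⟨⟨r, t⟩, rfl⟩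
    refine ⟨PresentedGroup.of (r, t), ?_⟩
    rw [PresentedGroup.toGroup.of]
    simp [ChevalleyDatum.stGen, ChevalleyDatum.stX, PresentedGroup.of]
  rw [eq_top_iff, ← MonoidHom.range_eq_top.2 hq, MonoidHom.range_eq_map,
    ← H54.steinbergCover_perfect D hok (Or.inl hK), map_commutator_eq]
  exact commutator_mono le_top le_top

include C in
/-- The multiplier from lifts in every stem extension and the presented cover. -/
theorem cyclic_multiplier
    (hperf : commutator (D.SteinbergGroup F) = ⊤) {n : ℕ}
    {d : Fin D.rank → ℕ} (hd : H52.HasDivisors D d) (j : Fin D.rank)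
    (hj : ∀ i, i ≠ j → d i = 1) (hn : (Fintype.card F - 1).gcd (d j) = n)
    (hZ : Nat.card (center (D.SteinbergGroup F)) = n)
    (hZc : IsCyclic (center (D.SteinbergGroup F)))
    (θ : D.SteinbergGroup F →* ↥(D.group F)) (hθs : Function.Surjective θ)
    (hθk : θ.ker = center (D.SteinbergGroup F))
    (hlift : ∀ (Γ : Type u) [Group Γ] [Finite Γ] (σ : Γ →* ↥(D.group F)),
      Cfsg.IsStemExtension σ → Nonempty (Lifts C σ)) :
    Cfsg.HasCyclicSchurMultiplier ↥(D.group F) n := by
  classical
  have hn0 : n ≠ 0 := by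
    rw [← hn]
    intro h
    have := Nat.eq_zero_of_gcd_eq_zero_left h
    have := Fintype.one_lt_card (α := F)
    omega
  have hcard : Nat.card (tor C (F := F)).ker = n := by
    rw [card_tor_ker C hd, Finset.prod_eq_single j, hn]
    · intro i _ hi; rw [hj i hi, Nat.gcd_one_right]
    · simp
  have := isCyclic_tor_ker C (F := F) hd j hj
  have := hZc
  have : Finite (center (D.SteinbergGroup F)) := Nat.finite_of_card_ne_zero (hZ ▸ hn0)
  have : Finite θ.ker := by rw [hθk]; infer_instance
  have : Finite θ.range := inferInstance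
  have : Finite (D.SteinbergGroup F ⧸ θ.ker) :=
    Finite.of_equiv _ (QuotientGroup.quotientKerEquivRange θ).symm.toEquiv
  have : Finite (D.SteinbergGroup F) :=
    Finite.of_subgroup_quotient θ.ker
  refine ⟨⟨D.SteinbergGroup F, inferInstance, inferInstance, θ,
    ⟨hθs, hθk.le, hperf ▸ le_top⟩, ?_⟩, fun Γ _ _ σ hσ => ?_⟩
  · exact ⟨(MulEquiv.subgroupCongr hθk).trans (mulEquivOfCyclicCardEq (by
      rw [hZ, Nat.card_congr Multiplicative.toAdd, Nat.card_zmod]))⟩
  · obtain ⟨L⟩ := hlift Γ σ hσ
    obtain ⟨f, hf⟩ := stem_ker hσ L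
    have e : Multiplicative (ZMod n) ≃* (tor C (F := F)).ker := mulEquivOfCyclicCardEq (by
      rw [hcard, Nat.card_congr Multiplicative.toAdd, Nat.card_zmod])
    exact ⟨f.comp e.toMonoidHom, hf.comp e.surjective⟩

end H76.Exc
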