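import Cfsg.Agent.H76.ExcFinite

/-!
Contexts of the five exceptional types.
-/

set_option autoImplicit false

namespace H76.Exc

open Cfsg.Lie

/-- G₂. -/
def ctxG2 : H54.Ctx chevG2 :=
  ⟨H52.tablesG2, H52.checkedG2, H53.weylForG2, H54.chainOK_of_mem chevG2 (by simp)⟩

/-- F₄. -/
def ctxF4 : H54.Ctx chevF4 :=
  ⟨H52.tablesF4, H52.checkedF4, H53.weylForF4, H54.chainOK_of_mem chevF4 (by simp)⟩

/-- E₆. -/
def ctxE6 : H54.Ctx chevE6 :=
  ⟨H52.tablesE6, H52.checkedE6, H53.weylForE6, H54.chainOK_of_mem chevE6 (by simp)⟩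

/-- E₇. -/
def ctxE7 : H54.Ctx chevE7 :=
  ⟨H52.tablesE7, H52.checkedE7, H53.weylForE7, H54.chainOK_of_mem chevE7 (by simp)⟩

/-- E₈. -/
def ctxE8 : H54.Ctx chevE8 :=
  ⟨H52.tablesE8, H52.checkedE8, H53.weylForE8, H54.chainOK_of_mem chevE8 (by simp)⟩

theorem card_eq_one_of_hom {A B : Type*} [Group A] [Group B] (f : A →* B)
    (hf : Function.Surjective f) (h : Nat.card A = 1) : Nat.card B = 1 := by
  have := (Nat.card_eq_one_iff_unique.1 h).1
  exact Nat.card_eq_one_iff_unique.2 ⟨hf.subsingleton, ⟨1⟩⟩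

end H76.Exc
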