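import Cfsg.Agent.H76.ExcTorus
import Cfsg.Prelude.Def_ChevB2
import Cfsg.Prelude.Def_ChevD4
import Cfsg.Prelude.Def_ChevE6
import Cfsg.Prelude.Def_ChevE7
import Cfsg.Prelude.Def_ChevE8
import Cfsg.Prelude.Def_ChevF4
import Cfsg.Prelude.Def_ChevG2

/-!
Lifted root elements satisfy Chevalley's commutator formula exactly.
-/

set_option autoImplicit false
set_option linter.unusedSectionVars false
set_option maxRecDepth 100000

namespace H76.Exc

open Cfsg.Lie Subgroup
open scoped commutatorElement

/-- The image of a root under a word of fundamental reflections. -/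
def wordRun (D : ChevalleyDatum) (r : ℕ) (w : List ℕ) : ℕ := w.foldr D.reflectRoot r

/-- Words making the exceptional pairs of top roots positive, for the seven types. -/
def posWords (D : ChevalleyDatum) : List (ℕ × List ℕ) :=
  if D.nroots = 12 then [(1, [1, 0]), (4, [0]), (3, [0, 1]), (5, [1])]
  else if D.nroots = 8 then [(3, [1]), (2, [0])]
  else if D.nroots = 24 then [(9, [1])]
  else if D.nroots = 48 then [(6, [2, 1, 0]), (14, [0]), (18, [1, 2, 3]), (23, [3])]
  else if D.nroots = 72 then [(25, [1])]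
  else if D.nroots = 126 then [(32, [0])]
  else [(119, [7])]

/-- Every pair starting in a top root can be made positive. -/
def posPairOK (D : ChevalleyDatum) : Bool :=
  (List.range D.nroots).all fun r => !topRoot D r || (Nat.ble (D.nroots / 2) r &&
    (List.range D.nroots).all fun s => Nat.ble (D.nroots / 2) s || (s == D.neg r) ||
      ((List.range D.rank).any fun i => (D.reflectRoot i r == r) && Nat.blt s (D.reflectRoot i s)) ||
      (posWords D).any fun p => (p.1 == s) && (p.2.all fun i => Nat.blt i D.rank) &&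
        Nat.ble (D.nroots / 2) (wordRun D r p.2) && Nat.ble (D.nroots / 2) (wordRun D s p.2))

theorem posPairG2 : posPairOK chevG2 = true := by decide +kernel
theorem posPairB2 : posPairOK chevB2 = true := by decide +kernel
theorem posPairD4 : posPairOK chevD4 = true := by decide +kernel
theorem posPairF4 : posPairOK chevF4 = true := by decide +kernel
theorem posPairE6 : posPairOK chevE6 = true := by decide +kernel
theorem posPairE7 : posPairOK chevE7 = true := by decide +kernel
theorem posPairE8 : posPairOK chevE8 = true := by decide +kernel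

variable {D : ChevalleyDatum} {C : H54.Ctx D} {F : Type*} [Field F] {Γ : Type*} [Group Γ]
  {π : Γ →* ↥(D.group F)} (L : Lifts C π)

/-- The product of lifts along a word. -/
def Lifts.wd (w : List (ℕ × F)) : Γ := (w.map fun p => L.X p.1 p.2).prod

/-- The commutator formula for the lifts. -/
def Lifts.Exact (r s : ℕ) : Prop :=
  ∀ t u, L.X s u * L.X r t = L.X r t * L.X s u * L.wd (D.commWord F r s t u)

theorem Lifts.exact_step (hs : Function.Surjective π) (i : Fin D.rank) {r s : ℕ}
    (hr : r < D.nroots) (hs' : s < D.nroots)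
    (h : L.Exact (D.reflectRoot i.val r) (D.reflectRoot i.val s)) : L.Exact r s := by
  intro t u
  obtain ⟨g, hg⟩ := hs (ng C i)
  have hlt : ∀ p ∈ D.commWord F r s t u, p.1 < D.nroots := by
    intro p hp
    obtain ⟨c, hc, rfl⟩ := List.mem_map.1 hp
    exact C.hC.commTerms_lt c hc
  have hwd : ∀ w : List (ℕ × F), (∀ p ∈ w, p.1 < D.nroots) → g * L.wd w * g⁻¹ =
      L.wd (w.map fun p => (D.reflectRoot i.val p.1, (C.T.eps i.val p.1 : F) * p.2)) := by
    intro w
    induction w with
    | nil => intro _; simp [Lifts.wd]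
    | cons p w ih =>
      intro hw
      have := ih fun q hq => hw q (List.mem_cons_of_mem _ hq)
      simp only [Lifts.wd, List.map_cons, List.prod_cons] at this ⊢
      rw [← conj_mul, this, L.conj_n i p.1 (hw p List.mem_cons_self) g hg]
  have hword : D.commWord F (D.reflectRoot i.val r) (D.reflectRoot i.val s)
      ((C.T.eps i.val r : F) * t) ((C.T.eps i.val s : F) * u) =
      (D.commWord F r s t u).map fun p =>
        (D.reflectRoot i.val p.1, (C.T.eps i.val p.1 : F) * p.2) := by
    simp only [ChevalleyDatum.commWord, C.hC.commTerms_reflect i.isLt hr hs', List.map_map,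
      Function.comp_def]
    refine List.map_congr_left fun c _ => ?_
    congr 1
    push_cast
    rw [show -((C.T.eps i.val r : F) * t) = (C.T.eps i.val r : F) * -t by ring, mul_pow, mul_pow]
    have a1 : ((C.T.eps i.val r : F)) ^ c.2.2.1 * (C.T.eps i.val r : F) ^ c.2.2.1 = 1 := by
      rw [← mul_pow, H52.Checked.eps_cast_mul_self, one_pow]
    have a2 : ((C.T.eps i.val s : F)) ^ c.2.2.2 * (C.T.eps i.val s : F) ^ c.2.2.2 = 1 := by
      rw [← mul_pow, H52.Checked.eps_cast_mul_self, one_pow]
    linear_combination ((C.T.eps i.val c.1 : F) * c.2.1 * (-t) ^ c.2.2.1 * u ^ c.2.2.2) * a1 +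
      ((C.T.eps i.val c.1 : F) * c.2.1 * (-t) ^ c.2.2.1 * u ^ c.2.2.2 *
        (C.T.eps i.val r : F) ^ c.2.2.1 * (C.T.eps i.val r : F) ^ c.2.2.1) * a2
  have h1 := h ((C.T.eps i.val r : F) * t) ((C.T.eps i.val s : F) * u)
  rw [hword, ← hwd _ hlt, ← L.conj_n i r hr g hg, ← L.conj_n i s hs' g hg, conj_mul, conj_mul,
    conj_mul] at h1
  exact mul_left_cancel (mul_right_cancel h1)

theorem Lifts.exact_run (hs : Function.Surjective π) :
    ∀ w : List ℕ, (∀ i ∈ w, i < D.rank) → ∀ {r s : ℕ}, r < D.nroots → s < D.nroots →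
      L.Exact (wordRun D r w) (wordRun D s w) →
        wordRun D r w < D.nroots ∧ wordRun D s w < D.nroots ∧ L.Exact r s := by
  intro w
  induction w with
  | nil => intro _ r s hr hs' h; exact ⟨hr, hs', h⟩
  | cons i w ih =>
    intro hw r s hr hs' h
    have hw' := fun j hj => hw j (List.mem_cons_of_mem _ hj)
    have hlt : ∀ {r : ℕ} (v : List ℕ), r < D.nroots → (∀ i ∈ v, i < D.rank) →
        wordRun D r v < D.nroots := by
      intro r v hr
      induction v with
      | nil => exact fun _ => hr
      | cons j v ihv =>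
        exact fun hv => C.hC.reflect_lt (hv j List.mem_cons_self)
          (ihv fun k hk => hv k (List.mem_cons_of_mem _ hk))
    refine ⟨hlt (i :: w) hr hw, hlt (i :: w) hs' hw, (ih hw' hr hs' ?_).2.2⟩
    exact L.exact_step hs ⟨i, hw i List.mem_cons_self⟩ (hlt w hr hw') (hlt w hs' hw') h

theorem Lifts.exact_pos (hc : π.ker ≤ center Γ) {r s : ℕ} (hr : r < D.nroots)
    (hs' : s < D.nroots) (hpr : D.nroots / 2 ≤ r) (hps : D.nroots / 2 ≤ s) (h1 : s ≠ r)
    (h2 : s ≠ D.neg r) : L.Exact r s := by
  have _ := hc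
  intro t u
  have hmem : ∀ {m : ℕ}, D.nroots / 2 ≤ m → m < D.nroots → ∀ v, L.X m v ∈ L.up (D.nroots / 2) :=
    fun h h' v => subset_closure ⟨_, h, h', v, rfl⟩
  have hw : ∀ p ∈ D.commWord F r s t u, p.1 ∈ tgt D r s ∧ p.1 < D.nroots := by
    intro p hp
    obtain ⟨c, hcm, rfl⟩ := List.mem_map.1 hp
    exact ⟨List.mem_cons_of_mem _ (List.mem_map_of_mem hcm), C.hC.commTerms_lt c hcm⟩
  rw [← mul_inv_eq_one]
  refine L.up_injective _ le_rfl ?_ ?_
  · refine mul_mem (mul_mem (hmem hps hs' u) (hmem hpr hr t))
      (inv_mem (mul_mem (mul_mem (hmem hpr hr t) (hmem hps hs' u))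
        (list_prod_mem fun g hg => ?_)))
    obtain ⟨p, hp, rfl⟩ := List.mem_map.1 hg
    rcases tgt_gt C hr hs' hpr hps (hw p hp).1 with e | e
    · rw [e]; exact hmem hps hs' _
    · exact hmem (by omega) (hw p hp).2 _
  · have hwd : π (L.wd (D.commWord F r s t u)) =
        ((D.commWord F r s t u).map fun p => xg C p.1 p.2).prod := by
      rw [Lifts.wd, map_list_prod, List.map_map]
      exact congrArg List.prod (List.map_congr_left fun p hp => L.proj p.1 (hw p hp).2 p.2)
    rw [map_mul, map_inv, mul_inv_eq_one, map_mul, map_mul, map_mul, hwd, L.proj r hr, L.proj s hs']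
    apply Subtype.ext
    simp only [Subgroup.coe_mul, SubmonoidClass.coe_list_prod, List.map_map]
    exact C.hC.comm_rt hr hs' h1 h2 t u

/-- The commutator formula holds for all pairs of roots. -/
theorem Lifts.exact (hs : Function.Surjective π) (hc : π.ker ≤ center Γ)
    (hpp : posPairOK D = true) : ∀ r < D.nroots, ∀ s < D.nroots, s ≠ r → s ≠ D.neg r →
      L.Exact r s := by
  refine root_top_rec C (fun r => ∀ s < D.nroots, s ≠ r → s ≠ D.neg r → L.Exact r s) ?_ ?_
  · intro r hr htop
    simp only [posPairOK, List.all_eq_true, List.mem_range, Bool.or_eq_true, Bool.and_eq_true,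
      Bool.not_eq_true', Nat.ble_eq, Nat.blt_eq, beq_iff_eq, List.any_eq_true] at hpp
    obtain ⟨hpr, hall⟩ := (hpp r hr).resolve_left (by simp [htop])
    suffices ∀ m s, D.nroots - s = m → s < D.nroots → s ≠ r → s ≠ D.neg r → L.Exact r s from
      fun s hs' => this _ s rfl hs'
    intro m
    induction m using Nat.strong_induction_on with
    | _ m ih =>
    intro s hm hs' h1 h2
    rcases hall s hs' with ((h | h) | ⟨i, hi, hfix, hlt⟩) | ⟨p, -, ⟨⟨-, hw⟩, hpr'⟩, hps'⟩
    · exact L.exact_pos hc hr hs' hpr h h1 h2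
    · exact absurd h h2
    · have hlt' := C.hC.reflect_lt hi hs'
      refine L.exact_step hs ⟨i, hi⟩ hr hs' ?_
      show L.Exact (D.reflectRoot i r) (D.reflectRoot i s)
      rw [hfix]
      refine ih (D.nroots - D.reflectRoot i s) (by omega) _ rfl hlt' ?_ ?_
      · have := ne_reflect C ⟨i, hi⟩ hr hs' h1; rwa [hfix] at this
      · have := ne_neg_reflect C ⟨i, hi⟩ hr hs' h2; rwa [hfix] at this
    · have hne : ∀ v : List ℕ, (∀ i ∈ v, i < D.rank) →
          wordRun D r v < D.nroots ∧ wordRun D s v < D.nroots ∧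
            wordRun D s v ≠ wordRun D r v ∧ wordRun D s v ≠ D.neg (wordRun D r v) := by
        intro v
        induction v with
        | nil => exact fun _ => ⟨hr, hs', h1, h2⟩
        | cons j v ihv =>
          intro hv
          obtain ⟨a, b, c, d⟩ := ihv fun k hk => hv k (List.mem_cons_of_mem _ hk)
          have hj := hv j List.mem_cons_self
          exact ⟨C.hC.reflect_lt hj a, C.hC.reflect_lt hj b, ne_reflect C ⟨j, hj⟩ a b c,
            ne_neg_reflect C ⟨j, hj⟩ a b d⟩
      obtain ⟨a, b, c, d⟩ := hne p.2 hw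
      exact (L.exact_run hs p.2 hw hr hs' (L.exact_pos hc a b hpr' hps' c d)).2.2
  · intro i r hr ih s hs' h1 h2
    exact L.exact_step hs i hr hs'
      (ih _ (C.hC.reflect_lt i.isLt hs') (ne_reflect C i hr hs' h1) (ne_neg_reflect C i hr hs' h2))

end H76.Exc
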