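import Cfsg.Agent.H76.ExcLift
import Cfsg.Agent.H98.SL2

/-!
A central extension of a Chevalley group generated by lifted root elements has its kernel in the
lifted torus.
-/

set_option autoImplicit false
set_option linter.unusedSectionVars false

namespace H76.Exc

open Cfsg.Lie Subgroup H53
open scoped commutatorElement

variable {D : ChevalleyDatum} {C : H54.Ctx D} {F : Type*} [Field F] {Γ : Type*} [Group Γ]
  {π : Γ →* ↥(D.group F)} (L : Lifts C π)

/-- The subgroup generated by the lifts. -/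
def Lifts.lifted : Subgroup Γ := closure {g | ∃ r, r < D.nroots ∧ ∃ t, g = L.X r t}

theorem Lifts.mem_lifted {r : ℕ} (hr : r < D.nroots) (t : F) : L.X r t ∈ L.lifted :=
  subset_closure ⟨r, hr, t, rfl⟩

/-- The lifts inside the subgroup they generate. -/
noncomputable def Lifts.restrict : Lifts C (π.comp L.lifted.subtype) where
  X r t := if hr : r < D.nroots then ⟨L.X r t, L.mem_lifted hr t⟩ else 1
  proj r hr t := by simp [hr, L.proj r hr]
  add r hr t u := by
    simp only [dif_pos hr]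
    exact Subtype.ext (L.add r hr t u)
  conj_n i r hr g hg t := by
    apply Subtype.ext
    simp only [dif_pos hr, dif_pos (C.hC.reflect_lt i.isLt hr), Subgroup.coe_mul, Subgroup.coe_inv]
    exact L.conj_n i r hr g hg t
  conj_h c r hr g hg t := by
    apply Subtype.ext
    simp only [dif_pos hr, Subgroup.coe_mul, Subgroup.coe_inv]
    exact L.conj_h c r hr g hg t
  good r hr s hs h1 h2 t u := by
    have h := L.good r hr s hs h1 h2 t u
    have hle : span L.X (tgt D r s) ≤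
        (span (fun r t => if hr : r < D.nroots then (⟨L.X r t, L.mem_lifted hr t⟩ : L.lifted) else 1)
          (tgt D r s)).map L.lifted.subtype := by
      refine (closure_le _).2 ?_
      rintro _ ⟨m, hm, v, rfl⟩
      exact ⟨_, subset_closure ⟨m, hm, v, rfl⟩, by simp [tgt_lt C hs hm]⟩
    obtain ⟨y, hy, e⟩ := hle h
    refine (congrArg (· ∈ span _ (tgt D r s)) ?_).mpr hy
    apply Subtype.ext
    simp only [dif_pos hr, dif_pos hs, Subgroup.coe_mul]
    exact e.symm

theorem Lifts.restrict_lifted : L.restrict.lifted = ⊤ := by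
  rw [eq_top_iff]
  rintro ⟨g, hg⟩ -
  suffices h : L.lifted ≤ L.restrict.lifted.map L.lifted.subtype by
    obtain ⟨y, hy, e⟩ := h hg
    rwa [show y = ⟨g, hg⟩ from Subtype.ext e] at hy
  refine (closure_le _).2 ?_
  rintro _ ⟨r, hr, t, rfl⟩
  exact ⟨_, L.restrict.mem_lifted hr t, by simp [Lifts.restrict, hr]⟩

/-- The lifts as a system of root elements. -/
def Lifts.sys' : ChevSys D F Γ := ⟨fun r t => L.X r.val t⟩

theorem Lifts.proj_nEl (i : Fin D.rank) (t : F) :
    π (ChevSys.nEl C.W L.sys' i t) = ChevSys.nEl C.W (matSys D F) i t := by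
  simp only [ChevSys.nEl, map_mul, Lifts.sys', L.proj _ (Fin.isLt _)]
  rfl

theorem Lifts.proj_hEl (i : Fin D.rank) (t : F) :
    π (ChevSys.hEl C.W L.sys' i t) = ChevSys.hEl C.W (matSys D F) i t := by
  simp only [ChevSys.hEl, map_mul, L.proj_nEl]

omit L in
theorem nEl_one (C : H54.Ctx D) (i : Fin D.rank) :
    ChevSys.nEl C.W (matSys D F) i 1 = ng C i := by
  refine Subtype.ext (Units.ext ?_)
  show _ = ((H53.nGL D (D.simple i.val) (1 : F) : GL D.Idx F) : Matrix D.Idx D.Idx F)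
  rw [H53.coe_nGL C.hC]
  exact H53.coe_nEl C.hC C.W i 1

omit L in
theorem hEl_tor (C : H54.Ctx D) (i : Fin D.rank) (t : Fˣ) :
    ChevSys.hEl C.W (matSys D F) i (t : F) = tor C (Pi.mulSingle i t) := by
  refine Subtype.ext (Units.ext ?_)
  rw [H53.coe_hEl C.hC]
  show _ = ((H52.torus D (Pi.mulSingle i t) : GL D.Idx F) : Matrix D.Idx D.Idx F)
  rw [← C.hC.hElt_simple_eq_torus, C.hC.coe_hElt]

theorem Lifts.rel (hgen : L.lifted = ⊤) : ChevSys.Rel C.W L.sys' where
  add r t u := L.add r.val r.isLt t u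
  conj_n i r := by
    refine ⟨(C.T.eps i.val r.val : F), eps_ne_zero C _ _, fun t => ?_⟩
    have := L.conj_n i r.val r.isLt (ChevSys.nEl C.W L.sys' i 1) (by rw [L.proj_nEl, nEl_one]) t
    rw [mul_inv_eq_iff_eq_mul] at this
    show _ * L.X r.val t = L.X (C.W.data.act i r).val _ * _
    rw [C.W.act_eq]
    exact this
  conj_h i r t ht u := by
    have := L.conj_h (Pi.mulSingle i (Units.mk0 t ht)) r.val r.isLt (ChevSys.hEl C.W L.sys' i t)
      (by rw [L.proj_hEl, ← hEl_tor C i (Units.mk0 t ht)]; rfl) u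
    rw [mul_inv_eq_iff_eq_mul, chi_mulSingle C, Units.val_zpow_eq_zpow_val, Units.val_mk0] at this
    exact this
  comm i r hr hne t u := by
    have hp := C.hC.simple_pos i.isLt
    have hsa : (ChevSys.sa C.W i).val = D.simple i.val := H53.sa_val C.hC C.W i
    have hne' : r.val ≠ D.simple i.val := fun e => hne (Fin.ext (e.trans hsa.symm))
    have hneg : r.val ≠ D.neg (D.simple i.val) := by
      rw [C.hC.neg_eq (C.hC.simple_lt i.isLt)]
      have := C.hC.nroots_eq
      omega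
    have h := L.good _ (C.hC.simple_lt i.isLt) r.val r.isLt hne' hneg (-t) u
    rw [neg_neg] at h
    show L.X (ChevSys.sa C.W i).val t * L.X r.val u * L.X (ChevSys.sa C.W i).val (-t) ∈ _
    rw [hsa]
    refine (closure_le _).2 ?_ h
    rintro _ ⟨m, hm, v, rfl⟩
    refine subset_closure ⟨⟨m, tgt_lt C r.isLt hm⟩, v, ?_, ?_, rfl⟩
    · rcases tgt_gt C (C.hC.simple_lt i.isLt) r.isLt hp hr hm with e | e
      · show D.nroots / 2 ≤ m; omega
      · show D.nroots / 2 ≤ m; omega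
    · intro e
      have e' : m = D.simple i.val := (congrArg Fin.val e).trans hsa
      rcases tgt_gt C (C.hC.simple_lt i.isLt) r.isLt hp hr hm with e2 | e2 <;> omega
  gen := by
    rw [← hgen, Lifts.lifted]
    congr 1
    ext g
    exact ⟨fun ⟨r, t, h⟩ => ⟨r.val, r.isLt, t, h⟩, fun ⟨r, hr, t, h⟩ => ⟨⟨r, hr⟩, t, h⟩⟩
  cartan_neg := (H53.chainOK_checked (F := F) C.hC C.W C.hok).cartan_neg

/-- The lifted subgroup of the positive roots from `k` on. -/
def Lifts.up (k : ℕ) : Subgroup Γ :=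
  closure {g | ∃ m, k ≤ m ∧ m < D.nroots ∧ ∃ v, g = L.X m v}

theorem Lifts.x_zero {r : ℕ} (hr : r < D.nroots) : L.X r 0 = 1 := by
  have h := L.add r hr 0 0
  rwa [add_zero, mul_eq_left] at h

theorem Lifts.x_inv {r : ℕ} (hr : r < D.nroots) (t : F) : (L.X r t)⁻¹ = L.X r (-t) :=
  inv_eq_of_mul_eq_one_right (by rw [L.add r hr, add_neg_cancel, L.x_zero hr])

theorem Lifts.up_normal {k : ℕ} (h : D.nroots / 2 ≤ k) (hk : k < D.nroots) (a : F) {g : Γ}
    (hg : g ∈ L.up (k + 1)) : (L.X k a)⁻¹ * g * L.X k a ∈ L.up (k + 1) := by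
  have hle : (L.up (k + 1)).map (MulAut.conj (L.X k a)⁻¹).toMonoidHom ≤ L.up (k + 1) := by
    rw [Lifts.up, MonoidHom.map_closure, closure_le]
    rintro _ ⟨_, ⟨m, hm, hm2, v, rfl⟩, rfl⟩
    show (L.X k a)⁻¹ * L.X m v * (L.X k a)⁻¹⁻¹ ∈ _
    rw [inv_inv, L.x_inv hk]
    have hne : m ≠ D.neg k := by
      rw [C.hC.neg_eq hk]; have := C.hC.nroots_eq; omega
    refine (closure_le _).2 ?_ (L.good k hk m hm2 (by omega) hne a v)
    rintro _ ⟨j, hj, w, rfl⟩
    refine subset_closure ⟨j, ?_, tgt_lt C hm2 hj, w, rfl⟩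
    rcases tgt_gt C hk hm2 h (by omega) hj with e | e <;> omega
  have := hle ⟨g, hg, rfl⟩
  simpa using this

theorem Lifts.up_split {k : ℕ} (h : D.nroots / 2 ≤ k) (hk : k < D.nroots) {g : Γ}
    (hg : g ∈ L.up k) : ∃ a : F, ∃ g' ∈ L.up (k + 1), g = L.X k a * g' := by
  induction hg using Subgroup.closure_induction with
  | mem g hg =>
    obtain ⟨m, hm, hm2, u, rfl⟩ := hg
    by_cases hkm : m = k
    · subst hkm; exact ⟨u, 1, one_mem _, by simp⟩
    · exact ⟨0, L.X m u, subset_closure ⟨m, by omega, hm2, u, rfl⟩, by simp [L.x_zero hk]⟩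
  | one => exact ⟨0, 1, one_mem _, by simp [L.x_zero hk]⟩
  | mul x y _ _ hx hy =>
    obtain ⟨a, x', hx', rfl⟩ := hx
    obtain ⟨b, y', hy', rfl⟩ := hy
    refine ⟨a + b, ((L.X k b)⁻¹ * x' * L.X k b) * y', mul_mem (L.up_normal h hk b hx') hy', ?_⟩
    rw [← L.add k hk]; group
  | inv x _ hx =>
    obtain ⟨a, x', hx', rfl⟩ := hx
    refine ⟨-a, (L.X k (-a))⁻¹ * x'⁻¹ * L.X k (-a), L.up_normal h hk (-a) (inv_mem hx'), ?_⟩
    rw [← L.x_inv hk]; group

theorem Lifts.up_injective (k : ℕ) (h : D.nroots / 2 ≤ k) {g : Γ} (hg : g ∈ L.up k)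
    (h1 : π g = 1) : g = 1 := by
  by_cases hk : k < D.nroots
  · obtain ⟨a, g', hg', rfl⟩ := L.up_split h hk hg
    have hG : ∀ y ∈ L.up (k + 1), ((π y : ↥(D.group F)) : GL D.Idx F) ∈ H52.upper D F (k + 1) := by
      intro y hy
      have : L.up (k + 1) ≤ (H52.upper D F (k + 1)).comap ((D.group F).subtype.comp π) := by
        refine (closure_le _).2 ?_
        rintro _ ⟨m, hm, hm2, v, rfl⟩
        show ((π (L.X m v) : ↥(D.group F)) : GL D.Idx F) ∈ H52.upper D F (k + 1)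
        rw [L.proj m hm2]
        exact H52.Checked.rt_mem_upper hm hm2 v
      exact this hy
    rw [map_mul, L.proj k hk] at h1
    have ha : a = 0 := by
      refine C.hC.rt_mem_upper_succ h hk ?_
      have := congrArg Subtype.val (eq_inv_of_mul_eq_one_left h1)
      show H52.rt D k a ∈ _
      rw [show H52.rt D k a = ((π g')⁻¹ : ↥(D.group F)) from this, Subgroup.coe_inv]
      exact inv_mem (hG g' hg')
    subst ha
    rw [xg_zero, one_mul] at h1
    rw [L.x_zero hk, one_mul]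
    exact Lifts.up_injective (k + 1) (by omega) hg' h1
  · have : L.up k = ⊥ := by
      rw [Lifts.up, closure_eq_bot_iff]
      rintro _ ⟨m, hm, hm2, -⟩
      omega
    rw [this, Subgroup.mem_bot] at hg
    exact hg
termination_by D.nroots - k
decreasing_by omega

section generated

variable (hc : π.ker ≤ center Γ) (hgen : L.lifted = ⊤)
include hc hgen

/-- The system of root subgroups of the lifts. -/
local notation "S₀" => ChevSys.sys C.W (Lifts.sys' L)

theorem Lifts.Uplus_injective {g : Γ} (hg : g ∈ (S₀).Uplus) (h : π g = 1) : g = 1 := by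
  refine L.up_injective _ le_rfl ?_ h
  refine (closure_le _).2 ?_ hg
  rintro x ⟨r, hr, hx⟩
  obtain ⟨t, rfl⟩ := (ChevSys.mem_Usub (L.rel hgen)).1 hx
  exact subset_closure ⟨r.val, hr, r.isLt, t, rfl⟩

theorem Lifts.map_U (r : Fin D.nroots) : ((S₀).U r).map π = (H53.grpSys C.W F).U r := by
  show (ChevSys.Usub L.sys' r).map π = ChevSys.Usub (matSys D F) r
  rw [ChevSys.Usub, ChevSys.Usub, MonoidHom.map_closure]
  congr 1
  ext g
  constructor
  · rintro ⟨_, ⟨t, rfl⟩, rfl⟩; exact ⟨t, (L.proj r.val r.isLt t).symm⟩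
  · rintro ⟨t, rfl⟩; exact ⟨_, ⟨t, rfl⟩, L.proj r.val r.isLt t⟩

theorem Lifts.map_closureU (P : Fin D.nroots → Prop) {g : Γ}
    (hg : g ∈ closure {g | ∃ r, P r ∧ g ∈ (S₀).U r}) :
    π g ∈ closure {g | ∃ r, P r ∧ g ∈ (H53.grpSys C.W F).U r} := by
  have : (closure {g | ∃ r, P r ∧ g ∈ (S₀).U r}).map π ≤
      closure {g | ∃ r, P r ∧ g ∈ (H53.grpSys C.W F).U r} := by
    rw [MonoidHom.map_closure, closure_le]
    rintro _ ⟨y, ⟨r, hr, hy⟩, rfl⟩
    exact subset_closure ⟨r, hr, L.map_U hc hgen r ▸ mem_map_of_mem π hy⟩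
  exact this (mem_map_of_mem π hg)

theorem Lifts.map_H {g : Γ} (hg : g ∈ (S₀).H) : π g ∈ (H53.grpSys C.W F).H := by
  have : ((S₀).H).map π ≤ (H53.grpSys C.W F).H := by
    show (ChevSys.Hsub C.W L.sys').map π ≤ ChevSys.Hsub C.W (matSys D F)
    rw [ChevSys.Hsub, MonoidHom.map_closure, closure_le]
    rintro _ ⟨_, ⟨i, t, ht, rfl⟩, rfl⟩
    exact subset_closure ⟨i, t, ht, L.proj_hEl i t⟩
  exact this (mem_map_of_mem π hg)

theorem Lifts.map_N {g : Γ} (hg : g ∈ (S₀).N) : π g ∈ (H53.grpSys C.W F).N := by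
  have : ((S₀).N).map π ≤ (H53.grpSys C.W F).N := by
    rw [RootGroupSys.N, Subgroup.map_sup]
    refine sup_le ?_ ?_
    · rintro _ ⟨y, hy, rfl⟩
      exact RootGroupSys.H_le_N (L.map_H hc hgen hy)
    · rw [MonoidHom.map_closure, closure_le]
      rintro _ ⟨_, ⟨i, rfl⟩, rfl⟩
      show π (ChevSys.nEl C.W L.sys' i 1) ∈ _
      rw [L.proj_nEl]
      exact RootGroupSys.n_mem_N (S := H53.grpSys C.W F) i
  exact this (mem_map_of_mem π hg)

theorem Lifts.map_B {g : Γ} (hg : g ∈ (S₀).B) : π g ∈ (H53.grpSys C.W F).B := by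
  obtain ⟨u, hu, h, hh, rfl⟩ := RootGroupSys.mem_B (ChevSys.axioms (L.rel hgen)) hg
  rw [map_mul]
  exact mul_mem (RootGroupSys.Uplus_le_B (L.map_closureU hc hgen _ hu))
    (RootGroupSys.H_le_B (L.map_H hc hgen hh))

theorem Lifts.map_acts {g : Γ} {p : Equiv.Perm (Fin D.nroots)} (hg : (S₀).Acts g p) :
    (H53.grpSys C.W F).Acts (π g) p := by
  refine ⟨hg.1, fun r => ?_⟩
  rw [← L.map_U hc hgen (p r), ← hg.2 r, ← L.map_U hc hgen r, Subgroup.map_map, Subgroup.map_map]
  congr 1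
  ext x
  simp

omit hc in
theorem Lifts.exists_acts_perm {p : Equiv.Perm (Fin D.nroots)} (hp : p ∈ (S₀).W) :
    ∃ g, (S₀).Acts g p := by
  induction hp using Subgroup.closure_induction with
  | mem x hx => obtain ⟨i, rfl⟩ := hx; exact ⟨_, RootGroupSys.acts_n (ChevSys.axioms (L.rel hgen)) i⟩
  | one => exact ⟨1, RootGroupSys.acts_one⟩
  | mul x y _ _ hx hy =>
    obtain ⟨a, ha⟩ := hx; obtain ⟨b, hb⟩ := hy; exact ⟨a * b, RootGroupSys.acts_mul ha hb⟩
  | inv x _ hx => obtain ⟨a, ha⟩ := hx; exact ⟨a⁻¹, RootGroupSys.acts_inv ha⟩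

theorem Lifts.longest : ∃ p ∈ (S₀).W, ∀ r : Fin D.nroots, (S₀).pos r → ¬ (S₀).pos (p r) := by
  classical
  have hS := ChevSys.axioms (L.rel hgen)
  obtain ⟨p, hp, hmax⟩ := (Finset.univ.filter fun p : Equiv.Perm (Fin D.nroots) => p ∈ (S₀).W).exists_max_image
    (fun p => (Finset.univ.filter fun r => (S₀).pos r ∧ ¬ (S₀).pos (p r)).card) ⟨1, by simp⟩
  simp only [Finset.mem_filter, Finset.mem_univ, true_and] at hp hmax
  refine ⟨p, hp, fun r hr hpr => ?_⟩
  obtain ⟨i, hi⟩ := C.W.ascent hp ⟨r, hr, hpr⟩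
  have hlt : (Finset.univ.filter fun r => (S₀).pos r ∧ ¬ (S₀).pos (p r)).card <
      (Finset.univ.filter fun r => (S₀).pos r ∧ ¬ (S₀).pos ((p * (S₀).σ i) r)).card := by
    rw [← Finset.card_image_of_injective _ ((S₀).σ i).injective]
    apply Finset.card_lt_card
    rw [Finset.ssubset_iff_of_subset]
    · refine ⟨(S₀).a i, ?_, ?_⟩
      · refine Finset.mem_filter.2 ⟨Finset.mem_univ _, hS.pos_a i, ?_⟩
        rw [Equiv.Perm.mul_apply, hS.sigma_a, RootGroupSys.W_neg hS hp, hS.pos_neg, not_not]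
        exact hi
      · simp only [Finset.mem_image, Finset.mem_filter, Finset.mem_univ, true_and, not_exists,
          not_and]
        intro r hr he
        by_cases hne : r = (S₀).a i
        · subst hne; exact hr.2 hi
        · exact RootGroupSys.sigma_ne_a hS hr.1 hne he
    · intro z hz
      simp only [Finset.mem_image, Finset.mem_filter, Finset.mem_univ, true_and] at hz ⊢
      obtain ⟨r, ⟨hr, hr'⟩, rfl⟩ := hz
      have hne : r ≠ (S₀).a i := fun e => hr' (e ▸ hi)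
      refine ⟨hS.sigma_pos i r hr hne, ?_⟩
      rw [Equiv.Perm.mul_apply, hS.sigma_sigma]
      exact hr'
  exact (hmax _ (mul_mem hp (subset_closure ⟨i, rfl⟩))).not_gt hlt

theorem Lifts.sep : RootGroupSys.Sep (S₀) where
  U_N := by
    rw [eq_bot_iff]
    rintro g ⟨hu, hn⟩
    rw [Subgroup.mem_bot]
    refine L.Uplus_injective hc hgen hu ?_
    have : π g ∈ (H53.grpSys C.W F).Uplus ⊓ (H53.grpSys C.W F).N :=
      ⟨L.map_closureU hc hgen _ hu, L.map_N hc hgen hn⟩
    rwa [C.sep.U_N, Subgroup.mem_bot] at this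
  B_V := by
    rw [eq_bot_iff]
    rintro g ⟨hb, hv⟩
    rw [Subgroup.mem_bot]
    have h1 : π g = 1 := by
      have : π g ∈ (H53.grpSys C.W F).B ⊓ (H53.grpSys C.W F).Uminus :=
        ⟨L.map_B hc hgen hb, L.map_closureU hc hgen _ hv⟩
      rwa [C.sep.B_V, Subgroup.mem_bot] at this
    obtain ⟨p, hp, hneg⟩ := L.longest hc hgen
    obtain ⟨w, hw⟩ := L.exists_acts_perm hgen hp
    have hS := ChevSys.axioms (L.rel hgen)
    have : ((S₀).Uminus).map (MulAut.conj w).toMonoidHom ≤ (S₀).Uplus := by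
      rw [RootGroupSys.Uminus, MonoidHom.map_closure, closure_le]
      rintro _ ⟨y, ⟨r, hr, hy⟩, rfl⟩
      refine RootGroupSys.U_le_Uplus ?_ (RootGroupSys.acts_conj_mem hw hy)
      have h2 := hneg _ ((hS.pos_neg r).2 hr)
      rw [RootGroupSys.W_neg hS hp, hS.pos_neg, not_not] at h2
      exact h2
    have hz : MulAut.conj w g = g := by
      rw [MulAut.conj_apply, mem_center_iff.1 (hc h1) w, mul_inv_cancel_right]
    refine L.Uplus_injective hc hgen ?_ h1
    rw [← hz]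
    exact this (mem_map_of_mem _ hv)
  U_ne r h := by
    refine (C.sep (F := F)).U_ne r ?_
    rw [← L.map_U hc hgen r, h, Subgroup.map_bot]
  a_inj := C.sep (F := F) |>.a_inj
  fix p hp h := C.W.fix hp h

/-- The kernel lies in the lifted torus. -/
theorem Lifts.ker_le_Hsub {z : Γ} (hz : π z = 1) : z ∈ (S₀).H := by
  have hS := ChevSys.axioms (L.rel hgen)
  have hSep := L.sep hc hgen
  obtain ⟨b, hb, w, hw, p, hp, u, hu, rfl⟩ := RootGroupSys.exists_normal_form hS z
  have hS0 := C.axioms (F := F)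
  have hSep0 := C.sep (F := F)
  have hp0 := L.map_acts hc hgen hp
  have he : (1 : ↥(D.group F)) * 1 * 1 = π b * π w * π u := by
    rw [← map_mul, ← map_mul, hz, mul_one, mul_one]
  have huG : π u ∈ (H53.grpSys C.W F).Uinv p := by
    have hu' : u ∈ closure {g | ∃ r, ((S₀).pos r ∧ ¬ (S₀).pos (p r)) ∧ g ∈ (S₀).U r} := by
      refine Subgroup.closure_mono ?_ hu
      rintro x ⟨r, hr, hr', hx⟩
      exact ⟨r, ⟨hr, hr'⟩, hx⟩
    refine Subgroup.closure_mono ?_ (L.map_closureU hc hgen _ hu')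
    rintro x ⟨r, ⟨hr, hr'⟩, hx⟩
    exact ⟨r, hr, hr', hx⟩
  have h1 := (RootGroupSys.normal_form_unique hS0 hSep0 (one_mem _) (L.map_N hc hgen hw)
    RootGroupSys.acts_one hp0 (one_mem _) (L.map_B hc hgen hb) (one_mem _) huG he).1
  rw [inv_one, one_mul] at h1
  obtain rfl : p = 1 := RootGroupSys.acts_unique hS0 hSep0 hp0 (RootGroupSys.acts_H hS0 h1)
  have hu1 : u = 1 := by
    have : (S₀).Uinv (1 : Equiv.Perm (Fin D.nroots)) = ⊥ := by
      rw [RootGroupSys.Uinv, closure_eq_bot_iff]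
      rintro x ⟨r, hr, hr', -⟩
      exact absurd hr hr'
    rwa [this, Subgroup.mem_bot] at hu
  subst hu1
  have hwH := RootGroupSys.mem_H_of_acts_one hS hSep hw hp
  obtain ⟨u₀, hu₀, h, hh, rfl⟩ := RootGroupSys.mem_B hS hb
  have hu₀1 : u₀ = 1 := by
    refine L.Uplus_injective hc hgen hu₀ ?_
    have h2 : π u₀ ∈ (H53.grpSys C.W F).Uplus ⊓ (H53.grpSys C.W F).N := by
      refine Subgroup.mem_inf.2 ⟨L.map_closureU hc hgen _ hu₀, ?_⟩
      have e : π u₀ = (π (h * w))⁻¹ := by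
        apply eq_inv_of_mul_eq_one_left
        rw [← map_mul, ← mul_assoc]; simpa using hz
      rw [e]
      exact inv_mem (L.map_N hc hgen (mul_mem (RootGroupSys.H_le_N hh) hw))
    rwa [hSep0.U_N, Subgroup.mem_bot] at h2
  subst hu₀1
  rw [one_mul, mul_one]
  exact mul_mem hh hwH

end generated

end H76.Exc
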