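import Cfsg.Agent.H76.ExcBase

/-!
Canonical lifts of root elements to central extensions of Chevalley groups, by the torus.
-/

set_option autoImplicit false
set_option linter.unusedSectionVars false

namespace H76.Exc

open Cfsg.Lie Subgroup
open scoped commutatorElement

variable {D : ChevalleyDatum} (C : H54.Ctx D) {F : Type*} [Field F] {Γ : Type*} [Group Γ]
  (π : Γ →* ↥(D.group F))

/-- Any lifts of elements of `X_r` and `X_s` commute. -/
def CommLift (r s : ℕ) : Prop :=
  ∀ (a b : Γ) (t u : F), π a = xg C r t → π b = xg C s u → Commute a b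

/-- The subgroup generated by given lifted root subgroups. -/
def span (X : ℕ → F → Γ) (L : List ℕ) : Subgroup Γ := closure {g | ∃ m ∈ L, ∃ v, g = X m v}

/-- The commutator relation up to the generated subgroup. -/
def Good (D : ChevalleyDatum) (X : ℕ → F → Γ) (r s : ℕ) : Prop :=
  ∀ t u : F, X r (-t) * X s u * X r t ∈ span X (tgt D r s)

/-- Lifted root elements with the relations of the group. -/
structure Lifts where
  X : ℕ → F → Γ
  proj : ∀ r < D.nroots, ∀ t, π (X r t) = xg C r t
  add : ∀ r < D.nroots, ∀ t u, X r t * X r u = X r (t + u)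
  conj_n : ∀ (i : Fin D.rank), ∀ r < D.nroots, ∀ g, π g = ng C i → ∀ t,
    g * X r t * g⁻¹ = X (D.reflectRoot i.val r) ((C.T.eps i.val r : F) * t)
  conj_h : ∀ (c : Fin D.rank → Fˣ), ∀ r < D.nroots, ∀ g, π g = tor C c → ∀ t,
    g * X r t * g⁻¹ = X r ((chi D c r : F) * t)
  good : ∀ r < D.nroots, ∀ s < D.nroots, s ≠ r → s ≠ D.neg r → Good D X r s

variable {C π} (hs : Function.Surjective π) (hc : π.ker ≤ center Γ)
include hs hc

theorem commLift_of_reflect (i : Fin D.rank) {r s : ℕ} (hr : r < D.nroots) (hs' : s < D.nroots)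
    (h : CommLift C π (D.reflectRoot i.val r) (D.reflectRoot i.val s)) : CommLift C π r s := by
  intro a b t u ha hb
  obtain ⟨g, hg⟩ := hs (ng C i)
  have := h (g * a * g⁻¹) (g * b * g⁻¹) ((C.T.eps i.val r : F) * t) ((C.T.eps i.val s : F) * u)
    (by rw [map_mul, map_mul, map_inv, ha, hg, ng_conj C i hr])
    (by rw [map_mul, map_mul, map_inv, hb, hg, ng_conj C i hs'])
  exact (Commute.conj_iff g).1 this

theorem commLift_of_decomp {N r k : ℕ} (hN : ∀ n : ℕ, 1 ≤ n → n ≤ N → (n : F) ≠ 0)
    (hr : r < D.nroots) (h : decompOK D N r k = true) : CommLift C π r k := by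
  obtain ⟨a, b, -, -, hcm, hdec⟩ := decompOK_spec C hN hr h
  intro x y t u hx hy
  obtain ⟨v, hv⟩ := hdec u
  obtain ⟨A, hA⟩ := hs (xg C a v)
  obtain ⟨B, hB⟩ := hs (xg C b (-1 : F))
  have hy' : π y = π ⁅B, A⁆ := by rw [map_commutatorElement, hA, hB, hy, hv]
  have hz : ⁅B, A⁆⁻¹ * y ∈ center Γ := hc (by
    rw [MonoidHom.mem_ker, map_mul, map_inv, ← hy', inv_mul_cancel])
  have e : x * ⁅B, A⁆ * x⁻¹ = ⁅B, A⁆ := by
    rw [conjugate_commutatorElement]
    refine Cover.comm_congr π hc ?_ ?_
    · rw [map_mul, map_mul, map_inv, hx, hB, mul_inv_eq_iff_eq_mul]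
      exact (hcm t (-1)).2.eq
    · rw [map_mul, map_mul, map_inv, hx, hA, mul_inv_eq_iff_eq_mul]
      exact (hcm t v).1.eq
  rw [← mul_inv_cancel_left ⁅B, A⁆ y]
  exact Commute.mul_right (mul_inv_eq_iff_eq_mul.1 e) (mem_center_iff.1 hz x)

theorem commLift_self_of_top (h : ∀ r < D.nroots, topRoot D r = true → CommLift C π r r) :
    ∀ r < D.nroots, CommLift C π r r :=
  root_top_rec C (fun r => CommLift C π r r) h fun i _ hr h => commLift_of_reflect hs hc i hr hr h

/-- If the torus scales a root subgroup by some `c` and by `c + 1` with `c² + c + 1 ≠ 0`, it lifts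
to an abelian group. -/
theorem commLift_self_of_elt {r : ℕ} (hr : r < D.nroots) {c : F} (hc0 : c ≠ 0) (hc1 : c + 1 ≠ 0)
    (hc2 : c * c + c + 1 ≠ 0) (hcd : ∃ d : Fin D.rank → Fˣ, (chi D d r : F) = c)
    (hcd' : ∃ d : Fin D.rank → Fˣ, (chi D d r : F) = c + 1) :
    CommLift C π r r := by
  classical
  choose lf hlf using fun t : F => hs (xg C r t)
  let B : F → F → Γ := fun t u => ⁅lf t, lf u⁆
  have hB : ∀ t u, B t u ∈ center Γ := fun t u => hc (by
    rw [MonoidHom.mem_ker, map_commutatorElement, hlf, hlf, commutatorElement_eq_one_iff_commute,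
      commute_iff_eq, xg_add, xg_add, add_comm])
  have hl : ∀ t t' u, B (t + t') u = B t' u * B t u := by
    intro t t' u
    show ⁅lf (t + t'), lf u⁆ = _
    rw [Cover.comm_congr π hc (x' := lf t * lf t') (y' := lf u)
        (by rw [map_mul, hlf, hlf, hlf, xg_add]) rfl,
      commutatorElement_mul_left_eq_conj_mul, mem_center_iff.1 (hB t' u) (lf t),
      mul_inv_cancel_right]
  have hr' : ∀ t u u', B t (u + u') = B t u * B t u' := by
    intro t u u'
    show ⁅lf t, lf (u + u')⁆ = _
    rw [Cover.comm_congr π hc (x' := lf t) (y' := lf u * lf u') rfl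
        (by rw [map_mul, hlf, hlf, hlf, xg_add]),
      commutatorElement_mul_right_eq_mul_conj, mul_assoc ⁅lf t, lf u⁆,
      mem_center_iff.1 (hB t u') (lf u), ← mul_assoc, mul_inv_cancel_right]
  have hinv : ∀ a : F, (∃ d : Fin D.rank → Fˣ, (chi D d r : F) = a) → ∀ t u, B (a * t) (a * u) = B t u := by
    intro a ha t u
    obtain ⟨d, hd⟩ := ha
    obtain ⟨g, hg⟩ := hs (tor C d)
    show ⁅lf _, lf _⁆ = _
    rw [Cover.comm_congr π hc (x' := g * lf t * g⁻¹) (y' := g * lf u * g⁻¹)
      (by rw [map_mul, map_mul, map_inv, hlf, hlf, hg, tor_conj C d hr, hd])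
      (by rw [map_mul, map_mul, map_inv, hlf, hlf, hg, tor_conj C d hr, hd]),
      ← conjugate_commutatorElement, mem_center_iff.1 (hB t u) g, mul_inv_cancel_right]
  intro a b t v ha hb
  refine commutatorElement_eq_one_iff_commute.1 ?_
  rw [Cover.comm_congr π hc (x' := lf t) (y' := lf v) (by rw [ha, hlf]) (by rw [hb, hlf])]
  show B t v = 1
  obtain ⟨u, hu⟩ : ∃ u, v = c⁻¹ * u + c * u + u :=
    ⟨v / (c⁻¹ + c + 1), by
      have : c⁻¹ + c + 1 ≠ 0 := by
        intro e; apply hc2
        field_simp at e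
        linear_combination e
      linear_combination -(mul_div_cancel₀ v this)⟩
  have e1 : B (c * t + t) (c * u + u) = B t u := by
    rw [show c * t + t = (c + 1) * t by ring, show c * u + u = (c + 1) * u by ring]
    exact hinv _ hcd' t u
  have e2 : B t (c⁻¹ * u) = B (c * t) u := by
    conv_rhs => rw [show u = c * (c⁻¹ * u) by field_simp]
    rw [hinv c hcd]
  rw [hl, hr', hr', hinv c hcd] at e1
  rw [hu, hr', hr', e2]
  have z := fun x y => mem_center_iff.1 (hB x y)
  have h3 : B t (c * u) * B t u * B (c * t) u = 1 := by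
    refine mul_right_cancel (b := B t u) ?_
    rw [one_mul, mul_assoc _ (B (c * t) u), ← z (c * t) u (B t u)]
    exact e1
  rw [z (c * t) u (B t (c * u)) |>.symm] 
  rw [mul_assoc (B t (c * u)), ← z (c * t) u (B t u), ← mul_assoc]
  exact h3

/-- With five elements and the full torus acting, a root subgroup lifts to an abelian group. -/
theorem commLift_self_of_five [Fintype F] {r : ℕ} (hr : r < D.nroots) (hq : 5 ≤ Fintype.card F)
    (hfull : ∀ z : Fˣ, ∃ c, chi D c r = z) : CommLift C π r r := by
  classical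
  obtain ⟨c, hc0, hc1, hc2⟩ : ∃ c : F, c ≠ 0 ∧ c + 1 ≠ 0 ∧ c * c + c + 1 ≠ 0 := by
    by_contra hcon
    push Not at hcon
    let p : Polynomial F := Polynomial.X * (Polynomial.X + 1) * (Polynomial.X ^ 2 + Polynomial.X + 1)
    have hm : p.Monic := by
      simp only [p]; monicity!
    have hdeg : p.natDegree ≤ 4 := by simp only [p]; compute_degree
    have hroots : ∀ x : F, x ∈ p.roots := fun x => by
      rw [Polynomial.mem_roots hm.ne_zero]
      simp only [Polynomial.IsRoot, p, Polynomial.eval_mul, Polynomial.eval_add, Polynomial.eval_X,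
        Polynomial.eval_one, Polynomial.eval_pow]
      by_cases h0 : x = 0
      · simp [h0]
      by_cases h1 : x + 1 = 0
      · simp [h1]
      rw [pow_two, hcon x h0 h1, mul_zero]
    have h5 : Fintype.card F ≤ p.roots.toFinset.card :=
      Finset.card_le_card (s := Finset.univ) fun x _ => Multiset.mem_toFinset.2 (hroots x)
    have := p.card_roots'
    have := Multiset.toFinset_card_le p.roots
    omega
  obtain ⟨d, hd⟩ := hfull (Units.mk0 c hc0)
  obtain ⟨d', hd'⟩ := hfull (Units.mk0 (c + 1) hc1)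
  exact commLift_self_of_elt hs hc hr hc0 hc1 hc2 ⟨d, by rw [hd, Units.val_mk0]⟩
    ⟨d', by rw [hd', Units.val_mk0]⟩

section torus

variable (hS : ∀ r < D.nroots, CommLift C π r r)

omit hc in
variable (C) in
/-- The torus commutator giving the lift of a root element. -/
noncomputable def torLift (c : Fin D.rank → Fˣ) (r : ℕ) (t : F) : Γ :=
  ⁅Function.surjInv hs (tor C c),
    Function.surjInv hs (xg C r (t / ((chi D c r : F) - 1)))⁆

theorem torLift_proj (c : Fin D.rank → Fˣ) {r : ℕ} (hr : r < D.nroots) (h : chi D c r ≠ 1)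
    (t : F) : π (torLift C hs c r t) = xg C r t := by
  have h' : (chi D c r : F) - 1 ≠ 0 := sub_ne_zero.2 (fun e => h (Units.ext e))
  rw [torLift, map_commutatorElement, Function.surjInv_eq hs, Function.surjInv_eq hs,
    commutatorElement_def, tor_conj C c hr, xg_inv, xg_add]
  congr 1
  field_simp
  ring

theorem torLift_equiv (c c' : Fin D.rank → Fˣ) {r : ℕ} (hr : r < D.nroots) (g : Γ)
    (hg : π g = tor C c') (t : F) :
    g * torLift C hs c r t * g⁻¹ = torLift C hs c r ((chi D c' r : F) * t) := by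
  rw [torLift, torLift, conjugate_commutatorElement]
  refine Cover.comm_congr π hc ?_ ?_
  · rw [map_mul, map_mul, map_inv, hg, Function.surjInv_eq hs, tor_comm, mul_inv_cancel_right]
  · rw [map_mul, map_mul, map_inv, hg, Function.surjInv_eq hs, Function.surjInv_eq hs, tor_conj C c' hr,
      mul_div_assoc]

include hS

theorem torLift_add (c : Fin D.rank → Fˣ) {r : ℕ} (hr : r < D.nroots) (h : chi D c r ≠ 1)
    (t u : F) : torLift C hs c r t * torLift C hs c r u = torLift C hs c r (t + u) := by
  set a := Function.surjInv hs (tor C c)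
  set d := (chi D c r : F) - 1
  set bt := Function.surjInv hs (xg C r (t / d))
  set bu := Function.surjInv hs (xg C r (u / d))
  have e : torLift C hs c r (t + u) = ⁅a, bt * bu⁆ := Cover.comm_congr π hc rfl
    (by rw [map_mul, Function.surjInv_eq hs, Function.surjInv_eq hs, Function.surjInv_eq hs, xg_add,
      add_div])
  have hcm : Commute bt ⁅a, bu⁆ :=
    hS r hr _ _ _ _ (Function.surjInv_eq hs _) (torLift_proj hs hc c hr h u)
  rw [e, commutatorElement_mul_right_eq_mul_conj, mul_assoc ⁅a, bt⁆, hcm.eq, ← mul_assoc,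
    mul_inv_cancel_right]
  rfl

theorem torLift_indep (c c' : Fin D.rank → Fˣ) {r : ℕ} (hr : r < D.nroots) (h : chi D c r ≠ 1)
    (h' : chi D c' r ≠ 1) (t : F) : torLift C hs c r t = torLift C hs c' r t := by
  set d := (chi D c' r : F) - 1 with hd
  have hd0 : d ≠ 0 := sub_ne_zero.2 (fun e => h' (Units.ext e))
  set a' := Function.surjInv hs (tor C c')
  have e1 : ⁅a', torLift C hs c r (t / d)⁆ = torLift C hs c' r t :=
    Cover.comm_congr π hc rfl
      (by rw [torLift_proj hs hc c hr h, Function.surjInv_eq hs])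
  rw [← e1, commutatorElement_def, torLift_equiv hs hc c c' hr a' (Function.surjInv_eq hs _),
    show ((chi D c' r : F) * (t / d)) = t + t / d by
      rw [show (chi D c' r : F) = d + 1 by rw [hd]; ring]; field_simp,
    ← torLift_add hs hc hS c hr h, mul_inv_cancel_right]

omit hc hS in
variable (C) in
open Classical in
/-- The lifted root element. -/
noncomputable def torX (r : ℕ) (t : F) : Γ :=
  if h : ∃ c : Fin D.rank → Fˣ, chi D c r ≠ 1 then torLift C hs h.choose r t else 1

variable (hU : ∀ r < D.nroots, ∃ c : Fin D.rank → Fˣ, chi D c r ≠ 1)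
include hU

theorem torX_eq {r : ℕ} (hr : r < D.nroots) {c : Fin D.rank → Fˣ} (h : chi D c r ≠ 1) (t : F) :
    torX C hs r t = torLift C hs c r t := by
  rw [torX, dif_pos (hU r hr)]
  exact torLift_indep hs hc hS _ c hr (hU r hr).choose_spec h t

theorem torX_proj {r : ℕ} (hr : r < D.nroots) (t : F) : π (torX C hs r t) = xg C r t := by
  obtain ⟨c, h⟩ := hU r hr
  rw [torX_eq hs hc hS hU hr h, torLift_proj hs hc c hr h]

theorem torX_add {r : ℕ} (hr : r < D.nroots) (t u : F) :
    torX C hs r t * torX C hs r u = torX C hs r (t + u) := by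
  obtain ⟨c, h⟩ := hU r hr
  simp only [torX_eq hs hc hS hU hr h]
  exact torLift_add hs hc hS c hr h t u

theorem torX_conj_h (c : Fin D.rank → Fˣ) {r : ℕ} (hr : r < D.nroots) (g : Γ)
    (hg : π g = tor C c) (t : F) :
    g * torX C hs r t * g⁻¹ = torX C hs r ((chi D c r : F) * t) := by
  obtain ⟨d, h⟩ := hU r hr
  simp only [torX_eq hs hc hS hU hr h]
  exact torLift_equiv hs hc d c hr g hg t

theorem torX_conj_n (i : Fin D.rank) {r : ℕ} (hr : r < D.nroots) (g : Γ) (hg : π g = ng C i)
    (t : F) : g * torX C hs r t * g⁻¹ =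
      torX C hs (D.reflectRoot i.val r) ((C.T.eps i.val r : F) * t) := by
  obtain ⟨c, h⟩ := hU r hr
  obtain ⟨c', hc'⟩ := ng_tor C i c
  have hr' := C.hC.reflect_lt i.isLt hr
  have he : (C.T.eps i.val r : F) ≠ 0 := eps_ne_zero C i r
  have hchi : (chi D c' (D.reflectRoot i.val r) : F) = chi D c r := by
    have e : tor C c' * xg C (D.reflectRoot i.val r) ((C.T.eps i.val r : F) * 1) * (tor C c')⁻¹ =
        xg C (D.reflectRoot i.val r) ((C.T.eps i.val r : F) * ((chi D c r : F) * 1)) := by
      rw [← hc', ← ng_conj C i hr, ← ng_conj C i hr, ← tor_conj C c hr]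
      group
    rw [tor_conj C c' hr'] at e
    have := xg_inj C hr' e
    rw [mul_one, mul_one, mul_comm] at this
    exact mul_left_cancel₀ he this
  have h' : chi D c' (D.reflectRoot i.val r) ≠ 1 := fun e => h (Units.ext (by
    rw [← hchi, e]))
  rw [torX_eq hs hc hS hU hr h, torX_eq hs hc hS hU hr' h', torLift, torLift,
    conjugate_commutatorElement]
  refine Cover.comm_congr π hc ?_ ?_
  · rw [map_mul, map_mul, map_inv, hg, Function.surjInv_eq hs, Function.surjInv_eq hs, hc']
  · rw [map_mul, map_mul, map_inv, hg, Function.surjInv_eq hs, Function.surjInv_eq hs, ng_conj C i hr,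
      hchi, mul_div_assoc]

omit hS hU in
theorem good_of_reflect (X : ℕ → F → Γ)
    (hn : ∀ (i : Fin D.rank), ∀ r < D.nroots, ∀ g, π g = ng C i → ∀ t,
      g * X r t * g⁻¹ = X (D.reflectRoot i.val r) ((C.T.eps i.val r : F) * t))
    (i : Fin D.rank) {r s : ℕ} (hr : r < D.nroots) (hs' : s < D.nroots)
    (h : Good D X (D.reflectRoot i.val r) (D.reflectRoot i.val s)) : Good D X r s := by
  obtain ⟨g, hg⟩ := hs (ng C i)
  intro t u
  have h1 := h ((C.T.eps i.val r : F) * t) ((C.T.eps i.val s : F) * u)
  rw [← mul_neg, ← hn i r hr g hg, ← hn i s hs' g hg, ← hn i r hr g hg] at h1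
  have hle : span X (tgt D (D.reflectRoot i.val r) (D.reflectRoot i.val s)) ≤
      (span X (tgt D r s)).map (MulAut.conj g).toMonoidHom := by
    refine (closure_le _).2 ?_
    rintro _ ⟨m, hm, v, rfl⟩
    rw [tgt_reflect C i hr hs', List.mem_map] at hm
    obtain ⟨m', hm', rfl⟩ := hm
    have hlt : m' < D.nroots := tgt_lt C hs' hm'
    refine ⟨X m' ((C.T.eps i.val m' : F)⁻¹ * v), subset_closure ⟨m', hm', _, rfl⟩, ?_⟩
    show g * _ * g⁻¹ = _
    rw [hn i m' hlt g hg, mul_inv_cancel_left₀ (eps_ne_zero C _ _)]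
  obtain ⟨y, hy, e⟩ := hle h1
  have e' : g * y * g⁻¹ = g * (X r (-t) * X s u * X r t) * g⁻¹ := by
    rw [show g * y * g⁻¹ = (MulAut.conj g).toMonoidHom y from rfl, e]; group
  rwa [← mul_left_cancel (mul_right_cancel e')]

/-- The lifts given by the torus. -/
noncomputable def torLifts
    (hG : ∀ r < D.nroots, topRoot D r = true → ∀ s < D.nroots, s ≠ r → s ≠ D.neg r →
      (∃ c : Fin D.rank → Fˣ, chi D c r = 1 ∧ chi D c s ≠ 1) ∨ CommLift C π r s) :
    Lifts C π where
  X := torX C hs
  proj r hr t := torX_proj hs hc hS hU hr t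
  add r hr t u := torX_add hs hc hS hU hr t u
  conj_n i r hr g hg t := torX_conj_n hs hc hS hU i hr g hg t
  conj_h c r hr g hg t := torX_conj_h hs hc hS hU c hr g hg t
  good := by
    refine root_top_rec C (fun r => ∀ s < D.nroots, s ≠ r → s ≠ D.neg r → Good D (torX C hs) r s) ?_ ?_
    · intro r hr htop s hs' h1 h2 t u
      have hinv : torX C hs r t = (torX C hs r (-t))⁻¹ := by
        apply eq_inv_of_mul_eq_one_left
        rw [torX_add hs hc hS hU hr, add_neg_cancel]
        have := torX_add hs hc hS hU hr (0 : F) 0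
        rwa [add_zero, mul_eq_left] at this
      rcases hG r hr htop s hs' h1 h2 with ⟨c, hcr, hcs⟩ | hcm
      · set h := Function.surjInv hs (tor C c) with hh
        set g := torX C hs r (-t) with hgd
        set d := (chi D c s : F) - 1
        have hgh : π (g * h * g⁻¹) = π h := by
          rw [map_mul, map_mul, map_inv, hgd, torX_proj hs hc hS hU hr, Function.surjInv_eq hs,
            mul_inv_eq_iff_eq_mul]
          have := tor_conj C c hr (-t)
          rw [hcr, Units.val_one, one_mul, mul_inv_eq_iff_eq_mul] at this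
          exact this.symm
        rw [hinv, torX_eq hs hc hS hU hs' hcs, torLift, ← hh]
        set y := g * Function.surjInv hs (xg C s (u / d)) * g⁻¹ with hy
        have hyG : π y ∈ Subgroup.closure {x | ∃ m ∈ tgt D r s, ∃ v, x = xg C m v} := by
          rw [hy, ← hinv, map_mul, map_mul, hgd, torX_proj hs hc hS hU hr,
            torX_proj hs hc hS hU hr, Function.surjInv_eq hs]
          exact xg_conj_mem C hr hs' h1 h2 t _
        have hspan : Subgroup.closure {x | ∃ m ∈ tgt D r s, ∃ v, x = xg C m v} ≤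
            (span (torX C hs) (tgt D r s)).map π := by
          refine (closure_le _).2 ?_
          rintro _ ⟨m, hm, v, rfl⟩
          exact ⟨_, subset_closure ⟨m, hm, v, rfl⟩, torX_proj hs hc hS hU (tgt_lt C hs' hm) v⟩
        obtain ⟨w, hw, hwe⟩ := hspan hyG
        rw [conjugate_commutatorElement, ← hy,
          Cover.comm_congr π hc hgh hwe.symm, commutatorElement_def]
        refine mul_mem ?_ (inv_mem hw)
        have hnorm : (span (torX C hs) (tgt D r s)).map (MulAut.conj h).toMonoidHom ≤
            span (torX C hs) (tgt D r s) := by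
          rw [span, MonoidHom.map_closure, closure_le]
          rintro _ ⟨_, ⟨m, hm, v, rfl⟩, rfl⟩
          exact subset_closure ⟨m, hm, _, torX_conj_h hs hc hS hU c (tgt_lt C hs' hm) h
            (Function.surjInv_eq hs _) v⟩
        exact hnorm ⟨w, hw, rfl⟩
      · have := hcm (torX C hs r (-t)) (torX C hs s u) (-t) u (torX_proj hs hc hS hU hr _)
          (torX_proj hs hc hS hU hs' _)
        rw [this.eq, mul_assoc, hinv, mul_inv_cancel, mul_one]
        exact subset_closure ⟨s, by simp [tgt], u, rfl⟩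
    · intro i r hr ih s hs' h1 h2
      exact good_of_reflect hs hc (torX C hs)
        (fun i r hr g hg t => torX_conj_n hs hc hS hU i hr g hg t) i hr hs'
        (ih _ (C.hC.reflect_lt i.isLt hs') (ne_reflect C i hr hs' h1)
          (ne_neg_reflect C i hr hs' h2))

end torus

end H76.Exc
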