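import Cfsg.Agent.H76.ExcBig
import Cfsg.Agent.H76.ExcCoprime

/-!
Projective representations in the natural characteristic over a finite field lift to the group
presented by (R1), (R2).
-/

set_option autoImplicit false
set_option linter.unusedSectionVars false

namespace H76.Exc

open Cfsg.Lie Subgroup
open scoped commutatorElement

/-- An element of multiplicative order a prime in a group of scalars of that characteristic is
trivial. -/
theorem scalar_eq_one {L : Type*} [Field L] {n : ℕ} {p : ℕ} [Fact p.Prime] [CharP L p]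
    {z : GL (Fin n) L} (hz : z ∈ center (GL (Fin n) L)) (h : z ^ p = 1) : z = 1 := by
  rcases Nat.eq_zero_or_pos n with rfl | hn
  · exact Units.ext (Matrix.ext fun i => i.elim0)
  rw [Matrix.GeneralLinearGroup.center_eq_range_scalar] at hz
  obtain ⟨a, rfl⟩ := hz
  rw [← map_pow] at h
  have ha : a ^ p = 1 := by
    have e := congrArg (fun g : GL (Fin n) L => (g : Matrix (Fin n) (Fin n) L) ⟨0, hn⟩ ⟨0, hn⟩) h
    simp at e
    erw [Matrix.diagonal_pow, Matrix.diagonal_apply_eq] at e
    exact Units.ext (by simpa using e)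
  have : (a : L) = 1 := by
    have e : frobenius L p (a : L) = frobenius L p 1 := by
      rw [frobenius_def, map_one, ← Units.val_pow_eq_pow_val, ha, Units.val_one]
    exact frobenius_inj L p e
  rw [show a = 1 from Units.ext this, map_one]

variable {D : ChevalleyDatum} (C : H54.Ctx D) {F : Type*} [Field F] [Fintype F]

include C in
/-- A projective representation in the natural characteristic lifts. -/
theorem exists_projective_lift (hP : H53.HasPairs D) (hpp : posPairOK D = true)
    (hperf : commutator (D.SteinbergCover F) = ⊤) (p : ℕ) [Fact p.Prime] [CharP F p]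
    {L : Type*} [Field L] [CharP L p] {n : ℕ}
    (θ : D.SteinbergCover F →* ↥(D.group F))
    (hθ : ∀ r < D.nroots, ∀ t : F, θ (D.scGen F r t) = xg C r t)
    (φ : ↥(D.group F) →* GL (Fin n) L ⧸ center (GL (Fin n) L)) :
    ∃ ψ : D.SteinbergCover F →* GL (Fin n) L,
      (QuotientGroup.mk' (center (GL (Fin n) L))).comp ψ = φ.comp θ := by
  classical
  have hθs : Function.Surjective θ := by
    obtain ⟨θ₀, hθ₀⟩ := exists_scHom (F := F) C.hC
    have e : θ = H53.ChevSys.thetaG C.hC C.hok (scSys_rel θ₀ hθ₀) hP :=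
      PresentedGroup.ext fun q => by
        have e' : PresentedGroup.of (rels := D.steinbergRelsAB F) q = D.scGen F q.1.val q.2 := by
          simp [ChevalleyDatum.scGen, ChevalleyDatum.stX, PresentedGroup.of]
        rw [e', hθ _ q.1.isLt]
        exact Subtype.ext (hθ₀ _ q.1.isLt q.2).symm
    rw [e]
    exact H53.ChevSys.thetaG_surjective C.hC C.W C.hok (scSys_rel θ₀ hθ₀) hP
  have hGperf : commutator ↥(D.group F) = ⊤ := by
    rw [eq_top_iff, ← MonoidHom.range_eq_top.2 hθs, MonoidHom.range_eq_map, ← hperf,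
      map_commutator_eq]
    exact commutator_mono le_top le_top
  let P : Subgroup (GL (Fin n) L × ↥(D.group F)) :=
    ((QuotientGroup.mk' (center (GL (Fin n) L))).comp (MonoidHom.fst _ _)).eqLocus
      (φ.comp (MonoidHom.snd _ _))
  let π₀ : P →* ↥(D.group F) := (MonoidHom.snd _ _).comp P.subtype
  have h₀s : Function.Surjective π₀ := fun x => by
    obtain ⟨g, hg⟩ := QuotientGroup.mk'_surjective _ (φ x)
    exact ⟨⟨(g, x), hg⟩, rfl⟩
  have h₀k : ∀ z ∈ π₀.ker, (z : GL (Fin n) L × ↥(D.group F)).1 ∈ center (GL (Fin n) L) ∧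
      (z : GL (Fin n) L × ↥(D.group F)).2 = 1 := by
    rintro ⟨⟨g, x⟩, hgx⟩ hz
    have hx : x = 1 := hz
    subst hx
    exact ⟨(QuotientGroup.eq_one_iff g).1 (hgx.trans (map_one φ)), rfl⟩
  have h₀c : π₀.ker ≤ center P := fun z hz => mem_center_iff.2 fun g =>
    Subtype.ext (Prod.ext (mem_center_iff.1 (h₀k z hz).1 _) (by
      show (g : GL (Fin n) L × ↥(D.group F)).2 * (z : GL (Fin n) L × ↥(D.group F)).2 = _
      rw [(h₀k z hz).2, mul_one]
      show _ = (z : GL (Fin n) L × ↥(D.group F)).2 * _
      rw [(h₀k z hz).2, one_mul]))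
  have hsurjInv : ∀ x, π₀ (Function.surjInv h₀s x) = x := Function.surjInv_eq h₀s
  have hfin : (commutatorSet P).Finite := by
    refine (Set.finite_range fun q : ↥(D.group F) × ↥(D.group F) =>
      ⁅Function.surjInv h₀s q.1, Function.surjInv h₀s q.2⁆).subset ?_
    rintro _ ⟨a, b, rfl⟩
    exact ⟨(π₀ a, π₀ b), Cover.comm_congr π₀ h₀c (hsurjInv _) (hsurjInv _)⟩
  have : Finite (commutatorSet P) := hfin.to_subtype
  let π : ↥(commutator P) →* ↥(D.group F) := π₀.comp (commutator P).subtype
  have hs : Function.Surjective π := fun x => by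
    have hx : x ∈ (commutator P).map π₀ := by
      rw [map_commutator_eq, MonoidHom.range_eq_top.2 h₀s, ← _root_.commutator_def, hGperf]
      exact mem_top _
    obtain ⟨y, hy, rfl⟩ := hx
    exact ⟨⟨y, hy⟩, rfl⟩
  have hc : π.ker ≤ center ↥(commutator P) := fun z hz =>
    mem_center_iff.2 fun g => Subtype.ext (mem_center_iff.1 (h₀c hz) g)
  have hco : (Nat.card π.ker).Coprime p := by
    rw [Nat.coprime_comm, (Fact.out : p.Prime).coprime_iff_not_dvd]
    intro hdvd
    obtain ⟨z, hz⟩ := exists_prime_orderOf_dvd_card' p hdvd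
    have hzp : z ^ p = 1 := hz ▸ pow_orderOf_eq_one z
    have hk : ((z : ↥(commutator P)) : P) ∈ π₀.ker := z.2
    have h1 : (((z : ↥(commutator P)) : P) : GL (Fin n) L × ↥(D.group F)).1 = 1 :=
      scalar_eq_one (p := p) (h₀k _ hk).1 (by
        have := congrArg (fun w : π.ker =>
          (((w : ↥(commutator P)) : P) : GL (Fin n) L × ↥(D.group F)).1) hzp
        simpa using this)
    have : z = 1 := Subtype.ext (Subtype.ext (Subtype.ext (Prod.ext h1 (h₀k _ hk).2)))
    rw [this, orderOf_one] at hz
    exact (Fact.out : p.Prime).one_lt.ne hz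
  let M := powLifts C p hs hc hco
  refine ⟨(((MonoidHom.fst _ _).comp P.subtype).comp (commutator P).subtype).comp
    (M.coverHom hs hc hpp), PresentedGroup.ext fun q => ?_⟩
  have e : PresentedGroup.of (rels := D.steinbergRelsAB F) q = D.scGen F q.1.val q.2 := by
    simp [ChevalleyDatum.scGen, ChevalleyDatum.stX, PresentedGroup.of]
  rw [e, MonoidHom.comp_apply, MonoidHom.comp_apply, M.coverHom_gen hs hc hpp q.1.isLt,
    MonoidHom.comp_apply φ θ, hθ _ q.1.isLt]
  have hmem := ((M.X q.1.val q.2 : ↥(commutator P)) : P).2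
  refine (show _ = φ ((((M.X q.1.val q.2 : ↥(commutator P)) : P) :
    GL (Fin n) L × ↥(D.group F)).2) from hmem).trans ?_
  exact congrArg φ (M.proj _ q.1.isLt q.2)

omit [Fintype F] in
/-- Homomorphisms from a perfect group are determined modulo the centre. -/
theorem eq_of_mk_eq {X G : Type*} [Group X] [Group G] (hX : commutator X = ⊤) {f g : X →* G}
    (h : (QuotientGroup.mk' (center G)).comp f = (QuotientGroup.mk' (center G)).comp g) : f = g := by
  have hd : ∀ x, f x * (g x)⁻¹ ∈ center G := fun x => by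
    rw [← QuotientGroup.eq_one_iff, QuotientGroup.mk_mul, QuotientGroup.mk_inv, mul_inv_eq_one]
    exact DFunLike.congr_fun h x
  let k : X →* center G := MonoidHom.mk' (fun x => ⟨f x * (g x)⁻¹, hd x⟩) fun a b =>
    Subtype.ext (by
      show f (a * b) * (g (a * b))⁻¹ = f a * (g a)⁻¹ * (f b * (g b)⁻¹)
      rw [map_mul, map_mul, mul_inv_rev, mul_assoc (f a) (g a)⁻¹,
        mem_center_iff.1 (hd b) (g a)⁻¹]
      group)
  have hk : commutator X ≤ k.ker := by
    rw [_root_.commutator_def, Subgroup.commutator_le]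
    intro a _ b _
    rw [MonoidHom.mem_ker, map_commutatorElement, commutatorElement_eq_one_iff_mul_comm]
    exact Subtype.ext (mem_center_iff.1 (k b).2 _)
  refine MonoidHom.ext fun x => ?_
  exact mul_inv_eq_one.1 (congrArg Subtype.val (hk (hX ▸ mem_top x) : k x = 1))

end H76.Exc
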