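import Cfsg.Agent.H53.StGroup
import Cfsg.Agent.H54.CoverPerfect

/-!
The group presented by (R1), (R2) as a system of root elements over the Chevalley group.
-/

set_option autoImplicit false
set_option linter.unusedSectionVars false

namespace H76.Exc

open Cfsg.Lie

variable {D : ChevalleyDatum} {T : H52.Tables} {F : Type*} [Field F]

/-- The generators of the cover. -/
noncomputable def scSys (D : ChevalleyDatum) (F : Type*) [Field F] :
    H53.ChevSys D F (D.SteinbergCover F) :=
  ⟨fun r t => D.scGen F r.val t⟩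

theorem scSys_xn (r : ℕ) (t : F) : (scSys D F).xn r t = D.scGen F r t := by
  by_cases h : r < D.nroots
  · rw [H53.ChevSys.xn, dif_pos h]; rfl
  · rw [H53.ChevSys.xn, dif_neg h, H54.scGen_out D r t h]

theorem scSys_wd (w : List (ℕ × F)) :
    (scSys D F).wd w = (w.map fun p => D.scGen F p.1 p.2).prod := by
  simp [H53.ChevSys.wd, scSys_xn]

theorem scSys_rel (θ : D.SteinbergCover F →* GL D.Idx F)
    (hθ : ∀ r < D.nroots, ∀ t, θ (D.scGen F r t) = H52.rt D r t) :
    H53.ChevSys.StRel (scSys D F) θ where
  add r hr t u := by simp only [scSys_xn]; exact H54.scGen_add D r t u hr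
  comm r hr s hs h1 h2 t u := by
    rw [scSys_xn, scSys_xn, scSys_wd, ← H54.scGen_comm D t u hr hs h1 h2]
    group
  img r hr t := by rw [scSys_xn]; exact hθ r hr t
  gen := by
    rw [eq_top_iff, ← H54.scGen_range D, Subgroup.closure_le]
    rintro g ⟨r, t, rfl⟩
    by_cases hr : r < D.nroots
    · exact Subgroup.subset_closure ⟨⟨r, hr⟩, t, rfl⟩
    · rw [H54.scGen_out D r t hr]; exact one_mem _

variable (hC : H52.Checked D T)
include hC

/-- The map of the cover to the matrix group. -/
theorem exists_scHom : ∃ θ : D.SteinbergCover F →* GL D.Idx F,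
    ∀ r < D.nroots, ∀ t, θ (D.scGen F r t) = H52.rt D r t := by
  obtain ⟨θ, hθ⟩ := H53.exists_stHom (F := F) hC
  have hq : ∀ g ∈ D.steinbergRelsAB F,
      FreeGroup.lift (fun p : Fin D.nroots × F => D.stGen F p.1.val p.2) g = 1 := by
    intro g hg
    have e : FreeGroup.lift (fun p : Fin D.nroots × F => D.stGen F p.1.val p.2) g =
        PresentedGroup.mk (D.steinbergRels F) g := by
      refine DFunLike.congr_fun (FreeGroup.ext_hom
        (FreeGroup.lift fun p : Fin D.nroots × F => D.stGen F p.1.val p.2)
        (PresentedGroup.mk (D.steinbergRels F)) fun p => ?_) g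
      simp [ChevalleyDatum.stGen, ChevalleyDatum.stX]
    rw [e]
    exact PresentedGroup.one_of_mem (by
      rcases hg with h | h
      · exact Or.inl (Or.inl h)
      · exact Or.inl (Or.inr h))
  refine ⟨θ.comp (PresentedGroup.toGroup hq), fun r hr t => ?_⟩
  rw [MonoidHom.comp_apply, ← hθ r hr t]
  congr 1
  show PresentedGroup.toGroup hq (PresentedGroup.mk _ (D.stX r t)) = _
  rw [ChevalleyDatum.stX, dif_pos hr]
  exact PresentedGroup.toGroup.of hq

end H76.Exc
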