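import Cfsg.Agent.H76.ExcKernel
import Cfsg.Prelude.Def_KGroupFacts

/-!
The lifted torus is an image of the torus, and the bound on the kernels of stem extensions.
-/

set_option autoImplicit false
set_option linter.unusedSectionVars false

namespace H76.Exc

open Cfsg.Lie Subgroup H53
open scoped commutatorElement

variable {D : ChevalleyDatum} {C : H54.Ctx D} {F : Type*} [Field F] {Γ : Type*} [Group Γ]
  {π : Γ →* ↥(D.group F)} (L : Lifts C π)

omit L in
theorem cartan_simple_self (C : H54.Ctx D) (i : Fin D.rank) :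
    D.cartan i.val (D.simple i.val) = 2 := by
  rw [← C.hC.pairInt_simple i.isLt]; exact C.hC.pair_self (C.hC.simple_lt i.isLt)

variable (hgen : L.lifted = ⊤)

theorem Lifts.proj_mm (i : Fin D.rank) (t : F) :
    π (L.sys'.nEl C.W i t) = π (L.sys'.hEl C.W i t * L.sys'.nEl C.W i 1) := by
  rw [map_mul, L.proj_nEl, L.proj_hEl, L.proj_nEl]
  exact ChevSys.nEl_eq (H53.chainOK_checked (F := F) C.hC C.W C.hok) i t

theorem Lifts.n_conj_simple (i : Fin D.rank) {t : F} (ht : t ≠ 0) (g : Γ)
    (hg : π g = π (L.sys'.nEl C.W i t)) (s : F) :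
    g * L.X (D.simple i.val) s * g⁻¹ = L.X (D.neg (D.simple i.val)) (-(s / t ^ 2)) ∧
      g * L.X (D.neg (D.simple i.val)) s * g⁻¹ = L.X (D.simple i.val) (-(t ^ 2 * s)) := by
  set h := L.sys'.hEl C.W i t with hh
  set n := L.sys'.nEl C.W i 1 with hn
  have hp := C.hC.simple_lt i.isLt
  have hnp := C.hC.neg_lt hp
  have hπh : π h = tor C (Pi.mulSingle i (Units.mk0 t ht)) := by
    rw [hh, L.proj_hEl, ← hEl_tor C i (Units.mk0 t ht)]; rfl
  have hπn : π n = ng C i := by rw [hn, L.proj_nEl, nEl_one]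
  have hz : g⁻¹ * (h * n) ∈ π.ker := by
    rw [MonoidHom.mem_ker, map_mul, map_inv, hg, hh, hn, ← L.proj_mm i t, inv_mul_cancel]
  set g' := g * n⁻¹ with hg'
  have hπg' : π g' = tor C (Pi.mulSingle i (Units.mk0 t ht)) := by
    rw [hg', map_mul, map_inv, hg, L.proj_mm i t, map_mul, mul_inv_cancel_right]; exact hπh
  have key : ∀ r < D.nroots, g * L.X r s * g⁻¹ = L.X (D.reflectRoot i.val r)
      (t ^ D.cartan i.val (D.reflectRoot i.val r) * ((C.T.eps i.val r : F) * s)) := by
    intro r hr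
    have : g * L.X r s * g⁻¹ = g' * (n * L.X r s * n⁻¹) * g'⁻¹ := by rw [hg']; group
    rw [this, L.conj_n i r hr n hπn, L.conj_h _ _ (C.hC.reflect_lt i.isLt hr) g' hπg',
      chi_mulSingle C, Units.val_zpow_eq_zpow_val, Units.val_mk0]
  have hc2 := cartan_simple_self C i
  have hcn : D.cartan i.val (D.neg (D.simple i.val)) = -2 := by
    rw [C.hC.cartan_neg i.isLt hp, hc2]
  constructor
  · rw [key _ hp, C.hC.reflect_simple i.isLt, hcn, H53.eps_simple C.hC i.isLt]
    congr 1
    rw [zpow_neg, zpow_two]; push_cast; field_simp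
  · rw [key _ hnp, C.hC.reflect_neg i.isLt hp, C.hC.reflect_simple i.isLt, C.hC.neg_neg hp, hc2,
      C.hC.eps_neg i.isLt hp, H53.eps_simple C.hC i.isLt]
    congr 1
    rw [zpow_two]; push_cast; ring

theorem Lifts.rootRel (i : Fin D.rank) :
    H98.RootRel (fun t => L.X (D.simple i.val) t) (fun t => L.X (D.neg (D.simple i.val)) t) := by
  have hp := C.hC.simple_lt i.isLt
  have hnp := C.hC.neg_lt hp
  have e : ∀ t, H98.mm (fun t => L.X (D.simple i.val) t) (fun t => L.X (D.neg (D.simple i.val)) t) t =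
      L.sys'.nEl C.W i t := by
    intro t
    simp only [H98.mm, ChevSys.nEl, Lifts.sys', H53.sa_val C.hC C.W i, H53.na_val C.hC C.W i]
  refine ⟨fun s t => (L.add _ hp s t).symm, fun s t => (L.add _ hnp s t).symm, fun t ht => ?_,
    fun t ht s => ?_⟩
  · set g := H98.mm (fun t => L.X (D.simple i.val) t) (fun t => L.X (D.neg (D.simple i.val)) t) t
      with hg
    have hπ : π g = π (L.sys'.nEl C.W i t) := by rw [hg, e]
    have h1 := (L.n_conj_simple i ht g hπ t).1
    have h2 := (L.n_conj_simple i ht g hπ (-t⁻¹)).2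
    have e1 : -(t / t ^ 2) = -t⁻¹ := by field_simp
    have e2 : -(t ^ 2 * -t⁻¹) = t := by field_simp
    rw [e1] at h1; rw [e2] at h2
    calc g = g * g * g⁻¹ := by group
      _ = (g * L.X (D.simple i.val) t * g⁻¹) * (g * L.X (D.neg (D.simple i.val)) (-t⁻¹) * g⁻¹) *
          (g * L.X (D.simple i.val) t * g⁻¹) := by
          conv_lhs => arg 1; arg 2; rw [hg, H98.mm]
          group
      _ = _ := by rw [h1, h2]
  · exact mul_inv_eq_iff_eq_mul.1 (L.n_conj_simple i ht _ (by rw [e]) s).1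

/-- The lifted coroot as a homomorphism. -/
noncomputable def Lifts.coroot [Finite F] (i : Fin D.rank) : Fˣ →* Γ where
  toFun t := H98.hh (fun t => L.X (D.simple i.val) t) (fun t => L.X (D.neg (D.simple i.val)) t) (t : F)
  map_one' := by rw [Units.val_one, (L.rootRel i).hh_one]
  map_mul' a b := by rw [Units.val_mul, (L.rootRel i).hh_mul a.ne_zero b.ne_zero]

theorem Lifts.coroot_eq [Finite F] (i : Fin D.rank) (t : Fˣ) :
    L.coroot i t = L.sys'.hEl C.W i (t : F) := by
  show H98.hh _ _ _ = _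
  simp only [H98.hh, H98.mm, ChevSys.hEl, ChevSys.nEl, Lifts.sys', H53.sa_val C.hC C.W i,
    H53.na_val C.hC C.W i]

include hgen in
theorem Lifts.coroot_commute [Finite F] (i j : Fin D.rank) (t u : Fˣ) :
    Commute (L.coroot i t) (L.coroot j u) := by
  have hR := L.rel hgen
  set h := L.coroot i t with hh
  set a : Fˣ := t ^ D.cartan i.val (ChevSys.sa C.W j).val with ha
  have hn : ∀ v : F, h * L.sys'.nEl C.W j v * h⁻¹ = L.sys'.nEl C.W j ((a : F) * v) := by
    intro v
    rw [hh, L.coroot_eq]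
    simp only [ChevSys.nEl]
    rw [← conj_mul, ← conj_mul, ChevSys.h_conj_x hR i _ t.ne_zero, ChevSys.h_conj_x hR i _ t.ne_zero,
      hR.cartan_neg, ha, Units.val_zpow_eq_zpow_val, zpow_neg, mul_inv_rev,
      mul_comm v⁻¹, mul_neg]
  refine mul_inv_eq_iff_eq_mul.1 ?_
  calc h * L.coroot j u * h⁻¹
      = (h * L.sys'.nEl C.W j (u : F) * h⁻¹) * (h * L.sys'.nEl C.W j (-1) * h⁻¹) := by
        rw [L.coroot_eq, ChevSys.hEl, conj_mul]
    _ = L.coroot j (a * u) * (L.coroot j a)⁻¹ := by
        rw [hn, hn, mul_neg_one, L.coroot_eq, L.coroot_eq, ChevSys.hEl, ChevSys.hEl,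
          ChevSys.nEl_neg hR, ChevSys.nEl_neg hR, mul_inv_rev, inv_inv, Units.val_mul]
        group
    _ = L.coroot j u := by rw [mul_comm a u, map_mul, mul_inv_cancel_right]

include hgen in
theorem Lifts.coroot_pairwise [Finite F] :
    Pairwise fun i j : Fin D.rank => ∀ (t u : Fˣ), Commute (L.coroot i t) (L.coroot j u) :=
  fun i j _ t u => L.coroot_commute hgen i j t u

/-- The lifted torus. -/
noncomputable def Lifts.torHom [Finite F] : (Fin D.rank → Fˣ) →* Γ :=
  MonoidHom.noncommPiCoprod (fun i => L.coroot i) (L.coroot_pairwise hgen)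

theorem Lifts.proj_torHom [Finite F] : π.comp (L.torHom hgen) = tor C := by
  classical
  refine MonoidHom.pi_ext fun i t => ?_
  rw [MonoidHom.comp_apply, Lifts.torHom, MonoidHom.noncommPiCoprod_mulSingle, L.coroot_eq,
    L.proj_hEl, hEl_tor]

theorem Lifts.Hsub_le [Finite F] :
    ChevSys.Hsub C.W L.sys' ≤ (L.torHom hgen).range := by
  classical
  refine (closure_le _).2 ?_
  rintro _ ⟨i, t, ht, rfl⟩
  exact ⟨Pi.mulSingle i (Units.mk0 t ht), by
    rw [Lifts.torHom, MonoidHom.noncommPiCoprod_mulSingle, L.coroot_eq]; rfl⟩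

include hgen in
/-- The kernel is an image of the kernel of the torus. -/
theorem Lifts.exists_ker_hom [Finite F] (hc : π.ker ≤ center Γ) :
    ∃ f : (tor C (F := F)).ker →* π.ker, Function.Surjective f := by
  refine ⟨((L.torHom hgen).comp (tor C).ker.subtype).codRestrict π.ker fun c =>
    show π (L.torHom hgen c) = 1 from (DFunLike.congr_fun (L.proj_torHom hgen) c.1).trans c.2, ?_⟩
  rintro ⟨z, hz⟩
  obtain ⟨c, hcz⟩ := L.Hsub_le hgen (L.ker_le_Hsub hc hgen hz)
  have hc1 : c ∈ (tor C).ker := by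
    rw [MonoidHom.mem_ker, ← L.proj_torHom hgen, MonoidHom.comp_apply, hcz]
    exact hz
  exact ⟨⟨c, hc1⟩, Subtype.ext (show L.torHom hgen c = z from hcz)⟩

end H76.Exc

namespace H76.Exc

universe u

variable {D : Cfsg.Lie.ChevalleyDatum} {C : H54.Ctx D} {F : Type u} [Field F] [Finite F]

open Subgroup in
/-- Lifts exist in every central extension, so every stem extension has its kernel an image of the
kernel of the torus. -/
theorem stem_ker {Γ : Type u} [Group Γ]
    {σ : Γ →* ↥(D.group F)} (hσ : Cfsg.IsStemExtension σ) (L : Lifts C σ) :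
    ∃ f : (tor C (F := F)).ker →* σ.ker, Function.Surjective f := by
  have hsur : ∀ x, ∃ y ∈ L.lifted, σ y = x := by
    intro x
    have hle : (⊤ : Subgroup ↥(D.group F)) ≤ L.lifted.map σ := by
      rw [← (H53.chainOK_checked (F := F) C.hC C.W C.hok).gen, closure_le]
      rintro _ ⟨r, t, rfl⟩
      exact ⟨_, L.mem_lifted r.isLt t, L.proj r.val r.isLt t⟩
    exact hle (mem_top x)
  have htop : L.lifted = ⊤ := by
    have hcomm : commutator Γ ≤ L.lifted := by
      rw [commutator_def, Subgroup.commutator_le]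
      intro a _ b _
      obtain ⟨a', ha', hae⟩ := hsur (σ a)
      obtain ⟨b', hb', hbe⟩ := hsur (σ b)
      rw [Cover.comm_congr σ hσ.2.1 hae.symm hbe.symm, commutatorElement_def]
      exact mul_mem (mul_mem (mul_mem ha' hb') (inv_mem ha')) (inv_mem hb')
    rw [eq_top_iff]
    intro x _
    obtain ⟨y, hy, hye⟩ := hsur (σ x)
    rw [← mul_inv_cancel_left y x]
    exact mul_mem hy (hcomm (hσ.2.2 (show σ (y⁻¹ * x) = 1 by
      rw [map_mul, map_inv, hye, inv_mul_cancel])))
  exact L.exists_ker_hom htop hσ.2.1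

end H76.Exc
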