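import Cfsg.Agent.H76.ExcExact
import Cfsg.Agent.H76.ExcCover
import Cfsg.Agent.H76.ExcSteinbergCover
import Cfsg.Agent.H54.ChevGroup

/-!
Homomorphisms from the presented groups into central extensions with lifted root elements.
-/

set_option autoImplicit false
set_option linter.unusedSectionVars false

namespace H76.Exc

open Cfsg.Lie Subgroup
open scoped commutatorElement

section group

variable {Γ Δ G : Type*} [Group Γ] [Group Δ] [Group G]

/-- The kernel of a composite of central extensions with perfect source is central. -/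
theorem comp_ker_le_center (σ : Γ →* Δ) (θ : Δ →* G) (hσs : Function.Surjective σ)
    (hσ : σ.ker ≤ center Γ) (hθ : θ.ker ≤ center Δ) (hperf : commutator Γ = ⊤) :
    (θ.comp σ).ker ≤ center Γ := by
  have _ := hσs
  intro z hz
  have hz' : σ z ∈ center Δ := hθ hz
  have hk : ∀ g, ⁅z, g⁆ ∈ center Γ := fun g => hσ (by
    rw [MonoidHom.mem_ker, map_commutatorElement, commutatorElement_eq_one_iff_mul_comm]
    exact (mem_center_iff.1 hz' _).symm)
  let f : Γ →* center Γ := MonoidHom.mk' (fun g => ⟨⁅z, g⁆, hk g⟩) fun a b => Subtype.ext (by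
    show ⁅z, a * b⁆ = ⁅z, a⁆ * ⁅z, b⁆
    rw [commutatorElement_mul_right_eq_mul_conj, mul_assoc ⁅z, a⁆, mem_center_iff.1 (hk b) a,
      ← mul_assoc, mul_inv_cancel_right])
  have hf : commutator Γ ≤ f.ker := by
    rw [commutator_def, Subgroup.commutator_le]
    intro a _ b _
    rw [MonoidHom.mem_ker, map_commutatorElement, commutatorElement_eq_one_iff_mul_comm]
    exact Subtype.ext (mem_center_iff.1 (f b).2 _)
  refine mem_center_iff.2 fun g => ?_
  have : f g = 1 := hf (hperf ▸ mem_top g)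
  have e : ⁅z, g⁆ = 1 := congrArg Subtype.val this
  exact (commutatorElement_eq_one_iff_mul_comm.1 e).symm

/-- A lift over `G` of the identity of a perfect `Δ` is a section. -/
theorem comp_eq_id (σ : Γ →* Δ) (θ : Δ →* G) (hθ : θ.ker ≤ center Δ) (hperf : commutator Δ = ⊤)
    (Φ : Δ →* Γ) (h : ∀ x, θ (σ (Φ x)) = θ x) : σ.comp Φ = MonoidHom.id Δ := by
  have hk : ∀ x, σ (Φ x) * x⁻¹ ∈ center Δ := fun x => hθ (by
    rw [MonoidHom.mem_ker, map_mul, h, map_inv, mul_inv_cancel])
  let f : Δ →* center Δ := MonoidHom.mk' (fun x => ⟨σ (Φ x) * x⁻¹, hk x⟩) fun a b => Subtype.ext (by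
    show σ (Φ (a * b)) * (a * b)⁻¹ = σ (Φ a) * a⁻¹ * (σ (Φ b) * b⁻¹)
    rw [map_mul, map_mul, mul_inv_rev, mul_assoc (σ (Φ a)) a⁻¹, mem_center_iff.1 (hk b) a⁻¹]
    group)
  have hf : commutator Δ ≤ f.ker := by
    rw [commutator_def, Subgroup.commutator_le]
    intro a _ b _
    rw [MonoidHom.mem_ker, map_commutatorElement, commutatorElement_eq_one_iff_mul_comm]
    exact Subtype.ext (mem_center_iff.1 (f b).2 _)
  ext x
  have : f x = 1 := hf (hperf ▸ mem_top x)
  exact mul_inv_eq_one.1 (congrArg Subtype.val this)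

/-- A stem extension with a section is an isomorphism. -/
theorem ker_eq_bot_of_section (σ : Γ →* Δ) (hσ : Cfsg.IsStemExtension σ) (Φ : Δ →* Γ)
    (h : σ.comp Φ = MonoidHom.id Δ) : σ.ker = ⊥ := by
  have hsec : ∀ x, σ (Φ x) = x := fun x => DFunLike.congr_fun h x
  have hcomm : commutator Γ ≤ Φ.range := by
    rw [commutator_def, Subgroup.commutator_le]
    intro a _ b _
    rw [Cover.comm_congr σ hσ.2.1 (x' := Φ (σ a)) (y' := Φ (σ b)) (hsec _).symm (hsec _).symm,
      ← map_commutatorElement]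
    exact ⟨_, rfl⟩
  rw [eq_bot_iff]
  intro z hz
  obtain ⟨x, rfl⟩ := hcomm (hσ.2.2 hz)
  have : x = 1 := by rw [← hsec x]; exact hz
  rw [this, map_one, Subgroup.mem_bot]

end group

variable {D : ChevalleyDatum} {C : H54.Ctx D} {F : Type*} [Field F] {Γ : Type*} [Group Γ]
  {π : Γ →* ↥(D.group F)} (L : Lifts C π) (hs : Function.Surjective π) (hc : π.ker ≤ center Γ)

/-- The generators in the extension. -/
def Lifts.gen (p : Fin D.nroots × F) : Γ := L.X p.1.val p.2

theorem Lifts.lift_stX {r : ℕ} (hr : r < D.nroots) (t : F) :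
    FreeGroup.lift L.gen (D.stX r t) = L.X r t := by
  rw [ChevalleyDatum.stX, dif_pos hr, FreeGroup.lift_apply_of]; rfl

theorem Lifts.lift_stWord (w : List (ℕ × F)) (h : ∀ p ∈ w, p.1 < D.nroots) :
    FreeGroup.lift L.gen (D.stWord w) = L.wd w := by
  rw [ChevalleyDatum.stWord, Lifts.wd, map_list_prod, List.map_map]
  exact congrArg List.prod (List.map_congr_left fun p hp => L.lift_stX (h p hp) p.2)

include hs hc in
theorem Lifts.lift_relsAB (hpp : posPairOK D = true) :
    ∀ g ∈ D.steinbergRelsAB F, FreeGroup.lift L.gen g = 1 := by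
  rintro g (⟨r, t, u, hr, rfl⟩ | ⟨r, s, t, u, hr, hs', hne, hne', rfl⟩)
  · simp only [map_mul, map_inv, L.lift_stX hr, L.add r hr, mul_inv_cancel]
  · have hlt : ∀ p ∈ D.commWord F r s t u, p.1 < D.nroots := by
      intro p hp
      obtain ⟨c, hc', rfl⟩ := List.mem_map.1 hp
      exact C.hC.commTerms_lt c hc'
    simp only [map_mul, map_inv, L.lift_stX hr, L.lift_stX hs', L.lift_stWord _ hlt]
    rw [mul_assoc _ (L.X s u) (L.X r t), L.exact hs hc hpp r hr s hs' hne hne' t u]
    group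

/-- The homomorphism from the cover. -/
noncomputable def Lifts.coverHom (hpp : posPairOK D = true) : D.SteinbergCover F →* Γ :=
  PresentedGroup.toGroup (L.lift_relsAB hs hc hpp)

theorem Lifts.coverHom_gen (hpp : posPairOK D = true) {r : ℕ} (hr : r < D.nroots) (t : F) :
    L.coverHom hs hc hpp (D.scGen F r t) = L.X r t := by
  show PresentedGroup.toGroup _ (PresentedGroup.mk _ (D.stX r t)) = _
  rw [ChevalleyDatum.stX, dif_pos hr]
  exact PresentedGroup.toGroup.of _

/-- `n_r(t)` in the extension. -/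
def Lifts.nE (r : ℕ) (t : F) : Γ := L.X r t * L.X (D.neg r) (-t⁻¹) * L.X r t

/-- `h_r(t)` in the extension. -/
def Lifts.hE (r : ℕ) (t : F) : Γ := L.nE r t * L.nE r (-1)

theorem Lifts.nE_neg {r : ℕ} (hr : r < D.nroots) (t : F) : L.nE r (-t) = (L.nE r t)⁻¹ := by
  simp only [Lifts.nE, mul_inv_rev, L.x_inv hr, L.x_inv (C.hC.neg_lt hr), inv_neg, neg_neg,
    mul_assoc]

include hs hc in
/-- The relators (R3) over a finite field. -/
theorem Lifts.hE_mul [Finite F] {r : ℕ} (hr : r < D.nroots) :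
    ∀ t u : F, t ≠ 0 → u ≠ 0 → L.hE r (t * u) = L.hE r t * L.hE r u := by
  have base : ∀ i : Fin D.rank, ∀ t u : F, t ≠ 0 → u ≠ 0 →
      L.hE (D.simple i.val) (t * u) = L.hE (D.simple i.val) t * L.hE (D.simple i.val) u :=
    fun i t u ht hu => (L.rootRel i).hh_mul ht hu
  have step : ∀ (i : Fin D.rank) (r : ℕ), r < D.nroots →
      (∀ t u : F, t ≠ 0 → u ≠ 0 → L.hE r (t * u) = L.hE r t * L.hE r u) →
      ∀ t u : F, t ≠ 0 → u ≠ 0 → L.hE (D.reflectRoot i.val r) (t * u) =
        L.hE (D.reflectRoot i.val r) t * L.hE (D.reflectRoot i.val r) u := by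
    intro i r hr ih
    obtain ⟨g, hg⟩ := hs (ng C i)
    set r' := D.reflectRoot i.val r with hr'
    have hlt : r' < D.nroots := C.hC.reflect_lt i.isLt hr
    set e : F := (C.T.eps i.val r : F) with he
    have he0 : e ≠ 0 := eps_ne_zero C _ _
    have hee : e⁻¹ = e := by
      rw [inv_eq_of_mul_eq_one_right]
      exact H52.Checked.eps_cast_mul_self _ _
    have hn : ∀ t : F, g * L.nE r t * g⁻¹ = L.nE r' (e * t) := by
      intro t
      rw [Lifts.nE, Lifts.nE, ← conj_mul, ← conj_mul, L.conj_n i r hr g hg,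
        L.conj_n i _ (C.hC.neg_lt hr) g hg, C.hC.reflect_neg i.isLt hr, C.hC.eps_neg i.isLt hr,
        ← hr', ← he, mul_inv_rev, hee]
      ring_nf
    have hh : ∀ t : F, g * L.hE r t * g⁻¹ = L.hE r' (e * t) * (L.hE r' e)⁻¹ := by
      intro t
      rw [Lifts.hE, ← conj_mul, hn, hn, Lifts.hE, Lifts.hE, mul_neg_one, L.nE_neg hlt e,
        L.nE_neg hlt 1, mul_inv_rev, inv_inv]
      group
    intro t u ht hu
    have hh' : ∀ t : F, L.hE r' t = g * L.hE r (e * t) * g⁻¹ * L.hE r' e := fun t => by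
      rw [hh, ← mul_assoc e e t, show e * e = 1 from H52.Checked.eps_cast_mul_self _ _, one_mul,
        inv_mul_cancel_right]
    have h1 : L.hE r' 1 = 1 := by
      rw [Lifts.hE, L.nE_neg hlt, mul_inv_cancel]
    have hE : g * L.hE r e * g⁻¹ = (L.hE r' e)⁻¹ := by
      have := hh' 1
      rw [h1, mul_one] at this
      exact eq_inv_of_mul_eq_one_left this.symm
    have hcm : ∀ a : F, a ≠ 0 → L.hE r e * L.hE r a = L.hE r a * L.hE r e := fun a ha => by
      rw [← ih a e ha he0, ← ih e a he0 ha, mul_comm]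
    have hr1 : ∀ a : F, a ≠ 0 → L.hE r' a = g * L.hE r a * g⁻¹ := fun a ha => by
      rw [hh' a, ih e a he0 ha, hcm a ha, show L.hE r' e = (g * L.hE r e * g⁻¹)⁻¹ by
        rw [hE, inv_inv]]
      group
    rw [hr1 _ (mul_ne_zero ht hu), hr1 t ht, hr1 u hu, conj_mul, ih t u ht hu]
  obtain ⟨P, hP⟩ : ∃ P : ℕ → Prop, ∀ r, P r ↔
      ∀ t u : F, t ≠ 0 → u ≠ 0 → L.hE r (t * u) = L.hE r t * L.hE r u := ⟨_, fun _ => Iff.rfl⟩
  refine (hP r).1 (H54.root_rec C.hC P (fun i hi => ⟨(hP _).2 (base ⟨i, hi⟩), (hP _).2 ?_⟩)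
    (fun i hi r hr h => (hP _).2 (step ⟨i, hi⟩ r hr ((hP r).1 h))) hr)
  have := step ⟨i, hi⟩ (D.simple i) (C.hC.simple_lt hi) (base ⟨i, hi⟩)
  rwa [C.hC.reflect_simple hi] at this

include hs hc in
theorem Lifts.lift_rels [Finite F] (hpp : posPairOK D = true) :
    ∀ g ∈ D.steinbergRels F, FreeGroup.lift L.gen g = 1 := by
  rintro g (hg | ⟨r, t, u, hr, ht, hu, rfl⟩)
  · exact L.lift_relsAB hs hc hpp g hg
  · have hh : ∀ t : F, FreeGroup.lift L.gen (D.stH r t) = L.hE r t := by
      intro t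
      rw [ChevalleyDatum.stH, L.lift_stWord]
      · simp [Lifts.wd, ChevalleyDatum.hWord, ChevalleyDatum.nWord, Lifts.hE, Lifts.nE, mul_assoc]
      · intro p hp
        simp only [ChevalleyDatum.hWord, ChevalleyDatum.nWord, List.mem_append, List.mem_cons,
          List.not_mem_nil, or_false] at hp
        rcases hp with (rfl | rfl | rfl) | rfl | rfl | rfl <;>
          first | exact hr | exact C.hC.neg_lt hr
    simp only [map_mul, map_inv, hh, L.hE_mul hs hc hr t u ht hu, mul_inv_cancel]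

/-- The homomorphism from the presented group. -/
noncomputable def Lifts.stHom [Finite F] (hpp : posPairOK D = true) :
    D.SteinbergGroup F →* Γ :=
  PresentedGroup.toGroup (L.lift_rels hs hc hpp)

theorem Lifts.stHom_gen [Finite F] (hpp : posPairOK D = true) {r : ℕ} (hr : r < D.nroots) (t : F) :
    L.stHom hs hc hpp (D.stGen F r t) = L.X r t := by
  show PresentedGroup.toGroup _ (PresentedGroup.mk _ (D.stX r t)) = _
  rw [ChevalleyDatum.stX, dif_pos hr]
  exact PresentedGroup.toGroup.of _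

end H76.Exc
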