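import Mathlib.Data.ZMod.Basic
import Mathlib.LinearAlgebra.Matrix.Notation
import Mathlib.Algebra.BigOperators.Fin
import Mathlib.Tactic.Ring

/-!
Square matrices of degree 52 modulo eleven packed into single natural numbers, entry `(i, j)` in
lane `52 * i + j` of thirty-two bits. A product takes 52 multiplications of natural numbers.
-/

set_option autoImplicit false
set_option maxHeartbeats 400000

namespace H76.Exc

/-- One lane. -/
def plane (x L : ℕ) : ℕ := (x >>> (32 * L)) % 4294967296

/-- The low halves of all lanes. -/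
def phalf : ℕ := ((List.range 2704).map fun L => 65535 * 2 ^ (32 * L)).sum

/-- The first column. -/
def pcol : ℕ :=
  ((List.range 2704).map fun L => (if L % 52 = 0 then 4294967295 else 0) * 2 ^ (32 * L)).sum

/-- Reduce every lane below 8192 modulo eleven. -/
def pred11 (x : ℕ) : ℕ := x - 11 * (((x * 5958) >>> 16) &&& phalf)

/-- Product of packed matrices. -/
def pmul (A B : ℕ) : ℕ :=
  pred11 ((List.range 52).map fun k =>
    ((A >>> (32 * k)) &&& pcol) * ((B >>> (32 * (52 * k))) % 2 ^ 1664)).sum

/-- A packed reduced matrix. -/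
def pvalid (A : ℕ) : Bool :=
  decide (A < 2 ^ 86528) && (List.range 2704).all fun L => decide (plane A L < 11)

/-- The scalar matrix `c`. -/
def psc (c : ℕ) : ℕ := ((List.range 52).map fun i => c * 2 ^ (32 * (53 * i))).sum

/-- The matrix of a packed number. -/
def pmat (A : ℕ) : Matrix (Fin 52) (Fin 52) (ZMod 11) :=
  Matrix.of fun i j => ((plane A (52 * i.val + j.val) : ℕ) : ZMod 11)

theorem list_range_sum (f : ℕ → ℕ) (n : ℕ) :
    ((List.range n).map f).sum = ∑ i ∈ Finset.range n, f i := rfl

theorem two_pow_lane (n : ℕ) : (2 : ℕ) ^ (32 * (n + 1)) = 2 ^ (32 * n) * 4294967296 := by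
  rw [mul_add, mul_one, pow_add, show (2 : ℕ) ^ 32 = 4294967296 by norm_num]

theorem sum_lane_lt {n : ℕ} (f : ℕ → ℕ) (hf : ∀ j < n, f j < 4294967296) :
    (∑ j ∈ Finset.range n, f j * 2 ^ (32 * j)) < 2 ^ (32 * n) := by
  induction n with
  | zero => simp
  | succ n ih =>
    have h1 := ih fun j hj => hf j (Nat.lt_succ_of_lt hj)
    have h2 := hf n (Nat.lt_succ_self n)
    rw [Finset.sum_range_succ, two_pow_lane]
    have h3 : f n * 2 ^ (32 * n) + 2 ^ (32 * n) ≤ 4294967296 * 2 ^ (32 * n) := by
      rw [← Nat.succ_mul]; exact Nat.mul_le_mul_right _ h2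
    rw [mul_comm (2 ^ (32 * n)) 4294967296]
    omega

theorem plane_sum {n : ℕ} (f : ℕ → ℕ) (hf : ∀ j < n, f j < 4294967296) {j : ℕ} (hj : j < n) :
    plane (∑ i ∈ Finset.range n, f i * 2 ^ (32 * i)) j = f j := by
  induction n with
  | zero => omega
  | succ n ih =>
    have hlt := sum_lane_lt (n := n) f fun i hi => hf i (Nat.lt_succ_of_lt hi)
    rw [plane, Finset.sum_range_succ, Nat.shiftRight_eq_div_pow]
    rcases Nat.lt_or_ge j n with h | h
    · have e := ih (fun i hi => hf i (Nat.lt_succ_of_lt hi)) h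
      rw [plane, Nat.shiftRight_eq_div_pow] at e
      have hd : f n * 2 ^ (32 * n) =
          2 ^ (32 * j) * (4294967296 * (f n * 2 ^ (32 * (n - j - 1)))) := by
        rw [show 32 * n = 32 * j + 32 + 32 * (n - j - 1) by omega, pow_add, pow_add,
          show (2 : ℕ) ^ 32 = 4294967296 by norm_num]
        ring
      rw [hd, Nat.add_mul_div_left _ _ (Nat.two_pow_pos _), Nat.add_mul_mod_self_left, e]
    · obtain rfl : j = n := by omega
      rw [Nat.add_mul_div_right _ _ (Nat.two_pow_pos _), Nat.div_eq_of_lt hlt, zero_add,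
        Nat.mod_eq_of_lt (hf j hj)]

theorem plane_lt (x L : ℕ) : plane x L < 4294967296 :=
  Nat.mod_lt _ (Nat.lt_of_sub_eq_succ (m := 4294967296) (l := 4294967295) rfl)

theorem plane_decomp {n x : ℕ} (hx : x < 2 ^ (32 * n)) :
    x = ∑ L ∈ Finset.range n, plane x L * 2 ^ (32 * L) := by
  induction n generalizing x with
  | zero =>
    rw [mul_zero, pow_zero] at hx
    simp [show x = 0 by omega]
  | succ n ih =>
    have hp : (0 : ℕ) < 2 ^ (32 * n) := Nat.two_pow_pos _
    have hd : x / 2 ^ (32 * n) < 4294967296 := by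
      rw [Nat.div_lt_iff_lt_mul hp, mul_comm, ← two_pow_lane]; exact hx
    have hn : plane x n = x / 2 ^ (32 * n) := by
      rw [plane, Nat.shiftRight_eq_div_pow, Nat.mod_eq_of_lt hd]
    have hm : ∀ L < n, plane (x % 2 ^ (32 * n)) L = plane x L := by
      intro L hL
      apply Nat.eq_of_testBit_eq
      intro i
      simp only [plane, show (4294967296 : ℕ) = 2 ^ 32 by norm_num, Nat.testBit_mod_two_pow,
        Nat.testBit_shiftRight]
      by_cases hi : i < 32
      · simp [hi, show 32 * L + i < 32 * n by omega]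
      · simp [hi]
    rw [Finset.sum_range_succ, hn]
    conv_lhs => rw [← Nat.mod_add_div x (2 ^ (32 * n)), mul_comm (2 ^ (32 * n)),
      ih (Nat.mod_lt x hp)]
    refine congrArg (· + x / 2 ^ (32 * n) * 2 ^ (32 * n)) ?_
    exact Finset.sum_congr rfl fun L hL => by rw [hm L (Finset.mem_range.1 hL)]

theorem plane_add_shift (x k L : ℕ) : plane (x >>> (32 * k)) L = plane x (k + L) := by
  rw [plane, plane, ← Nat.shiftRight_add, mul_add]

theorem plane_and (x y L : ℕ) : plane (x &&& y) L = plane x L &&& plane y L := by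
  apply Nat.eq_of_testBit_eq
  intro i
  simp only [plane, show (4294967296 : ℕ) = 2 ^ 32 by norm_num, Nat.testBit_and,
    Nat.testBit_mod_two_pow, Nat.testBit_shiftRight]
  cases decide (i < 32) <;> simp

theorem plane_phalf {L : ℕ} (hL : L < 2704) : plane phalf L = 65535 := by
  rw [phalf, list_range_sum]
  exact plane_sum (fun _ => 65535) (fun _ _ => Nat.lt_of_sub_eq_succ (l := 4294901760) rfl) hL

theorem plane_pcol {L : ℕ} (hL : L < 2704) :
    plane pcol L = if L % 52 = 0 then 4294967295 else 0 := by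
  rw [pcol, list_range_sum]
  refine plane_sum (fun L => if L % 52 = 0 then 4294967295 else 0) (fun j _ => ?_) hL
  show (if j % 52 = 0 then 4294967295 else 0) < 4294967296
  split <;> omega

theorem phalf_lt : phalf < 2 ^ (32 * 2704) := by
  rw [phalf, list_range_sum]
  exact sum_lane_lt (fun _ => 65535) fun _ _ => Nat.lt_of_sub_eq_succ (l := 4294901760) rfl

theorem pcol_lt : pcol < 2 ^ (32 * 2704) := by
  rw [pcol, list_range_sum]
  refine sum_lane_lt (fun L => if L % 52 = 0 then 4294967295 else 0) fun j _ => ?_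
  show (if j % 52 = 0 then 4294967295 else 0) < 4294967296
  split <;> omega

theorem pred11_sum (f : ℕ → ℕ) (hf : ∀ L < 2704, f L < 8192) :
    pred11 (∑ L ∈ Finset.range 2704, f L * 2 ^ (32 * L)) =
      ∑ L ∈ Finset.range 2704, f L % 11 * 2 ^ (32 * L) := by
  have hq : ((∑ L ∈ Finset.range 2704, f L * 2 ^ (32 * L)) * 5958) >>> 16 &&& phalf =
      ∑ L ∈ Finset.range 2704, f L / 11 * 2 ^ (32 * L) := by
    conv_lhs => rw [plane_decomp (lt_of_le_of_lt Nat.and_le_right phalf_lt)]
    refine Finset.sum_congr rfl fun L hL => ?_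
    have hL' := Finset.mem_range.1 hL
    have hy : plane ((∑ L ∈ Finset.range 2704, f L * 2 ^ (32 * L)) * 5958) L = f L * 5958 := by
      rw [Finset.sum_mul]
      simp only [fun M => mul_right_comm (f M) (2 ^ (32 * M)) 5958]
      exact plane_sum (fun M => f M * 5958) (fun M hM => by have := hf M hM; omega) hL'
    refine congrArg (· * 2 ^ (32 * L)) ?_
    rw [plane_and, plane_phalf hL', show (65535 : ℕ) = 2 ^ 16 - 1 by norm_num,
      Nat.and_two_pow_sub_one_eq_mod]
    simp only [plane, Nat.shiftRight_eq_div_pow, Nat.div_div_eq_div_mul] at hy ⊢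
    rw [mul_comm (2 ^ 16) (2 ^ (32 * L)), ← Nat.div_div_eq_div_mul]
    have := hf L hL'
    generalize _ / 2 ^ (32 * L) = z at hy ⊢
    rw [show (2 : ℕ) ^ 16 = 65536 by norm_num]
    have h6 : f L * 5958 / 65536 = f L / 11 := by
      have e1 := Nat.div_add_mod (f L) 11
      have e2 := Nat.mod_lt (f L) (show 0 < 11 by omega)
      refine Nat.div_eq_of_lt_le ?_ ?_ <;> omega
    rw [← h6, ← hy]
    rw [Nat.mod_mod_of_dvd _ (show 65536 ∣ 4294967296 by decide),
      show (4294967296 : ℕ) = 65536 * 65536 by norm_num, Nat.mod_mul_right_div_self]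
  rw [pred11, hq]
  refine Nat.sub_eq_of_eq_add ?_
  rw [Finset.mul_sum, ← Finset.sum_add_distrib]
  refine Finset.sum_congr rfl fun L _ => ?_
  rw [← mul_assoc, ← add_mul, Nat.mod_add_div]

theorem sum_range_block {M : Type*} [AddCommMonoid M] (f : ℕ → M) (n : ℕ) :
    ∀ m : ℕ, ∑ L ∈ Finset.range (m * n), f L =
      ∑ i ∈ Finset.range m, ∑ j ∈ Finset.range n, f (n * i + j)
  | 0 => by simp
  | m + 1 => by
    rw [Nat.succ_mul, Finset.sum_range_add, sum_range_block f n m, Finset.sum_range_succ,
      mul_comm n m]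

theorem pmul_eq {A B : ℕ} (hA : pvalid A = true) (hB : pvalid B = true) :
    pmul A B = ∑ L ∈ Finset.range 2704,
      (∑ k ∈ Finset.range 52, plane A (52 * (L / 52) + k) * plane B (52 * k + L % 52)) % 11 *
        2 ^ (32 * L) := by
  simp only [pvalid, Bool.and_eq_true, decide_eq_true_eq, List.all_eq_true, List.mem_range] at hA hB
  rw [← pred11_sum _ fun L hL => ?_]
  swap
  · refine lt_of_le_of_lt (Finset.sum_le_card_nsmul _ _ 100 fun k hk => ?_) (by simp)
    have hk' := Finset.mem_range.1 hk
    have h1 := hA.2 (52 * (L / 52) + k) (by omega)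
    have h2 := hB.2 (52 * k + L % 52) (by omega)
    exact Nat.mul_le_mul (Nat.le_of_lt_succ h1) (Nat.le_of_lt_succ h2)
  rw [pmul, list_range_sum]
  refine congrArg pred11 ?_
  have hblk := fun g : ℕ → ℕ => sum_range_block g 52 52
  rw [show (52 : ℕ) * 52 = 2704 by norm_num] at hblk
  rw [hblk]
  have hc : ∀ k < 52, (A >>> (32 * k)) &&& pcol =
      ∑ i ∈ Finset.range 52, plane A (52 * i + k) * 2 ^ (32 * (52 * i)) := by
    intro k hk
    conv_lhs => rw [plane_decomp (lt_of_le_of_lt Nat.and_le_right pcol_lt), hblk]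
    refine Finset.sum_congr rfl fun i hi => ?_
    have hi' := Finset.mem_range.1 hi
    rw [Finset.sum_eq_single 0]
    · rw [add_zero, plane_and, plane_add_shift, plane_pcol (by omega),
        if_pos (Nat.mul_mod_right 52 i), show (4294967295 : ℕ) = 2 ^ 32 - 1 by norm_num,
        Nat.and_two_pow_sub_one_eq_mod, show (2 : ℕ) ^ 32 = 4294967296 by norm_num,
        Nat.mod_eq_of_lt (plane_lt _ _), add_comm k]
    · intro j hj hj0
      have := Finset.mem_range.1 hj
      rw [plane_and, plane_pcol (by omega), if_neg (by omega), Nat.and_zero, zero_mul]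
    · simp
  have hr : ∀ k < 52, (B >>> (32 * (52 * k))) % 2 ^ 1664 =
      ∑ j ∈ Finset.range 52, plane B (52 * k + j) * 2 ^ (32 * j) := by
    intro k hk
    have hlt : (B >>> (32 * (52 * k))) % 2 ^ (32 * 52) < 2 ^ (32 * 52) :=
      Nat.mod_lt _ (Nat.two_pow_pos _)
    rw [show 1664 = 32 * 52 by norm_num]
    conv_lhs => rw [plane_decomp hlt]
    refine Finset.sum_congr rfl fun j hj => ?_
    have := Finset.mem_range.1 hj
    rw [← plane_add_shift]
    refine congrArg (· * 2 ^ (32 * j)) ?_
    apply Nat.eq_of_testBit_eq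
    intro i
    simp only [plane, show (4294967296 : ℕ) = 2 ^ 32 by norm_num, Nat.testBit_mod_two_pow,
      Nat.testBit_shiftRight]
    by_cases hi : i < 32
    · simp [hi, show 32 * j + i < 32 * 52 by omega]
    · simp [hi]
  rw [Finset.sum_congr rfl fun k hk => by
    rw [hc k (Finset.mem_range.1 hk), hr k (Finset.mem_range.1 hk), Finset.sum_mul_sum],
    Finset.sum_comm]
  refine Finset.sum_congr rfl fun i hi => ?_
  rw [Finset.sum_comm]
  refine Finset.sum_congr rfl fun j hj => ?_
  have := Finset.mem_range.1 hj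
  rw [show (52 * i + j) / 52 = i by omega, show (52 * i + j) % 52 = j by omega, Finset.sum_mul]
  refine Finset.sum_congr rfl fun k _ => ?_
  rw [mul_add 32, pow_add]
  ring

theorem pvalid_pmul {A B : ℕ} (hA : pvalid A = true) (hB : pvalid B = true) :
    pvalid (pmul A B) = true := by
  rw [pmul_eq hA hB]
  simp only [pvalid, Bool.and_eq_true, decide_eq_true_eq, List.all_eq_true, List.mem_range]
  have h11 : ∀ m : ℕ, m % 11 < 4294967296 := fun m => by omega
  refine ⟨?_, fun L hL => ?_⟩
  · rw [show 86528 = 32 * 2704 by norm_num]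
    exact sum_lane_lt _ fun L _ => h11 _
  · rw [plane_sum _ (fun L _ => h11 _) hL]
    omega

theorem pmat_pmul {A B : ℕ} (hA : pvalid A = true) (hB : pvalid B = true) :
    pmat (pmul A B) = pmat A * pmat B := by
  ext i j
  simp only [pmat, Matrix.mul_apply, Matrix.of_apply]
  rw [pmul_eq hA hB, plane_sum _ (fun L _ => by omega) (by omega), ZMod.natCast_mod,
    Finset.sum_range, Nat.cast_sum]
  refine Finset.sum_congr rfl fun k _ => ?_
  rw [show (52 * i.val + j.val) / 52 = i.val by omega,
    show (52 * i.val + j.val) % 52 = j.val by omega, Nat.cast_mul]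

theorem pvalid_psc_one : pvalid (psc 1) = true := by decide +kernel

theorem pvalid_psc_ten : pvalid (psc 10) = true := by decide +kernel

theorem pmat_psc_one : pmat (psc 1) = 1 := by decide +kernel

theorem pmat_psc_ten : pmat (psc 10) = -1 := by decide +kernel

end H76.Exc
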