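import Cfsg.Agent.H76.F4TwoData
import Cfsg.Agent.H76.F4TwoPack
import Cfsg.Agent.H76.ExcCheck
import Cfsg.Prelude.Def_ChevF4

/-!
The 52-dimensional lifts satisfy the relations of F₄ over two elements up to sign.
-/

set_option autoImplicit false
set_option maxRecDepth 100000

namespace H76.Exc

open Cfsg.Lie

/-- The roots with odd coefficient in the commutator formula. -/
def oddTerms (D : ChevalleyDatum) (r s : ℕ) : List ℕ :=
  ((D.commTerms r s).filter fun c => c.2.1.natAbs % 2 == 1).map Prod.fst

/-- A lift. -/
def f4m (r : ℕ) : ℕ := f4Tab.getD r 0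

/-- Product of lifts along a word. -/
def f4w (w : List ℕ) : ℕ := w.foldr (fun r M => pmul (f4m r) M) (psc 1)

/-- Equality up to sign. -/
def peqPM (A B : ℕ) : Bool := (A == B) || (A == pmul (psc 10) B)

/-- Validity, squares, and the torus relation. -/
def f4sqOK : Bool :=
  (List.range 48).all fun r => pvalid (f4m r) && (pmul (f4m r) (f4m r) == psc 1) &&
    (let n := pmul (f4m r) (pmul (f4m (chevF4.neg r)) (f4m r)); peqPM (pmul n n) (psc 1))

/-- Compatibility with a fundamental reflection. -/
def f4conjOK (i : ℕ) : Bool :=
  let n := f4w [chevF4.simple i, chevF4.neg (chevF4.simple i), chevF4.simple i]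
  (List.range 48).all fun r => peqPM (pmul n (f4m r)) (pmul (f4m (chevF4.reflectRoot i r)) n)

/-- The commutator formula at one top root. -/
def f4topOK (r : ℕ) : Bool :=
  (List.range 48).all fun s => (s == r) || (s == chevF4.neg r) ||
    (let P := pmul (f4m s) (f4m r); peqPM (pmul P P) (f4w (oddTerms chevF4 r s)))

theorem f4sq : f4sqOK = true := by decide +kernel
theorem f4conj : ((List.range 4).all fun i => f4conjOK i) = true := by decide +kernel
theorem f4top : ([44, 47] : List ℕ).all f4topOK = true := by decide +kernel
theorem f4tops : ((List.range 48).all fun r => !topRoot chevF4 r || r == 44 || r == 47) = true := by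
  decide +kernel

/-- The lifts are not a representation: one commutator formula has sign minus one. -/
def f4signOK : Bool := f4w [3, 47, 3, 47] == pmul (psc 10) (f4w [29, 6])

theorem f4sign : f4signOK = true := by decide +kernel

end H76.Exc
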