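import Cfsg.Agent.H76.F4TwoRel
import Cfsg.Agent.H76.ExcCtx
import Cfsg.Agent.H76.ExcSchur
import Cfsg.Agent.H52.Simple
import Mathlib.Algebra.Field.ZMod

/-!
A double cover of F₄(2).
-/

set_option autoImplicit false
set_option linter.unusedSectionVars false
set_option maxRecDepth 100000

namespace H76.Exc

open Cfsg.Lie Subgroup
open scoped commutatorElement

theorem two_equiv {K : Type*} [Group K] (h : Nat.card K = 2) :
    Nonempty (K ≃* Multiplicative (ZMod 2)) := by
  have := isCyclic_of_prime_card h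
  exact ⟨mulEquivOfCyclicCardEq (by rw [h, Nat.card_congr Multiplicative.toAdd, Nat.card_zmod])⟩

theorem ker_two_equiv {G H : Type*} [Group G] [Group H] (σ : G →* H) (h : Nat.card σ.ker = 2) :
    Nonempty (σ.ker ≃* Multiplicative (ZMod 2)) :=
  two_equiv h

/-- The scalars of order two. -/
def pmOne : Subgroup (GL (Fin 52) (ZMod 11)) := zpowers (-1)

theorem pmOne_central : pmOne ≤ center (GL (Fin 52) (ZMod 11)) :=
  zpowers_le.2 (mem_center_iff.2 fun g => by simp)

instance pmOne_normal : pmOne.Normal :=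
  ⟨fun z hz g => by rw [mem_center_iff.1 (pmOne_central hz) g, mul_inv_cancel_right]; exact hz⟩

theorem mem_pmOne {z : GL (Fin 52) (ZMod 11)} (hz : z ∈ pmOne) : z = 1 ∨ z = -1 := by
  obtain ⟨n, rfl⟩ := mem_zpowers_iff.1 hz
  rcases Int.even_or_odd n with h | h
  · exact Or.inl h.neg_one_zpow
  · exact Or.inr h.neg_one_zpow

theorem f4sq_spec {r : ℕ} (hr : r < 48) : pvalid (f4m r) = true ∧ pmul (f4m r) (f4m r) = psc 1 ∧
    peqPM (pmul (pmul (f4m r) (pmul (f4m (chevF4.neg r)) (f4m r)))
      (pmul (f4m r) (pmul (f4m (chevF4.neg r)) (f4m r)))) (psc 1) = true := by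
  have h := f4sq
  simp only [f4sqOK, List.all_eq_true, List.mem_range, Bool.and_eq_true, beq_iff_eq] at h
  exact ⟨(h r hr).1.1, (h r hr).1.2, (h r hr).2⟩

/-- The lift as an invertible matrix. -/
def f4gl (r : ℕ) : GL (Fin 52) (ZMod 11) :=
  if h : r < 48 then
    ⟨pmat (f4m r), pmat (f4m r),
      by rw [← pmat_pmul (f4sq_spec h).1 (f4sq_spec h).1, (f4sq_spec h).2.1, pmat_psc_one],
      by rw [← pmat_pmul (f4sq_spec h).1 (f4sq_spec h).1, (f4sq_spec h).2.1, pmat_psc_one]⟩
  else 1

theorem f4gl_val {r : ℕ} (hr : r < 48) :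
    ((f4gl r : GL (Fin 52) (ZMod 11)) : Matrix (Fin 52) (Fin 52) (ZMod 11)) = pmat (f4m r) := by
  rw [f4gl, dif_pos hr]

theorem f4gl_sq {r : ℕ} (hr : r < 48) : f4gl r * f4gl r = 1 := Units.ext (by
  rw [Units.val_mul, f4gl_val hr, ← pmat_pmul (f4sq_spec hr).1 (f4sq_spec hr).1, (f4sq_spec hr).2.1,
    pmat_psc_one, Units.val_one])

theorem f4w_val : ∀ w : List ℕ, (∀ r ∈ w, r < 48) →
    pvalid (f4w w) = true ∧
    (((w.map f4gl).prod : GL (Fin 52) (ZMod 11)) : Matrix (Fin 52) (Fin 52) (ZMod 11)) =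
      pmat (f4w w) := by
  intro w
  induction w with
  | nil => intro _; exact ⟨pvalid_psc_one, by simp [f4w, pmat_psc_one]⟩
  | cons r w ih =>
    intro h
    obtain ⟨h1, h2⟩ := ih fun q hq => h q (List.mem_cons_of_mem _ hq)
    have hr := h r List.mem_cons_self
    refine ⟨pvalid_pmul (f4sq_spec hr).1 h1, ?_⟩
    rw [List.map_cons, List.prod_cons, Units.val_mul, f4gl_val hr, h2]
    exact (pmat_pmul (f4sq_spec hr).1 h1).symm

theorem f4mk_eq {x y : GL (Fin 52) (ZMod 11)} {A B : ℕ}
    (hx : (x : Matrix (Fin 52) (Fin 52) (ZMod 11)) = pmat A)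
    (hy : (y : Matrix (Fin 52) (Fin 52) (ZMod 11)) = pmat B) (hB : pvalid B = true)
    (h : peqPM A B = true) :
    (QuotientGroup.mk x : GL (Fin 52) (ZMod 11) ⧸ pmOne) = QuotientGroup.mk y := by
  simp only [peqPM, Bool.or_eq_true, beq_iff_eq] at h
  rcases h with h | h
  · rw [show x = y from Units.ext (by rw [hx, hy, h])]
  · have e : x = -1 * y := Units.ext (by
      rw [Units.val_mul, Units.val_neg, Units.val_one, hx, hy, h,
        pmat_pmul pvalid_psc_ten hB, pmat_psc_ten])
    rw [e, QuotientGroup.mk_mul, (QuotientGroup.eq_one_iff (N := pmOne) (-1 : GL (Fin 52) (ZMod 11))).2 (mem_zpowers _),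
      one_mul]

/-- The class of a lift. -/
def f4cl (r : ℕ) : GL (Fin 52) (ZMod 11) ⧸ pmOne := QuotientGroup.mk (f4gl r)

theorem f4cl_sq {r : ℕ} (hr : r < 48) : f4cl r * f4cl r = 1 := by
  rw [f4cl, ← QuotientGroup.mk_mul, f4gl_sq hr, QuotientGroup.mk_one]

theorem f4cl_conj (i : Fin chevF4.rank) {r : ℕ} (hr : r < 48) :
    (f4cl (chevF4.simple i.val) * (f4cl (chevF4.neg (chevF4.simple i.val)) * f4cl (chevF4.simple i.val))) *
        f4cl r =
      f4cl (chevF4.reflectRoot i.val r) *
        (f4cl (chevF4.simple i.val) * (f4cl (chevF4.neg (chevF4.simple i.val)) * f4cl (chevF4.simple i.val))) := by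
  have hp : chevF4.simple i.val < 48 := ctxF4.hC.simple_lt (D := chevF4) i.isLt
  have hn : chevF4.neg (chevF4.simple i.val) < 48 := ctxF4.hC.neg_lt (D := chevF4) hp
  have hr' : chevF4.reflectRoot i.val r < 48 := ctxF4.hC.reflect_lt (D := chevF4) i.isLt hr
  have h := f4conj
  simp only [List.all_eq_true, List.mem_range, f4conjOK] at h
  obtain ⟨hv, he⟩ := f4w_val [chevF4.simple i.val, chevF4.neg (chevF4.simple i.val), chevF4.simple i.val]
    (by simp [hp, hn])
  simp only [List.map_cons, List.map_nil, List.prod_cons, List.prod_nil, mul_one] at he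
  simp only [f4cl, ← QuotientGroup.mk_mul]
  refine f4mk_eq ?_ ?_ (pvalid_pmul (f4sq_spec hr').1 hv) (h i.val i.isLt r hr)
  · rw [Units.val_mul, he, f4gl_val hr, pmat_pmul hv (f4sq_spec hr).1]
  · rw [Units.val_mul, he, f4gl_val hr', pmat_pmul (f4sq_spec hr').1 hv]

theorem f4cl_comm : ∀ r < 48, ∀ s < 48, s ≠ r → s ≠ chevF4.neg r →
    f4cl s * f4cl r * (f4cl s * f4cl r) = ((oddTerms chevF4 r s).map f4cl).prod := by
  refine root_top_rec ctxF4 (fun r => ∀ s < 48, s ≠ r → s ≠ chevF4.neg r →
    f4cl s * f4cl r * (f4cl s * f4cl r) = ((oddTerms chevF4 r s).map f4cl).prod) ?_ ?_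
  · intro r hr htop s hs h1 h2
    have ht := f4tops
    simp only [List.all_eq_true, List.mem_range, Bool.or_eq_true, Bool.not_eq_true', beq_iff_eq] at ht
    have hr44 : r ∈ ([44, 47] : List ℕ) := by
      rcases ht r hr with (h | h) | h
      · simp [htop] at h
      · simp [h]
      · simp [h]
    have h := f4top
    simp only [List.all_eq_true, f4topOK, List.mem_range, Bool.or_eq_true, beq_iff_eq] at h
    have h' := (h r hr44 s hs).resolve_left (by simp [h1, h2])
    obtain ⟨hv, he⟩ := f4w_val (oddTerms chevF4 r s) fun m hm => oddTerms_lt ctxF4 hm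
    have hmk : ∀ L : List ℕ, (QuotientGroup.mk (L.map f4gl).prod : GL (Fin 52) (ZMod 11) ⧸ pmOne) =
        (L.map f4cl).prod := by
      intro L
      induction L with
      | nil => rfl
      | cons a L ih => simp only [List.map_cons, List.prod_cons, QuotientGroup.mk_mul, ih, f4cl]
    rw [← hmk]
    simp only [f4cl, ← QuotientGroup.mk_mul]
    refine f4mk_eq ?_ he hv h'
    rw [Units.val_mul, Units.val_mul, f4gl_val hs, f4gl_val hr,
      ← pmat_pmul (f4sq_spec hs).1 (f4sq_spec hr).1, ← pmat_pmul (pvalid_pmul (f4sq_spec hs).1 (f4sq_spec hr).1)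
        (pvalid_pmul (f4sq_spec hs).1 (f4sq_spec hr).1)]
  · intro i r hr ih s hs h1 h2
    have hi := ctxF4.hC.reflect_lt (D := chevF4) i.isLt hs
    have h := ih _ hi (ne_reflect ctxF4 i hr hs h1) (ne_neg_reflect ctxF4 i hr hs h2)
    set n := f4cl (chevF4.simple i.val) *
      (f4cl (chevF4.neg (chevF4.simple i.val)) * f4cl (chevF4.simple i.val)) with hn
    have hc : ∀ a, a < 48 → f4cl (chevF4.reflectRoot i.val a) = n * f4cl a * n⁻¹ := fun a ha => by
      rw [hn, f4cl_conj i ha, mul_inv_cancel_right]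
    rw [oddTerms_reflect ctxF4 i hr hs, List.map_map] at h
    rw [hc s hs, hc r hr] at h
    have hprod : ∀ L : List ℕ, (∀ a ∈ L, a < 48) →
        (L.map (f4cl ∘ chevF4.reflectRoot i.val)).prod = n * (L.map f4cl).prod * n⁻¹ := by
      intro L
      induction L with
      | nil => intro _; simp
      | cons a L ih' =>
        intro hL
        rw [List.map_cons, List.prod_cons, ih' fun b hb => hL b (List.mem_cons_of_mem _ hb),
          Function.comp_apply, hc a (hL a List.mem_cons_self), List.map_cons, List.prod_cons]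
        group
    rw [hprod _ fun a ha => oddTerms_lt ctxF4 ha] at h
    refine mul_left_cancel (mul_right_cancel (b := n⁻¹) ?_) (a := n)
    rw [← h]
    group

theorem f4Singles : oddTerms chevF4 10 40 = [29] ∧ oddTerms chevF4 1 32 = [6] ∧
    oddTerms chevF4 47 3 = [29, 6] ∧ f4w [40, 10, 40, 10] = f4m 29 ∧ f4w [32, 1, 32, 1] = f4m 6 := by
  decide +kernel

universe u

variable {F : Type u} [Field F] [Fintype F] (h2 : Fintype.card F = 2)
include h2

/-- The homomorphism modulo sign. -/
theorem exists_f4Hom : ∃ f : ↥(chevF4.group F) →* GL (Fin 52) (ZMod 11) ⧸ pmOne,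
    ∀ r < 48, f (xg ctxF4 r 1) = f4cl r := by
  classical
  let v : ℕ → F → GL (Fin 52) (ZMod 11) ⧸ pmOne := fun r t => if t = 0 then 1 else f4cl r
  let g : Fin chevF4.nroots × F → GL (Fin 52) (ZMod 11) ⧸ pmOne := fun p => v p.1.val p.2
  have hone : ∀ t : F, t = 0 ∨ t = 1 := fun t => (em (t = 0)).imp id fun h => eq_one_of_ne_zero h2 h
  have hx : ∀ r < 48, ∀ t : F, FreeGroup.lift g (chevF4.stX r t) = v r t := by
    intro r hr t
    rw [ChevalleyDatum.stX, dif_pos (show r < chevF4.nroots from hr), FreeGroup.lift_apply_of]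
  have hw : ∀ w : List (ℕ × F), (∀ p ∈ w, p.1 < 48) →
      FreeGroup.lift g (chevF4.stWord w) = (w.map fun p => v p.1 p.2).prod := by
    intro w
    induction w with
    | nil => intro _; simp [ChevalleyDatum.stWord]
    | cons p w ih =>
      intro h
      have := ih fun q hq => h q (List.mem_cons_of_mem _ hq)
      simp only [ChevalleyDatum.stWord, List.map_cons, List.prod_cons, map_mul] at this ⊢
      rw [this, hx _ (h p List.mem_cons_self)]
  have hrel : ∀ x ∈ chevF4.steinbergRels F, FreeGroup.lift g x = 1 := by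
    rintro x ((⟨r, t, u, hr, rfl⟩ | ⟨r, s, t, u, hr, hs, hne, hne', rfl⟩) | ⟨r, t, u, hr, ht, hu, rfl⟩)
    · simp only [map_mul, map_inv, hx r hr, v]
      rcases hone t with rfl | rfl <;> rcases hone u with rfl | rfl
      · simp
      · simp
      · simp
      · rw [one_add_one h2, if_neg one_ne_zero, if_pos rfl, inv_one, mul_one]
        exact f4cl_sq hr
    · have hlt : ∀ p ∈ chevF4.commWord F r s t u, p.1 < 48 := by
        intro p hp
        obtain ⟨c, hc, rfl⟩ := List.mem_map.1 hp
        exact ctxF4.hC.commTerms_lt (D := chevF4) c hc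
      simp only [map_mul, map_inv, hx r hr, hx s hs, hw _ hlt]
      rw [mul_inv_eq_one]
      by_cases h0 : t = 0 ∨ u = 0
      · have hz : ((chevF4.commWord F r s t u).map fun p => v p.1 p.2).prod = 1 := by
          refine List.prod_eq_one fun x hx' => ?_
          obtain ⟨p, hp, rfl⟩ := List.mem_map.1 hx'
          obtain ⟨c, hc, rfl⟩ := List.mem_map.1 hp
          obtain ⟨hi, hj, -⟩ := ctxF4.hC.commTerms_co (D := chevF4) hr hs c hc
          refine if_pos ?_
          rcases h0 with rfl | rfl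
          · simp [zero_pow (by omega : c.2.2.1 ≠ 0)]
          · simp [zero_pow (by omega : c.2.2.2 ≠ 0)]
        rw [hz]
        rcases h0 with rfl | rfl <;> simp [v] <;> split <;> simp
      push Not at h0
      obtain rfl := eq_one_of_ne_zero h2 h0.1
      obtain rfl := eq_one_of_ne_zero h2 h0.2
      have hrc := f4cl_comm r hr s hs hne hne'
      have hi1 : ∀ a, a < 48 → (f4cl a)⁻¹ = f4cl a := fun a ha =>
        inv_eq_of_mul_eq_one_right (f4cl_sq ha)
      have e : ∀ L : List (ℕ × ℤ × ℕ × ℕ),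
          ((L.map fun c => (c.1, (c.2.1 : F) * (-1) ^ c.2.2.1 * 1 ^ c.2.2.2)).map
              fun p => v p.1 p.2).prod =
            (((L.filter fun c => c.2.1.natAbs % 2 == 1).map Prod.fst).map f4cl).prod := by
        intro L
        induction L with
        | nil => rfl
        | cons c L ih =>
          simp only [List.map_cons, List.prod_cons, List.filter_cons]
          rw [ih, neg_one_eq h2, one_pow, one_pow, mul_one, mul_one, cast_odd_even h2]
          split
          · simp [v]
          · simp [v]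
      rw [show chevF4.commWord F r s 1 1 = ((chevF4.commTerms r s).map fun c =>
        (c.1, (c.2.1 : F) * (-1) ^ c.2.2.1 * 1 ^ c.2.2.2)) from rfl, e]
      refine Eq.trans ?_ hrc
      simp [v, hi1 r hr, hi1 s hs, mul_assoc]
    · obtain rfl := eq_one_of_ne_zero h2 ht
      obtain rfl := eq_one_of_ne_zero h2 hu
      rw [mul_one, map_mul, map_inv, map_mul, mul_inv_cancel_right]
      have hn : chevF4.neg r < 48 := ctxF4.hC.neg_lt (D := chevF4) hr
      rw [ChevalleyDatum.stH, hw _ (by
        intro p hp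
        simp only [ChevalleyDatum.hWord, ChevalleyDatum.nWord, List.mem_append, List.mem_cons,
          List.not_mem_nil, or_false] at hp
        rcases hp with (rfl | rfl | rfl) | rfl | rfl | rfl <;> first | exact hr | exact hn)]
      simp only [ChevalleyDatum.hWord, ChevalleyDatum.nWord, List.map_append, List.map_cons,
        List.map_nil, List.prod_append, List.prod_cons, List.prod_nil, mul_one, inv_one, v,
        neg_one_eq h2, one_ne_zero, if_false]
      simp only [f4cl, ← QuotientGroup.mk_mul]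
      rw [← QuotientGroup.mk_one]
      refine f4mk_eq ?_ (by rw [Units.val_one, pmat_psc_one]) pvalid_psc_one (f4sq_spec hr).2.2
      simp only [Units.val_mul, f4gl_val hr, f4gl_val hn]
      rw [← pmat_pmul (f4sq_spec hn).1 (f4sq_spec hr).1, ← pmat_pmul (f4sq_spec hr).1 (pvalid_pmul (f4sq_spec hn).1 (f4sq_spec hr).1),
        ← pmat_pmul (pvalid_pmul (f4sq_spec hr).1 (pvalid_pmul (f4sq_spec hn).1 (f4sq_spec hr).1))
          (pvalid_pmul (f4sq_spec hr).1 (pvalid_pmul (f4sq_spec hn).1 (f4sq_spec hr).1))]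
  obtain ⟨θ₀, hθ₀⟩ := H53.exists_stHom (F := F) ctxF4.hC
  have hP : H53.HasPairs chevF4 := H53.hasPairs_of_mem (by simp)
  have hS := H53.stSys_rel θ₀ hθ₀
  set θ := H53.ChevSys.thetaG ctxF4.hC ctxF4.hok hS hP with hθ
  have hi : Function.Injective θ := by
    rw [← MonoidHom.ker_eq_bot_iff, H53.ChevSys.ker_eq_center ctxF4.hC ctxF4.W ctxF4.hok hS hP]
    refine H53.center_eq_bot_of_injective ctxF4.hC ctxF4.W hP ctxF4.hok fun a b _ => ?_
    exact funext fun i => by rw [units_eq_one h2 (a i), units_eq_one h2 (b i)]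
  let em' := MulEquiv.ofBijective θ
    ⟨hi, H53.ChevSys.thetaG_surjective ctxF4.hC ctxF4.W ctxF4.hok hS hP⟩
  refine ⟨(PresentedGroup.toGroup hrel).comp em'.symm.toMonoidHom, fun r hr => ?_⟩
  have : em'.symm (xg ctxF4 r (1 : F)) = chevF4.stGen F r 1 := by
    rw [MulEquiv.symm_apply_eq]
    exact Subtype.ext (hθ₀ r hr 1).symm
  show PresentedGroup.toGroup hrel (em'.symm _) = _
  rw [this]
  show PresentedGroup.toGroup hrel (PresentedGroup.mk _ (chevF4.stX r 1)) = _
  rw [ChevalleyDatum.stX, dif_pos (show r < chevF4.nroots from hr)]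
  refine (PresentedGroup.toGroup.of hrel).trans ?_
  simp [g, v]

set_option maxHeartbeats 400000 in
/-- A stem extension with kernel of order two. -/
theorem exists_f4Cover : ∃ (Γ : Type u) (_ : Group Γ) (_ : Finite Γ)
    (σ : Γ →* ↥(chevF4.group F)), Cfsg.IsStemExtension σ ∧
      Nonempty (σ.ker ≃* Multiplicative (ZMod 2)) := by
  classical
  obtain ⟨f, hf⟩ := exists_f4Hom h2
  let P : Subgroup (GL (Fin 52) (ZMod 11) × ↥(chevF4.group F)) :=
    ((QuotientGroup.mk' pmOne).comp (MonoidHom.fst _ _)).eqLocus (f.comp (MonoidHom.snd _ _))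
  let π₀ : P →* ↥(chevF4.group F) := (MonoidHom.snd _ _).comp P.subtype
  have h₀s : Function.Surjective π₀ := fun x => by
    obtain ⟨a, ha⟩ := QuotientGroup.mk'_surjective _ (f x)
    exact ⟨⟨(a, x), ha⟩, rfl⟩
  have h₀k : ∀ z ∈ π₀.ker, z.val.1 ∈ pmOne ∧ z.val.2 = 1 := by
    rintro ⟨⟨a, x⟩, hax⟩ hz
    have hx : x = 1 := hz
    subst hx
    refine ⟨(QuotientGroup.eq_one_iff a).1 ?_, rfl⟩
    exact hax.trans (map_one f)
  have h₀c : π₀.ker ≤ center P := fun z hz => mem_center_iff.2 fun g => by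
    obtain ⟨h1, h2'⟩ := h₀k z hz
    refine Subtype.ext (Prod.ext (mem_center_iff.1 (pmOne_central h1) _) ?_)
    show g.val.2 * z.val.2 = z.val.2 * g.val.2
    rw [h2', mul_one, one_mul]
  let π : ↥(commutator P) →* ↥(chevF4.group F) := π₀.comp (commutator P).subtype
  have hperf : commutator ↥(chevF4.group F) = ⊤ := H52.group_perfect (by simp) (by
    rintro (h | h) <;> exact absurd (congrArg ChevalleyDatum.nroots h) (by decide))
  have hs : Function.Surjective π := fun x => by
    have hx : x ∈ (commutator P).map π₀ := by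
      rw [map_commutator_eq, MonoidHom.range_eq_top.2 h₀s, ← _root_.commutator_def, hperf]
      exact mem_top _
    obtain ⟨y, hy, rfl⟩ := hx
    exact ⟨⟨y, hy⟩, rfl⟩
  have hc : π.ker ≤ center ↥(commutator P) := fun z hz =>
    mem_center_iff.2 fun g => Subtype.ext (mem_center_iff.1 (h₀c hz) g)
  have hperfP : commutator ↥(commutator P) = ⊤ := by
    apply Subgroup.map_injective (commutator P).subtype_injective
    rw [Subgroup.map_subtype_commutator, ← MonoidHom.range_eq_map, Subgroup.range_subtype]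
    apply le_antisymm (commutator P).commutator_le_self
    refine Subgroup.commutator_le.2 fun a _ b _ => ?_
    obtain ⟨a', ha'⟩ := hs (π₀ a)
    obtain ⟨b', hb'⟩ := hs (π₀ b)
    rw [Cover.comm_congr π₀ h₀c (x' := (a' : P)) (y' := (b' : P)) ha'.symm hb'.symm]
    exact commutator_mem_commutator a'.2 b'.2
  let e : ∀ r : ℕ, r < 48 → P := fun r hr => ⟨(f4gl r, xg ctxF4 r (1 : F)), (hf r hr).symm⟩
  have hinv : ∀ r, r < 48 → (f4gl r)⁻¹ = f4gl r := fun r hr =>
    inv_eq_of_mul_eq_one_right (f4gl_sq hr)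
  -- the commutator of two lifts, on both coordinates
  have hcm : ∀ a b (ha : a < 48) (hb : b < 48), b ≠ a → b ≠ chevF4.neg a →
      ((⁅e b hb, e a ha⁆).val.1 : Matrix (Fin 52) (Fin 52) (ZMod 11)) = pmat (f4w [b, a, b, a]) ∧
      (⁅e b hb, e a ha⁆).val.2 = ((oddTerms chevF4 a b).map fun m => xg ctxF4 m (1 : F)).prod := by
    intro a b ha hb h1 h1'
    refine ⟨?_, xg_comm_odd ctxF4 h2 (r := a) (s := b) ha hb h1 h1'⟩
    rw [← (f4w_val [b, a, b, a] (by simp [ha, hb])).2]
    show ((⁅f4gl b, f4gl a⁆ : GL (Fin 52) (ZMod 11)) : Matrix (Fin 52) (Fin 52) (ZMod 11)) = _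
    rw [commutatorElement_def, hinv a ha, hinv b hb]
    simp [mul_assoc]
  obtain ⟨o29, o6, o47, w29, w6⟩ : oddTerms chevF4 10 40 = [29] ∧ oddTerms chevF4 1 32 = [6] ∧
      oddTerms chevF4 47 3 = [29, 6] ∧ f4w [40, 10, 40, 10] = f4m 29 ∧ f4w [32, 1, 32, 1] = f4m 6 :=
    f4Singles
  obtain ⟨a1, a2⟩ := hcm 10 40 (by norm_num) (by norm_num) (by norm_num) (by decide +kernel)
  obtain ⟨b1, b2⟩ := hcm 1 32 (by norm_num) (by norm_num) (by norm_num) (by decide +kernel)
  obtain ⟨c1, c2⟩ := hcm 47 3 (by norm_num) (by norm_num) (by norm_num) (by decide +kernel)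
  set u29 : P := ⁅e 40 (by norm_num), e 10 (by norm_num)⁆
  set u6 : P := ⁅e 32 (by norm_num), e 1 (by norm_num)⁆
  set c : P := ⁅e 3 (by norm_num), e 47 (by norm_num)⁆
  rw [o29] at a2; rw [o6] at b2; rw [o47] at c2
  simp only [List.map_cons, List.map_nil, List.prod_cons, List.prod_nil, mul_one] at a2 b2 c2
  have hzmem : c * (u29 * u6)⁻¹ ∈ commutator P :=
    mul_mem (commutator_mem_commutator (mem_top _) (mem_top _)) (inv_mem (mul_mem
      (commutator_mem_commutator (mem_top _) (mem_top _))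
      (commutator_mem_commutator (mem_top _) (mem_top _))))
  have hzker : (⟨_, hzmem⟩ : ↥(commutator P)) ∈ π.ker := by
    show c.val.2 * (u29.val.2 * u6.val.2)⁻¹ = 1
    rw [a2, b2, c2, mul_inv_cancel]
  clear_value c u29 u6
  have hne : ∃ z : π.ker, z ≠ 1 := by
    refine ⟨⟨_, hzker⟩, fun h => ?_⟩
    have h1 := congrArg (fun z : π.ker => (z : ↥(commutator P))) h
    simp only [OneMemClass.coe_one] at h1
    have h2' := congrArg Subtype.val h1
    simp only [OneMemClass.coe_one] at h2'
    have h3 := congrArg (fun z : P => z.val) h2'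
    simp only [OneMemClass.coe_one, Subgroup.coe_mul, InvMemClass.coe_inv] at h3
    have h' := congrArg Prod.fst h3
    simp only [Prod.fst_mul, Prod.fst_inv, Prod.fst_one] at h'
    rw [mul_inv_eq_one] at h'
    have hm := congrArg (fun g : GL (Fin 52) (ZMod 11) => (g : Matrix (Fin 52) (Fin 52) (ZMod 11))) h'
    simp only [Units.val_mul] at hm
    have hs' := f4sign
    simp only [f4signOK, beq_iff_eq] at hs'
    rw [w29] at a1; rw [w6] at b1
    rw [hs', pmat_pmul pvalid_psc_ten (f4w_val [29, 6] (by simp)).1, pmat_psc_ten,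
      ← (f4w_val [29, 6] (by simp)).2] at c1
    simp only [List.map_cons, List.map_nil, List.prod_cons, List.prod_nil, mul_one, Units.val_mul] at c1
    rw [a1, b1, ← f4gl_val (r := 29) (by norm_num), ← f4gl_val (r := 6) (by norm_num)] at hm
    rw [hm] at c1
    have e' : ((f4gl 29 * f4gl 6 : GL (Fin 52) (ZMod 11))) = -1 * (f4gl 29 * f4gl 6) := Units.ext (by
      simpa only [Units.val_mul, Units.val_neg, Units.val_one] using c1)
    have e2 := mul_right_cancel ((one_mul (f4gl 29 * f4gl 6)).trans e')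
    exact absurd (congrArg (fun g : GL (Fin 52) (ZMod 11) =>
      (g : Matrix (Fin 52) (Fin 52) (ZMod 11)) 0 0) e2) (by decide)
  have hcardle : ∀ z : π.ker, ((z : ↥(commutator P)) : P).val.1 ∈ pmOne := fun z => (h₀k _ z.2).1
  have hinj : Function.Injective fun z : π.ker => ((z : ↥(commutator P)) : P).val.1 := fun x y h =>
    Subtype.ext (Subtype.ext (Subtype.ext (Prod.ext h ((h₀k _ x.2).2.trans (h₀k _ y.2).2.symm))))
  have : Finite π.ker := Finite.of_injective (fun z => ((z : ↥(commutator P)) : P).val.1) hinj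
  have hcard : Nat.card π.ker = 2 := by
    obtain ⟨z, hz⟩ := hne
    have hval : ∀ w : π.ker, w = 1 ∨ w = z := by
      intro w
      rcases mem_pmOne (hcardle w) with hw | hw
      · exact Or.inl (hinj (by exact hw))
      · rcases mem_pmOne (hcardle z) with hz' | hz'
        · exact absurd (hinj (by exact hz')) hz
        · exact Or.inr (hinj (hw.trans hz'.symm))
    have e' : (Set.univ : Set π.ker) = {1, z} := Set.ext fun w => by simpa using hval w
    rw [← Set.ncard_univ, e', Set.ncard_pair hz.symm]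
  refine ⟨↥(commutator P), inferInstance, inferInstance, π, ⟨hs, hc, hperfP ▸ le_top⟩, ?_⟩
  exact ker_two_equiv π hcard

end H76.Exc
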