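import Cfsg.Agent.H76.F4TwoOdd
import Cfsg.Agent.H76.D4TwoMultiplier

/-!
The multiplier of the group of type F₄ over two elements has order at most two.
-/

set_option autoImplicit false
set_option linter.unusedSectionVars false
set_option maxRecDepth 100000
set_option maxHeartbeats 400000

namespace H76.Exc

open Cfsg.Lie Subgroup
open scoped commutatorElement

/-- A copy of D₄ on the long roots. -/
def d4Long : List ℕ :=
  [0, 1, 4, 2, 5, 6, 15, 21, 16, 23, 22, 17, 30, 25, 24, 31, 26, 32, 41, 42, 45, 43, 46, 47]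

/-- A copy of D₄ on the short roots. -/
def d4Short : List ℕ :=
  [3, 7, 9, 8, 11, 18, 10, 13, 12, 14, 20, 19, 28, 27, 33, 35, 34, 37, 29, 36, 39, 38, 40, 44]

/-- The list is an embedding of the relations of D₄ over two elements. -/
def d4MapOK (L : List ℕ) : Bool :=
  (List.range 24).all fun a => decide (L.getD a 0 < 48) &&
    (L.getD (chevD4.neg a) 0 == chevF4.neg (L.getD a 0)) &&
    (List.range 24).all fun b => (b == a) || (b == chevD4.neg a) ||
      ((L.getD b 0 != L.getD a 0) && (L.getD b 0 != chevF4.neg (L.getD a 0)) &&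
        (oddTerms chevF4 (L.getD a 0) (L.getD b 0) ==
          (oddTerms chevD4 a b).map fun k => L.getD k 0))

/-- The three kinds of D₄ go to one pair. -/
def d4KindOK (L : List ℕ) (t : ℕ × ℕ) (ws : List (ℕ × List ℕ)) : Bool :=
  commOdd chevF4 (L.getD 23 0) t.2 && (L.getD 23 0 == t.1) && ws.all fun p =>
    p.2.all (fun i => decide (i < 4)) && commOdd chevF4 t.1 (L.getD p.1 0) &&
      (wordRun chevF4 (L.getD 23 0) p.2 == t.1) && (wordRun chevF4 (L.getD p.1 0) p.2 == t.2)

theorem d4MapLong : d4MapOK d4Long = true := by decide +kernel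
theorem d4MapShort : d4MapOK d4Short = true := by decide +kernel
theorem d4KindLong : d4KindOK d4Long (47, 6) [(5, []), (10, [0, 1]), (11, [0])] = true := by
  decide +kernel
theorem d4KindShort : d4KindOK d4Short (44, 18) [(5, []), (10, [3, 2]), (11, [3])] = true := by
  decide +kernel

/-- Words carrying the commuting pairs without decomposition to one of two. -/
def badWords : List (ℕ × ℕ × ℕ × List ℕ) :=
  [(44, 18, 18, []), (44, 19, 18, [3]), (44, 20, 18, [3, 2]), (44, 27, 18, [3, 2, 1]),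
    (44, 28, 18, [3, 2, 1, 2]), (44, 29, 18, [3, 2, 1, 2, 3]),
    (47, 6, 6, []), (47, 17, 6, [0]), (47, 22, 6, [0, 1]), (47, 25, 6, [0, 1, 2]),
    (47, 30, 6, [0, 1, 2, 1]), (47, 41, 6, [0, 1, 2, 1, 0])]

/-- Words carrying the pairs with two terms to one pair. -/
def twoWords : List (ℕ × ℕ × List ℕ) :=
  [(44, 0, [3, 2, 1, 2, 0, 1, 2, 3, 2, 1, 2, 0, 1, 2, 3, 0, 1, 2, 1, 0]),
    (44, 1, [0, 1, 2, 3, 2, 1, 2, 0, 1, 2, 3, 2, 1, 2, 0, 1, 2, 1, 0]),
    (44, 2, [0, 1, 2, 3, 2, 1, 2, 0, 1, 2, 3, 2, 0, 1, 2, 0, 1, 0]),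
    (44, 4, [0, 1, 2, 3, 2, 1, 2, 0, 1, 2, 3, 2, 0, 1, 2, 1, 0]),
    (44, 5, [0, 1, 2, 3, 2, 1, 2, 0, 1, 2, 3, 0, 1, 2, 1, 0]),
    (44, 6, [0, 1, 2, 3, 1, 2, 0, 1, 2, 3, 0, 1, 2, 1, 0]),
    (47, 3, []), (47, 7, [0]), (47, 8, [0, 1]), (47, 9, [0, 1, 2]), (47, 11, [0, 1, 2, 1]),
    (47, 18, [0, 1, 2, 1, 0])]

/-- The top roots. -/
def f4TopOK : Bool :=
  (List.range 48).all fun r => !topRoot chevF4 r || (((r == 44) || (r == 47)) &&
    (List.range 48).all fun s =>
      ((!commOdd chevF4 r s) || (s == r) || decompOdd chevF4 r s || badWords.any fun p =>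
          (p.1 == r) && (p.2.1 == s) && p.2.2.2.all (fun i => decide (i < 4)) &&
            (wordRun chevF4 r p.2.2.2 == r) && (wordRun chevF4 s p.2.2.2 == p.2.2.1) &&
            (((r == 44) && (p.2.2.1 == 18)) || ((r == 47) && (p.2.2.1 == 6)))) &&
        ((s == r) || (s == chevF4.neg r) || Nat.blt (oddTerms chevF4 r s).length 2 ||
          twoWords.any fun p => (p.1 == r) && (p.2.1 == s) && p.2.2.all (fun i => decide (i < 4)) &&
            (((wordRun chevF4 r p.2.2 == 47) && (wordRun chevF4 s p.2.2 == 3)) ||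
              ((wordRun chevF4 r p.2.2 == 3) && (wordRun chevF4 s p.2.2 == 47)))))

theorem f4TopCases : f4TopOK = true := by decide +kernel
theorem joinF4 : joinOddOK chevF4 = true := by decide +kernel
theorem splitF4 : splitOddOK chevF4 = true := by decide +kernel

/-- Facts on the pair with two terms. -/
theorem f4TwoFacts : oddTerms chevF4 47 3 = [29, 6] ∧ (3 : ℕ) ≠ 47 ∧ (3 : ℕ) ≠ chevF4.neg 47 ∧
    commOdd chevF4 3 29 = true ∧ commOdd chevF4 3 6 = true ∧ commOdd chevF4 29 6 = true ∧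
    (29 ∈ tgt chevF4 3 47 ∧ 6 ∈ tgt chevF4 3 47) ∧ (29 ∈ tgt chevF4 47 3 ∧ 6 ∈ tgt chevF4 47 3) := by
  decide +kernel

universe u

/-- A stem extension over a perfect group mapping to a given central extension. -/
theorem exists_stem_over {Γ G H : Type u} [Group Γ] [Group G] [Group H] {π : Γ →* G}
    (hs : Function.Surjective π) (hc : π.ker ≤ center Γ) (φ : H →* G) (hH : commutator H = ⊤) :
    ∃ (Δ : Type u) (_ : Group Δ) (σ : Δ →* H) (ψ : Δ →* Γ),
      Function.Surjective σ ∧ σ.ker ≤ center Δ ∧ σ.ker ≤ commutator Δ ∧ π.comp ψ = φ.comp σ := by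
  let P : Subgroup (Γ × H) := (π.comp (MonoidHom.fst _ _)).eqLocus (φ.comp (MonoidHom.snd _ _))
  let π₀ : P →* H := (MonoidHom.snd _ _).comp P.subtype
  have h₀s : Function.Surjective π₀ := fun x => by
    obtain ⟨a, ha⟩ := hs (φ x)
    exact ⟨⟨(a, x), ha⟩, rfl⟩
  have h₀c : π₀.ker ≤ center P := by
    rintro ⟨⟨a, x⟩, hax⟩ hz
    have hx : x = 1 := hz
    subst hx
    have ha : a ∈ center Γ := hc (hax.trans (map_one φ))
    refine mem_center_iff.2 fun g => Subtype.ext (Prod.ext (mem_center_iff.1 ha _) ?_)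
    show g.val.2 * 1 = 1 * g.val.2
    rw [mul_one, one_mul]
  let σ : ↥(commutator P) →* H := π₀.comp (commutator P).subtype
  have hσ : Function.Surjective σ := fun x => by
    have hx : x ∈ (commutator P).map π₀ := by
      rw [map_commutator_eq, MonoidHom.range_eq_top.2 h₀s, ← _root_.commutator_def, hH]
      exact mem_top _
    obtain ⟨y, hy, rfl⟩ := hx
    exact ⟨⟨y, hy⟩, rfl⟩
  have hperf : commutator ↥(commutator P) = ⊤ := by
    apply Subgroup.map_injective (commutator P).subtype_injective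
    rw [Subgroup.map_subtype_commutator, ← MonoidHom.range_eq_map, Subgroup.range_subtype]
    apply le_antisymm (commutator P).commutator_le_self
    refine Subgroup.commutator_le.2 fun a _ b _ => ?_
    obtain ⟨a', ha'⟩ := hσ (π₀ a)
    obtain ⟨b', hb'⟩ := hσ (π₀ b)
    rw [Cover.comm_congr π₀ h₀c (x' := (a' : P)) (y' := (b' : P)) ha'.symm hb'.symm]
    exact commutator_mem_commutator a'.2 b'.2
  exact ⟨↥(commutator P), inferInstance, σ,
    (MonoidHom.fst _ _).comp (P.subtype.comp (commutator P).subtype), hσ,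
    fun z hz => mem_center_iff.2 fun g => Subtype.ext (mem_center_iff.1 (h₀c hz) g),
    hperf ▸ le_top, MonoidHom.ext fun z => (z : P).2⟩

variable {F : Type u} [Field F] [Fintype F] (h2 : Fintype.card F = 2)
include h2

theorem f4_xh_one (r : ℕ) (hr : r < 48) :
    (xg ctxF4 r (1 : F) * xg ctxF4 (chevF4.neg r) 1 * xg ctxF4 r 1) *
      (xg ctxF4 r (1 : F) * xg ctxF4 (chevF4.neg r) 1 * xg ctxF4 r 1) = 1 := by
  apply Subtype.ext
  have h := ctxF4.hC.hElt_eq_torus (F := F) (D := chevF4) (r := r) hr (1 : Fˣ)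
  simp only [one_zpow, Units.val_one] at h
  rw [show (fun _ : Fin chevF4.rank => (1 : Fˣ)) = 1 from rfl, map_one] at h
  simp only [H52.hElt, H52.wordRt, ChevalleyDatum.hWord, ChevalleyDatum.nWord, List.map_append,
    List.map_cons, List.map_nil, List.prod_append, List.prod_cons, List.prod_nil, mul_one, inv_one,
    neg_one_eq h2] at h
  simp only [Subgroup.coe_mul, Subgroup.coe_one, mul_assoc] at h ⊢
  exact h

/-- The map from D₄ given by a list. -/
theorem exists_d4Hom {L : List ℕ} (hL : d4MapOK L = true) :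
    ∃ φ : ↥(chevD4.group F) →* ↥(chevF4.group F),
      ∀ d < 24, φ (xg ctxD4 d 1) = xg ctxF4 (L.getD d 0) 1 := by
  classical
  simp only [d4MapOK, List.all_eq_true, List.mem_range, Bool.and_eq_true, decide_eq_true_eq,
    beq_iff_eq] at hL
  let v : ℕ → F → ↥(chevF4.group F) := fun r t => if t = 0 then 1 else xg ctxF4 (L.getD r 0) 1
  let g : Fin chevD4.nroots × F → ↥(chevF4.group F) := fun p => v p.1.val p.2
  have hx : ∀ r < 24, ∀ t : F, FreeGroup.lift g (chevD4.stX r t) = v r t := by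
    intro r hr t
    rw [ChevalleyDatum.stX, dif_pos (show r < chevD4.nroots from hr), FreeGroup.lift_apply_of]
  have hw : ∀ w : List (ℕ × F), (∀ p ∈ w, p.1 < 24) →
      FreeGroup.lift g (chevD4.stWord w) = (w.map fun p => v p.1 p.2).prod := by
    intro w
    induction w with
    | nil => intro _; simp [ChevalleyDatum.stWord]
    | cons p w ih =>
      intro h
      have := ih fun q hq => h q (List.mem_cons_of_mem _ hq)
      simp only [ChevalleyDatum.stWord, List.map_cons, List.prod_cons, map_mul] at this ⊢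
      rw [this, hx _ (h p List.mem_cons_self)]
  have hrel : ∀ x ∈ chevD4.steinbergRels F, FreeGroup.lift g x = 1 := by
    rintro x ((⟨r, t, u, hr, rfl⟩ | ⟨r, s, t, u, hr, hs, hne, hne', rfl⟩) | ⟨r, t, u, hr, ht, hu, rfl⟩)
    · simp only [map_mul, map_inv, hx r hr, v]
      rcases zero_or_one h2 t with rfl | rfl <;> rcases zero_or_one h2 u with rfl | rfl
      · simp
      · simp
      · simp
      · rw [one_add_one h2, if_neg one_ne_zero, if_pos rfl, inv_one, mul_one, xg_add,
          one_add_one h2, xg_zero]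
    · have hlt : ∀ p ∈ chevD4.commWord F r s t u, p.1 < 24 := by
        intro p hp
        obtain ⟨c, hc, rfl⟩ := List.mem_map.1 hp
        exact ctxD4.hC.commTerms_lt (D := chevD4) c hc
      simp only [map_mul, map_inv, hx r hr, hx s hs, hw _ hlt]
      rw [mul_inv_eq_one]
      by_cases h0 : t = 0 ∨ u = 0
      · have hz : ((chevD4.commWord F r s t u).map fun p => v p.1 p.2).prod = 1 := by
          refine List.prod_eq_one fun x hx' => ?_
          obtain ⟨p, hp, rfl⟩ := List.mem_map.1 hx'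
          obtain ⟨c, hc, rfl⟩ := List.mem_map.1 hp
          obtain ⟨hi, hj, -⟩ := ctxD4.hC.commTerms_co (D := chevD4) hr hs c hc
          refine if_pos ?_
          rcases h0 with rfl | rfl
          · simp [zero_pow (by omega : c.2.2.1 ≠ 0)]
          · simp [zero_pow (by omega : c.2.2.2 ≠ 0)]
        rw [hz]
        rcases h0 with rfl | rfl <;> simp [v] <;> split <;> simp
      push Not at h0
      obtain rfl := eq_one_of_ne_zero h2 h0.1
      obtain rfl := eq_one_of_ne_zero h2 h0.2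
      obtain ⟨⟨hr48, -⟩, hall⟩ := hL r hr
      have hs48 := (hL s hs).1.1
      have hb := hall s hs
      simp only [Bool.or_eq_true, beq_iff_eq, Bool.and_eq_true, bne_iff_ne] at hb
      obtain ⟨⟨k1, k2⟩, k3⟩ := hb.resolve_left (by simp [hne, hne'])
      have hcm := xg_comm_odd ctxF4 h2 (F := F) (r := L.getD r 0) (s := L.getD s 0) hr48 hs48 k1 k2
      rw [k3, List.map_map] at hcm
      have e : ∀ M : List (ℕ × ℤ × ℕ × ℕ),
          ((M.map fun c => (c.1, (c.2.1 : F) * (-1) ^ c.2.2.1 * 1 ^ c.2.2.2)).map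
              fun p => v p.1 p.2).prod =
            (((M.filter fun c => c.2.1.natAbs % 2 == 1).map Prod.fst).map
              fun k => xg ctxF4 (L.getD k 0) (1 : F)).prod := by
        intro M
        induction M with
        | nil => rfl
        | cons c M ih =>
          simp only [List.map_cons, List.prod_cons, List.filter_cons]
          rw [ih, neg_one_eq h2, one_pow, one_pow, mul_one, mul_one, cast_odd_even h2]
          split
          · simp [v]
          · simp [v]
      rw [show chevD4.commWord F r s 1 1 = ((chevD4.commTerms r s).map fun c =>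
        (c.1, (c.2.1 : F) * (-1) ^ c.2.2.1 * 1 ^ c.2.2.2)) from rfl, e]
      refine Eq.trans ?_ hcm
      simp [v, commutatorElement_def, xg_self_inv ctxF4 h2, mul_assoc]
    · obtain rfl := eq_one_of_ne_zero h2 ht
      obtain rfl := eq_one_of_ne_zero h2 hu
      rw [mul_one, map_mul, map_inv, map_mul, mul_inv_cancel_right]
      have hn : chevD4.neg r < 24 := ctxD4.hC.neg_lt (D := chevD4) hr
      rw [ChevalleyDatum.stH, hw _ (by
        intro p hp
        simp only [ChevalleyDatum.hWord, ChevalleyDatum.nWord, List.mem_append, List.mem_cons,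
          List.not_mem_nil, or_false] at hp
        rcases hp with (rfl | rfl | rfl) | rfl | rfl | rfl <;> first | exact hr | exact hn)]
      simp only [ChevalleyDatum.hWord, ChevalleyDatum.nWord, List.map_append, List.map_cons,
        List.map_nil, List.prod_append, List.prod_cons, List.prod_nil, mul_one, inv_one, v,
        neg_one_eq h2, one_ne_zero, if_false, (hL r hr).1.2]
      simpa only [mul_assoc] using f4_xh_one h2 _ (hL r hr).1.1
  obtain ⟨θ₀, hθ₀⟩ := H53.exists_stHom (F := F) ctxD4.hC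
  have hP : H53.HasPairs chevD4 := H53.hasPairs_of_mem (by simp)
  have hS := H53.stSys_rel θ₀ hθ₀
  set θ := H53.ChevSys.thetaG ctxD4.hC ctxD4.hok hS hP with hθ
  have hi : Function.Injective θ := by
    rw [← MonoidHom.ker_eq_bot_iff, H53.ChevSys.ker_eq_center ctxD4.hC ctxD4.W ctxD4.hok hS hP]
    refine H53.center_eq_bot_of_injective ctxD4.hC ctxD4.W hP ctxD4.hok fun a b _ => ?_
    exact funext fun i => by rw [units_eq_one h2 (a i), units_eq_one h2 (b i)]
  let em' := MulEquiv.ofBijective θ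
    ⟨hi, H53.ChevSys.thetaG_surjective ctxD4.hC ctxD4.W ctxD4.hok hS hP⟩
  refine ⟨(PresentedGroup.toGroup hrel).comp em'.symm.toMonoidHom, fun r hr => ?_⟩
  have : em'.symm (xg ctxD4 r (1 : F)) = chevD4.stGen F r 1 := by
    rw [MulEquiv.symm_apply_eq]
    exact Subtype.ext (hθ₀ r hr 1).symm
  show PresentedGroup.toGroup hrel (em'.symm _) = _
  rw [this]
  show PresentedGroup.toGroup hrel (PresentedGroup.mk _ (chevD4.stX r 1)) = _
  rw [ChevalleyDatum.stX, dif_pos (show r < chevD4.nroots from hr)]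
  refine (PresentedGroup.toGroup.of hrel).trans ?_
  simp [g, v]

variable {Γ : Type u} [Group Γ] {π : Γ →* ↥(chevF4.group F)} (hs : Function.Surjective π)
  (hc : π.ker ≤ center Γ)

omit h2 [Fintype F] in
/-- The commutator of chosen lifts. -/
noncomputable def f4rc (r s : ℕ) : Γ :=
  ⁅Function.surjInv hs (xg ctxF4 r (1 : F)), Function.surjInv hs (xg ctxF4 s (1 : F))⁆

include hs hc

omit h2 in
theorem f4rc_eq {r s : ℕ} {a b : Γ} (ha : π a = xg ctxF4 r 1) (hb : π b = xg ctxF4 s 1) :
    ⁅a, b⁆ = f4rc hs r s :=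
  Cover.comm_congr π hc (ha.trans (Function.surjInv_eq hs _).symm)
    (hb.trans (Function.surjInv_eq hs _).symm)

theorem f4rc_center {r s : ℕ} (hr : r < 48) (hs' : s < 48) (h : commOdd chevF4 r s = true) :
    f4rc hs r s ∈ center Γ := hc (by
  rw [MonoidHom.mem_ker, f4rc, map_commutatorElement, Function.surjInv_eq hs,
    Function.surjInv_eq hs, commutatorElement_eq_one_iff_commute]
  exact commOdd_spec ctxF4 h2 hr hs' h 1 1)

theorem f4rc_word : ∀ (w : List ℕ), (∀ i ∈ w, i < 4) → ∀ {r s : ℕ}, r < 48 → s < 48 →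
    commOdd chevF4 r s = true →
    f4rc hs (wordRun chevF4 r w) (wordRun chevF4 s w) = f4rc hs r s ∧
      commOdd chevF4 (wordRun chevF4 r w) (wordRun chevF4 s w) = true := by
  intro w
  induction w with
  | nil => intro _ r s _ _ h; exact ⟨rfl, h⟩
  | cons i w ih =>
    intro hw r s hr hs' h
    have hw' : ∀ j ∈ w, j < chevF4.rank := fun j hj => hw j (List.mem_cons_of_mem _ hj)
    obtain ⟨h1, h5⟩ := ih hw' hr hs' h
    have h3 := wordRun_lt ctxF4 w hw' hr
    have h4 := wordRun_lt ctxF4 w hw' hs'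
    have hi : i < chevF4.rank := hw i List.mem_cons_self
    refine ⟨?_, commOdd_reflect ctxF4 ⟨i, hi⟩ h3 h4 h5⟩
    obtain ⟨g, hg⟩ := hs (ng ctxF4 (⟨i, hi⟩ : Fin chevF4.rank))
    have e : ∀ q, q < 48 → π (g * Function.surjInv hs (xg ctxF4 q (1 : F)) * g⁻¹) =
        xg ctxF4 (chevF4.reflectRoot i q) 1 := by
      intro q hq
      rw [map_mul, map_mul, map_inv, hg, Function.surjInv_eq hs,
        ng_conj ctxF4 ⟨i, hi⟩ (show q < chevF4.nroots from hq), mul_one,
        eq_one_of_ne_zero h2 (eps_ne_zero ctxF4 _ _)]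
    rw [← h1]
    show f4rc hs (chevF4.reflectRoot i (wordRun chevF4 r w)) (chevF4.reflectRoot i (wordRun chevF4 s w)) = _
    rw [← f4rc_eq hs hc (e _ h3) (e _ h4), ← conjugate_commutatorElement]
    show g * f4rc hs _ _ * g⁻¹ = _
    rw [mem_center_iff.1 (f4rc_center h2 hs hc h3 h4 h5) g, mul_inv_cancel_right]

/-- A commuting pair in a copy of D₄ with all three kinds equal lifts to a commuting pair. -/
theorem f4rc_kind {L : List ℕ} (hL : d4MapOK L = true) {t : ℕ × ℕ} {w5 w10 w11 : List ℕ}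
    (hk : d4KindOK L t [(5, w5), (10, w10), (11, w11)] = true) : f4rc hs t.1 t.2 = 1 := by
  simp only [d4KindOK, Bool.and_eq_true, List.all_cons, List.all_nil, List.all_eq_true,
    decide_eq_true_eq, beq_iff_eq, Bool.and_true] at hk
  obtain ⟨⟨-, h23⟩, ⟨⟨⟨a5, c5⟩, p5⟩, q5⟩, ⟨⟨⟨a10, c10⟩, p10⟩, q10⟩, ⟨⟨⟨a11, c11⟩, p11⟩, q11⟩⟩ := hk
  obtain ⟨φ, hφ⟩ := exists_d4Hom h2 hL
  have hperf : commutator ↥(chevD4.group F) = ⊤ := H52.group_perfect (by simp) (by
    rintro (h | h) <;> exact absurd (congrArg ChevalleyDatum.nroots h) (by decide))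
  obtain ⟨Δ, _, σ, ψ, hσs, hσc, hσd, hcomm⟩ := exists_stem_over hs hc φ hperf
  have hrel := kind_rel h2 hσs hσc hσd
  have hL' : ∀ d < 24, L.getD d 0 < 48 := by
    simp only [d4MapOK, List.all_eq_true, List.mem_range, Bool.and_eq_true, decide_eq_true_eq] at hL
    exact fun d hd => (hL d hd).1.1
  have himg : ∀ x < 24, ψ (rootComm hσs 23 x) = f4rc hs (L.getD 23 0) (L.getD x 0) := by
    intro x hx
    have e : ∀ d < 24, π (ψ (Function.surjInv hσs (xg ctxD4 d (1 : F)))) = xg ctxF4 (L.getD d 0) 1 := by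
      intro d hd
      rw [← hφ d hd, ← MonoidHom.comp_apply, hcomm, MonoidHom.comp_apply, Function.surjInv_eq hσs]
    rw [rootComm, map_commutatorElement]
    exact f4rc_eq hs hc (e 23 (by norm_num)) (e x hx)
  have hv : ∀ x w, x < 24 → (∀ i ∈ w, i < 4) → commOdd chevF4 t.1 (L.getD x 0) = true →
      wordRun chevF4 (L.getD 23 0) w = t.1 → wordRun chevF4 (L.getD x 0) w = t.2 →
      ψ (rootComm hσs 23 x) = f4rc hs t.1 t.2 := by
    intro x w hx hw hcx hp hq
    rw [himg x hx, ← (f4rc_word h2 hs hc w hw (hL' 23 (by norm_num)) (hL' x hx) (by rw [h23]; exact hcx)).1,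
      hp, hq]
  have e := congrArg ψ hrel
  rw [map_mul, hv 5 w5 (by norm_num) a5 c5 p5 q5, hv 10 w10 (by norm_num) a10 c10 p10 q10,
    hv 11 w11 (by norm_num) a11 c11 p11 q11] at e
  exact mul_eq_left.1 e.symm

/-- Lifts of commuting root elements commute. -/
theorem f4CommLift : ∀ r < chevF4.nroots, ∀ s < chevF4.nroots, commOdd chevF4 r s = true →
    CommLift ctxF4 π r s := by
  have hone : ∀ {r s : ℕ}, f4rc hs r s = 1 → CommLift ctxF4 π r s := fun h =>
    commLift_of_one ctxF4 h2 hc (Function.surjInv_eq hs _) (Function.surjInv_eq hs _) h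
  refine root_top_rec ctxF4 (fun r => ∀ s < chevF4.nroots, commOdd chevF4 r s = true →
    CommLift ctxF4 π r s) ?_ ?_
  · intro r hr htop s hs' hcm
    have h := f4TopCases
    simp only [f4TopOK, List.all_eq_true, List.mem_range, Bool.or_eq_true, Bool.not_eq_true',
      Bool.and_eq_true, List.any_eq_true, decide_eq_true_eq, beq_iff_eq] at h
    obtain ⟨-, h⟩ := (h r hr).resolve_left (by simp [htop])
    rcases (h s hs').1 with ((h | rfl) | h) | ⟨p, -, ⟨⟨⟨⟨⟨-, -⟩, hw⟩, hwr⟩, hws⟩, hb⟩⟩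
    · simp [hcm] at h
    · exact hone (commutatorElement_self _)
    · exact commLift_of_decompOdd ctxF4 h2 hs hc hr h
    · refine commLift_word ctxF4 h2 hs hc p.2.2.2 hw hr hs' ?_
      rw [hwr, hws]
      rcases hb with ⟨rfl, e⟩ | ⟨rfl, e⟩ <;> rw [e]
      · have e1 := f4rc_kind h2 hs hc d4MapShort d4KindShort
        exact hone e1
      · have e1 := f4rc_kind h2 hs hc d4MapLong d4KindLong
        exact hone e1
  · intro i r hr ih s hs' hcm
    exact commLift_of_reflect hs hc i hr hs'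
      (ih _ (ctxF4.hC.reflect_lt (D := chevF4) i.isLt hs') (commOdd_reflect ctxF4 i hr hs' hcm))

/-- The defect of the relation with two terms. -/
noncomputable def f4defect : Γ :=
  f4rc hs 3 47 * (oddX ctxF4 hs 29 (1 : F) * oddX ctxF4 hs 6 1)⁻¹

theorem f4defect_mem : f4defect hs ∈ π.ker := by
  obtain ⟨ho, hne, hne', -⟩ := f4TwoFacts
  have hp := fun m (hm : m < chevF4.nroots) =>
    oddX_proj ctxF4 h2 hs hc (f4CommLift h2 hs hc) joinF4 splitF4 hm (1 : F)
  rw [MonoidHom.mem_ker, f4defect, map_mul, map_inv, map_mul, hp 29 (by decide), hp 6 (by decide),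
    f4rc, map_commutatorElement, Function.surjInv_eq hs, Function.surjInv_eq hs,
    xg_comm_odd ctxF4 h2 (r := 47) (s := 3) (by decide) (by decide) hne hne', ho]
  simp

theorem f4defect_sq : f4defect hs * f4defect hs = 1 := by
  obtain ⟨-, -, -, h329, h36, h296, -⟩ := f4TwoFacts
  have hcl := f4CommLift h2 hs hc
  have hp := fun m (hm : m < chevF4.nroots) =>
    oddX_proj ctxF4 h2 hs hc hcl joinF4 splitF4 hm (1 : F)
  have hsq := fun m (hm : m < chevF4.nroots) =>
    oddX_add ctxF4 h2 hs hc hcl joinF4 splitF4 hm (1 : F) 1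
  set A := Function.surjInv hs (xg ctxF4 3 (1 : F)) with hA
  have πA : π A = xg ctxF4 3 (1 : F) := Function.surjInv_eq hs _
  set z := f4defect hs with hzdef
  set X := oddX ctxF4 hs 29 (1 : F)
  set Y := oddX ctxF4 hs 6 (1 : F)
  have hz : z ∈ center Γ := hc (f4defect_mem h2 hs hc)
  have e : f4rc hs 3 47 = z * (X * Y) := by rw [hzdef, f4defect, inv_mul_cancel_right]
  have hx : X * X = 1 := by rw [hsq 29 (by decide), one_add_one h2, oddX_zero]
  have hy : Y * Y = 1 := by rw [hsq 6 (by decide), one_add_one h2, oddX_zero]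
  have hxy : X * Y = Y * X := hcl 29 (by decide) 6 (by decide) h296 _ _ _ _ (hp 29 (by decide)) (hp 6 (by decide))
  have hax : Commute A (X * Y) :=
    Commute.mul_right (hcl 3 (by decide) 29 (by decide) h329 _ _ _ _ πA (hp 29 (by decide)))
      (hcl 3 (by decide) 6 (by decide) h36 _ _ _ _ πA (hp 6 (by decide)))
  have hAA : A * A ∈ center Γ := hc (by
    rw [MonoidHom.mem_ker, map_mul, πA, xg_add, one_add_one h2, xg_zero])
  set B := Function.surjInv hs (xg ctxF4 47 (1 : F))
  have hc2 : A * ⁅A, B⁆ * A⁻¹ * ⁅A, B⁆ = 1 := by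
    rw [← commutatorElement_mul_left_eq_conj_mul, commutatorElement_eq_one_iff_commute]
    exact (mem_center_iff.1 hAA B).symm
  have hcB : ⁅A, B⁆ = z * (X * Y) := e
  rw [hcB, show A * (z * (X * Y)) * A⁻¹ = z * (X * Y) by
    rw [← mul_assoc A, mem_center_iff.1 hz A, mul_assoc z, hax.eq, ← mul_assoc z,
      mul_inv_cancel_right]] at hc2
  have hw : X * Y * (X * Y) = 1 := by
    nth_rewrite 2 [hxy]
    rw [mul_assoc, ← mul_assoc Y, hy, one_mul, hx]
  rw [show z * (X * Y) * (z * (X * Y)) = z * ((X * Y) * z) * (X * Y) by simp only [mul_assoc],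
    mem_center_iff.1 hz (X * Y), ← mul_assoc z, mul_assoc (z * z), hw, mul_one] at hc2
  exact hc2

/-- The lifts when the defect vanishes. -/
theorem exists_f4Lifts (hd : f4defect hs = 1) : Nonempty (Lifts ctxF4 π) := by
  obtain ⟨-, -, -, -, -, h296, ⟨t29, t6⟩, s29, s6⟩ := f4TwoFacts
  have hcl := f4CommLift h2 hs hc
  have hp := fun m (hm : m < chevF4.nroots) =>
    oddX_proj ctxF4 h2 hs hc hcl joinF4 splitF4 hm (1 : F)
  have e : ⁅oddX ctxF4 hs 3 (1 : F), oddX ctxF4 hs 47 1⁆ =
      oddX ctxF4 hs 29 (1 : F) * oddX ctxF4 hs 6 1 := by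
    rw [f4rc_eq hs hc (hp 3 (by decide)) (hp 47 (by decide))]
    exact mul_inv_eq_one.1 hd
  have hG1 : Good chevF4 (oddX ctxF4 hs (F := F)) 47 3 :=
    good_of_one ctxF4 h2 hs hc hcl joinF4 splitF4 (by decide) (by decide) (by
      rw [e]
      exact mul_mem (subset_closure ⟨29, s29, 1, rfl⟩) (subset_closure ⟨6, s6, 1, rfl⟩))
  have hG2 : Good chevF4 (oddX ctxF4 hs (F := F)) 3 47 :=
    good_of_one ctxF4 h2 hs hc hcl joinF4 splitF4 (by decide) (by decide) (by
      rw [← commutatorElement_inv, e]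
      exact inv_mem (mul_mem (subset_closure ⟨29, t29, 1, rfl⟩) (subset_closure ⟨6, t6, 1, rfl⟩)))
  refine ⟨oddLifts ctxF4 h2 hs hc hcl joinF4 splitF4 ?_⟩
  intro r hr htop s hs' hne hne'
  have h := f4TopCases
  simp only [f4TopOK, List.all_eq_true, List.mem_range, Bool.or_eq_true, Bool.not_eq_true',
    Bool.and_eq_true, List.any_eq_true, decide_eq_true_eq, beq_iff_eq, Nat.blt_eq] at h
  obtain ⟨-, h⟩ := (h r hr).resolve_left (by simp [htop])
  rcases (h s hs').2 with ((h | h) | h) | ⟨p, -, ⟨-, hw⟩, hb⟩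
  · exact absurd h hne
  · exact absurd h hne'
  · refine good_of_short ctxF4 h2 hs hc hcl joinF4 splitF4 hr hs' hne hne' ?_
    rcases hl : oddTerms chevF4 r s with _ | ⟨k, _ | ⟨k', L⟩⟩
    · exact Or.inl rfl
    · exact Or.inr ⟨k, rfl⟩
    · rw [hl] at h; simp at h
  · refine good_word ctxF4 h2 hs hc hcl joinF4 splitF4 p.2.2 hw hr hs' ?_
    rcases hb with ⟨e1, e2⟩ | ⟨e1, e2⟩ <;> rw [e1, e2]
    exacts [hG1, hG2]

/-- The kernel of a stem extension is generated by the defect. -/
theorem ker_le_defect (hstem : π.ker ≤ commutator Γ) : π.ker ≤ zpowers (f4defect hs) := by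
  classical
  set z := f4defect hs with hzdef
  have hzk : z ∈ π.ker := f4defect_mem h2 hs hc
  have : (zpowers z).Normal := ⟨fun y hy g => by
    rw [mem_center_iff.1 (zpowers_le.2 (hc hzk) hy) g, mul_inv_cancel_right]; exact hy⟩
  let π' : Γ ⧸ zpowers z →* ↥(chevF4.group F) := QuotientGroup.lift _ π (zpowers_le.2 hzk)
  have hs' : Function.Surjective π' := fun x => by
    obtain ⟨y, rfl⟩ := hs x
    exact ⟨QuotientGroup.mk y, rfl⟩
  have hc' : π'.ker ≤ center _ := by
    intro y' hy'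
    obtain ⟨y, rfl⟩ := QuotientGroup.mk_surjective y'
    refine mem_center_iff.2 fun g => ?_
    obtain ⟨x, rfl⟩ := QuotientGroup.mk_surjective g
    rw [← QuotientGroup.mk_mul, ← QuotientGroup.mk_mul, mem_center_iff.1 (hc (show π y = 1 from hy')) x]
  have hst : π'.ker ≤ commutator _ := by
    intro y' hy'
    obtain ⟨y, rfl⟩ := QuotientGroup.mk_surjective y'
    have : QuotientGroup.mk' (zpowers z) y ∈ (commutator Γ).map (QuotientGroup.mk' (zpowers z)) :=
      mem_map_of_mem _ (hstem (show π y = 1 from hy'))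
    rw [map_commutator_eq] at this
    exact commutator_mono le_top le_top this
  have hcl := f4CommLift h2 hs hc
  have hcl' := f4CommLift h2 hs' hc'
  have hmk : ∀ m, m < chevF4.nroots →
      QuotientGroup.mk' (zpowers z) (oddX ctxF4 hs m (1 : F)) = oddX ctxF4 hs' m 1 := by
    intro m hm
    obtain ⟨a, b, h, -⟩ := exists_splitOdd splitF4 hm
    rw [oddX_eq ctxF4 h2 hs hc hcl joinF4 hm h one_ne_zero,
      oddX_eq ctxF4 h2 hs' hc' hcl' joinF4 hm h one_ne_zero, pairLift, pairLift,
      map_commutatorElement]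
    exact Cover.comm_congr π' hc' ((Function.surjInv_eq hs _).trans (Function.surjInv_eq hs' _).symm)
      ((Function.surjInv_eq hs _).trans (Function.surjInv_eq hs' _).symm)
  have hd : f4defect hs' = 1 := by
    have e1 : QuotientGroup.mk' (zpowers z) (f4rc hs 3 47) = f4rc hs' 3 47 := by
      rw [f4rc, map_commutatorElement]
      exact f4rc_eq hs' hc' (Function.surjInv_eq hs _) (Function.surjInv_eq hs _)
    have e2 : QuotientGroup.mk' (zpowers z) z = 1 := (QuotientGroup.eq_one_iff _).2 (mem_zpowers z)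
    have e3 : QuotientGroup.mk' (zpowers z) (f4defect hs) = f4defect hs' := by
      simp only [f4defect, map_mul, map_inv, e1, hmk 29 (by decide), hmk 6 (by decide)]
    exact e3.symm.trans e2
  obtain ⟨L⟩ := exists_f4Lifts h2 hs' hc' hd
  obtain ⟨f, hf⟩ := stem_ker (σ := π') ⟨hs', hc', hst⟩ L
  intro y hy
  rw [← QuotientGroup.eq_one_iff]
  have hy' : (QuotientGroup.mk y : Γ ⧸ zpowers z) ∈ π'.ker := hy
  obtain ⟨⟨c, hc1⟩, e⟩ := hf ⟨_, hy'⟩
  have : (⟨c, hc1⟩ : (tor ctxF4 (F := F)).ker) = 1 := Subtype.ext (funext fun i => units_eq_one h2 (c i))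
  rw [this, map_one] at e
  exact (congrArg Subtype.val e).symm

/-- The kernel of a stem extension is an image of a group of order two. -/
theorem two_onto (hstem : π.ker ≤ commutator Γ) :
    ∃ f : Multiplicative (ZMod 2) →* π.ker, Function.Surjective f := by
  let x : π.ker := ⟨_, f4defect_mem h2 hs hc⟩
  have hx : x ^ 2 = 1 := Subtype.ext (by rw [pow_two]; exact f4defect_sq h2 hs hc)
  let f : Multiplicative (ZMod 2) →* π.ker :=
    MonoidHom.mk' (fun p => x ^ p.toAdd.val) fun p q => by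
      show x ^ (p.toAdd + q.toAdd).val = _
      rw [ZMod.val_add, ← pow_eq_pow_mod _ hx, pow_add]
  refine ⟨f, fun y => ?_⟩
  have hle : zpowers (f4defect hs) ≤ f.range.map π.ker.subtype :=
    zpowers_le.2 ⟨x, ⟨Multiplicative.ofAdd 1, by simp [f, ZMod.val_one]⟩, rfl⟩
  obtain ⟨w, ⟨p, rfl⟩, hw⟩ := hle (ker_le_defect h2 hs hc hstem y.2)
  exact ⟨p, Subtype.ext hw⟩

end H76.Exc
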