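import Cfsg.Agent.H76.F4TwoRel
import Cfsg.Agent.H76.ExcCtx

/-!
Lifts of root elements over two elements when only the terms with odd coefficient matter.
-/

set_option autoImplicit false
set_option linter.unusedSectionVars false

namespace H76.Exc

open Cfsg.Lie Subgroup
open scoped commutatorElement

/-- The root elements commute over two elements. -/
def commOdd (D : ChevalleyDatum) (r s : ℕ) : Bool :=
  (s == r) || ((s != D.neg r) && (oddTerms D r s).isEmpty)

/-- The commutator over two elements is a single root element. -/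
def oneOdd (D : ChevalleyDatum) (k a b : ℕ) : Bool :=
  decide (a < D.nroots) && decide (b < D.nroots) && (b != a) && (b != D.neg a) &&
    (oddTerms D a b == [k])

/-- A decomposition of `k` with both parts commuting with `r`. -/
def decompOdd (D : ChevalleyDatum) (r k : ℕ) : Bool :=
  (List.range D.nroots).any fun a =>
    match D.chainRoot (D.neg a) k 1 with
    | none => false
    | some b => oneOdd D k a b && commOdd D r a && commOdd D r b

/-- Every decomposition of a top root is joined to a fixed one. -/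
def joinOddOK (D : ChevalleyDatum) : Bool :=
  (List.range D.nroots).all fun r => !topRoot D r ||
    (List.range D.nroots).any fun a₀ =>
      match D.chainRoot (D.neg a₀) r 1 with
      | none => false
      | some b₀ => (List.range D.nroots).all fun a =>
        if a == a₀ then (List.range D.nroots).all fun b => !oneOdd D r a b || b == b₀
        else
          ((List.range D.rank).any fun j => (D.reflectRoot j r == r) && Nat.blt (D.reflectRoot j a) a &&
            commOdd D r (D.simple j) && commOdd D r (D.neg (D.simple j))) ||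
          (List.range D.nroots).all fun b => !oneOdd D r a b

/-- Every root has a decomposition. -/
def splitOddOK (D : ChevalleyDatum) : Bool :=
  (List.range D.nroots).all fun k => (List.range D.nroots).any fun a =>
    match D.chainRoot (D.neg a) k 1 with
    | none => false
    | some b => oneOdd D k a b && commOdd D k b

variable {D : ChevalleyDatum} (C : H54.Ctx D)

theorem oneOdd_spec {k a b : ℕ} (h : oneOdd D k a b = true) :
    a < D.nroots ∧ b < D.nroots ∧ b ≠ a ∧ b ≠ D.neg a ∧ oddTerms D a b = [k] := by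
  simp only [oneOdd, Bool.and_eq_true, decide_eq_true_eq, bne_iff_ne, beq_iff_eq] at h
  exact ⟨h.1.1.1.1, h.1.1.1.2, h.1.1.2, h.1.2, h.2⟩

include C in
theorem commOdd_reflect (i : Fin D.rank) {r s : ℕ} (hr : r < D.nroots) (hs : s < D.nroots)
    (h : commOdd D r s = true) :
    commOdd D (D.reflectRoot i.val r) (D.reflectRoot i.val s) = true := by
  simp only [commOdd, Bool.or_eq_true, beq_iff_eq, Bool.and_eq_true, bne_iff_ne,
    List.isEmpty_iff] at h ⊢
  by_cases he : s = r
  · exact Or.inl (by rw [he])
  · obtain ⟨h1, h2⟩ := h.resolve_left he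
    exact Or.inr ⟨ne_neg_reflect C i hr hs h1, by rw [oddTerms_reflect C i hr hs, h2]; rfl⟩

include C in
theorem oneOdd_reflect (i : Fin D.rank) {k a b : ℕ} (h : oneOdd D k a b = true) :
    oneOdd D (D.reflectRoot i.val k) (D.reflectRoot i.val a) (D.reflectRoot i.val b) = true := by
  obtain ⟨ha, hb, h1, h2, hc⟩ := oneOdd_spec h
  simp [oneOdd, C.hC.reflect_lt i.isLt ha, C.hC.reflect_lt i.isLt hb, ne_reflect C i ha hb h1,
    ne_neg_reflect C i ha hb h2, oddTerms_reflect C i ha hb, hc]

variable {F : Type*} [Field F] [Fintype F] (h2 : Fintype.card F = 2)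
include h2

theorem zero_or_one (t : F) : t = 0 ∨ t = 1 :=
  (em (t = 0)).imp id fun h => eq_one_of_ne_zero h2 h

theorem commOdd_spec {r s : ℕ} (hr : r < D.nroots) (hs : s < D.nroots)
    (h : commOdd D r s = true) (t u : F) : Commute (xg C r t) (xg C s u) := by
  simp only [commOdd, Bool.or_eq_true, beq_iff_eq, Bool.and_eq_true, bne_iff_ne,
    List.isEmpty_iff] at h
  by_cases he : s = r
  · subst he; rw [commute_iff_eq, xg_add, xg_add, add_comm]
  obtain ⟨h1, h3⟩ := h.resolve_left he
  rcases zero_or_one h2 t with rfl | rfl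
  · rw [xg_zero]; exact Commute.one_left _
  rcases zero_or_one h2 u with rfl | rfl
  · rw [xg_zero]; exact Commute.one_right _
  have e := xg_comm_odd C h2 hr hs he h1
  rw [h3, List.map_nil, List.prod_nil, commutatorElement_eq_one_iff_commute] at e
  exact e.symm

variable {Γ : Type*} [Group Γ] {π : Γ →* ↥(D.group F)} (hs : Function.Surjective π)
  (hc : π.ker ≤ center Γ)

/-- It is enough that chosen lifts at one commute. -/
theorem commLift_of_one {r s : ℕ} (hπ : π.ker ≤ center Γ) {A B : Γ}
    (hA : π A = xg C r 1) (hB : π B = xg C s 1) (h : ⁅A, B⁆ = 1) : CommLift C π r s := by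
  intro a b t u ha hb
  rcases zero_or_one h2 t with rfl | rfl
  · rw [xg_zero] at ha; exact (mem_center_iff.1 (hπ ha) b).symm
  rcases zero_or_one h2 u with rfl | rfl
  · rw [xg_zero] at hb; exact mem_center_iff.1 (hπ hb) a
  rw [← commutatorElement_eq_one_iff_commute, ← h]
  exact Cover.comm_congr π hπ (ha.trans hA.symm) (hb.trans hB.symm)

include hs hc

theorem commLift_of_decompOdd {r k : ℕ} (hr : r < D.nroots) (h : decompOdd D r k = true) :
    CommLift C π r k := by
  simp only [decompOdd, List.any_eq_true, List.mem_range] at h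
  obtain ⟨a, ha, h⟩ := h
  split at h
  · exact absurd h Bool.false_ne_true
  rename_i b _
  simp only [Bool.and_eq_true] at h
  obtain ⟨-, hb, h1, h3, hk⟩ := oneOdd_spec h.1.1
  obtain ⟨R, hR⟩ := hs (xg C r (1 : F))
  obtain ⟨A, hA⟩ := hs (xg C a (1 : F))
  obtain ⟨B, hB⟩ := hs (xg C b (1 : F))
  refine commLift_of_one C h2 hc hR (B := ⁅B, A⁆) ?_ ?_
  · rw [map_commutatorElement, hA, hB, xg_comm_odd C h2 ha hb h1 h3, hk, List.map_cons,
      List.map_nil, List.prod_cons, List.prod_nil, mul_one]
  · rw [commutatorElement_eq_one_iff_commute]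
    have e : R * ⁅B, A⁆ * R⁻¹ = ⁅B, A⁆ := by
      rw [conjugate_commutatorElement]
      refine Cover.comm_congr π hc ?_ ?_
      · rw [map_mul, map_mul, map_inv, hR, hB, mul_inv_eq_iff_eq_mul]
        exact (commOdd_spec C h2 hr hb h.2 1 1).eq
      · rw [map_mul, map_mul, map_inv, hR, hA, mul_inv_eq_iff_eq_mul]
        exact (commOdd_spec C h2 hr ha h.1.2 1 1).eq
    exact mul_inv_eq_iff_eq_mul.1 e

theorem commLift_word : ∀ (w : List ℕ), (∀ i ∈ w, i < D.rank) → ∀ {r s : ℕ}, r < D.nroots →
    s < D.nroots → CommLift C π (wordRun D r w) (wordRun D s w) → CommLift C π r s := by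
  intro w
  induction w with
  | nil => intro _ r s _ _ h; exact h
  | cons i w ih =>
    intro hw r s hr hs' h
    have hw' : ∀ j ∈ w, j < D.rank := fun j hj => hw j (List.mem_cons_of_mem _ hj)
    exact ih hw' hr hs' (commLift_of_reflect hs hc ⟨i, hw i List.mem_cons_self⟩
      (wordRun_lt C w hw' hr) (wordRun_lt C w hw' hs') h)

omit hc in
theorem pairLiftOdd_proj {k a b : ℕ} (h : oneOdd D k a b = true) :
    π (pairLift C hs a b) = xg C k 1 := by
  obtain ⟨ha, hb, h1, h3, hk⟩ := oneOdd_spec h
  rw [pairLift, map_commutatorElement, Function.surjInv_eq hs, Function.surjInv_eq hs,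
    xg_comm_odd C h2 ha hb h1 h3, hk, List.map_cons, List.map_nil, List.prod_cons, List.prod_nil,
    mul_one]

variable (hcl : ∀ r < D.nroots, ∀ s < D.nroots, commOdd D r s = true → CommLift C π r s)
  (hj : joinOddOK D = true)
include hcl hj

theorem pairLiftOdd_indep : ∀ k < D.nroots, ∀ a b a' b', oneOdd D k a b = true →
    oneOdd D k a' b' = true → pairLift C hs a b = pairLift C hs a' b' := by
  refine root_top_rec C (fun k => ∀ a b a' b', oneOdd D k a b = true →
    oneOdd D k a' b' = true → pairLift C hs a b = pairLift C hs a' b') ?_ ?_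
  · intro r hr htop
    simp only [joinOddOK, List.all_eq_true, List.mem_range, Bool.or_eq_true, Bool.not_eq_true',
      List.any_eq_true] at hj
    obtain ⟨a₀, -, h⟩ := (hj r hr).resolve_left (by simp [htop])
    split at h
    · exact absurd h Bool.false_ne_true
    rename_i b₀ _
    simp only [List.all_eq_true, List.mem_range] at h
    suffices ∀ a b, oneOdd D r a b = true → pairLift C hs a b = pairLift C hs a₀ b₀ from
      fun a b a' b' e e' => (this a b e).trans (this a' b' e').symm
    intro a
    induction a using Nat.strong_induction_on with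
    | _ a ih =>
    intro b hab
    obtain ⟨ha, hb, -⟩ := oneOdd_spec hab
    have h' := h a ha
    split at h'
    · rename_i ha0
      simp only [beq_iff_eq] at ha0
      simp only [List.all_eq_true, Bool.or_eq_true, Bool.not_eq_true', beq_iff_eq] at h'
      simp only [List.mem_range] at h'
      have := (h' b hb).resolve_left (by simp [hab])
      rw [ha0, this]
    · simp only [Bool.or_eq_true, List.any_eq_true, List.all_eq_true, Bool.not_eq_true',
        Bool.and_eq_true, List.mem_range, beq_iff_eq] at h'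
      rcases h' with ⟨j, hj', ⟨⟨hfix, hlt⟩, hc1⟩, hc2⟩ | h'
      swap
      · exact absurd hab (by simp [h' b hb])
      simp only [Nat.blt_eq] at hlt
      obtain ⟨g, hg⟩ := hs (ng C (⟨j, hj'⟩ : Fin D.rank))
      have hlt' := ih _ hlt (D.reflectRoot j b) (by
        have := oneOdd_reflect C ⟨j, hj'⟩ hab
        rwa [hfix] at this)
      rw [← pairLift_conj C hs hc h2 ⟨j, hj'⟩ ha hb g hg] at hlt'
      have hcg : Commute g (pairLift C hs a b) := by
        have hp' := C.hC.simple_lt hj'
        have hn' := C.hC.neg_lt hp'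
        obtain ⟨u, hu⟩ := hs (xg C (D.simple j) (1 : F))
        obtain ⟨v, hv⟩ := hs (xg C (D.neg (D.simple j)) (-1 : F))
        have hπ := pairLiftOdd_proj C h2 hs hab
        have c1 := (hcl r hr _ hp' hc1 _ _ _ _ hπ hu).symm
        have c2 := (hcl r hr _ hn' hc2 _ _ _ _ hπ hv).symm
        have hz : (u * v * u)⁻¹ * g ∈ center Γ := hc (by
          rw [MonoidHom.mem_ker, map_mul, map_inv, map_mul, map_mul, hu, hv, hg, ng_eq,
            inv_mul_cancel])
        have := ((c1.mul_left c2).mul_left c1).mul_left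
          (show Commute ((u * v * u)⁻¹ * g) (pairLift C hs a b) from
            (mem_center_iff.1 hz _).symm)
        rwa [mul_inv_cancel_left] at this
      rwa [hcg.eq, mul_inv_cancel_right] at hlt'
  · intro i r hr ih a b a' b' e e'
    obtain ⟨g, hg⟩ := hs (ng C i)
    have h := ih _ _ _ _ (oneOdd_reflect C i e) (oneOdd_reflect C i e')
    obtain ⟨ha, hb, -⟩ := oneOdd_spec e
    obtain ⟨ha', hb', -⟩ := oneOdd_spec e'
    rw [← pairLift_conj C hs hc h2 i ha hb g hg, ← pairLift_conj C hs hc h2 i ha' hb' g hg] at h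
    exact mul_left_cancel (mul_right_cancel h)

omit h2 hc hcl hj in
open Classical in
/-- The lifted root element. -/
noncomputable def oddX (r : ℕ) (t : F) : Γ :=
  if h : t ≠ 0 ∧ ∃ a b, oneOdd D r a b = true then
    pairLift C hs h.2.choose h.2.choose_spec.choose else 1

omit h2 hc hcl hj in
theorem oddX_zero (r : ℕ) : oddX C hs r (0 : F) = 1 := by simp [oddX]

theorem oddX_eq {r a b : ℕ} (hr : r < D.nroots) (h : oneOdd D r a b = true) {t : F}
    (ht : t ≠ 0) : oddX C hs r t = pairLift C hs a b := by
  have he : t ≠ 0 ∧ ∃ a b, oneOdd D r a b = true := ⟨ht, a, b, h⟩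
  rw [oddX, dif_pos he]
  exact pairLiftOdd_indep C h2 hs hc hcl hj r hr _ _ _ _ he.2.choose_spec.choose_spec h

variable (hsp : splitOddOK D = true)
include hsp

omit h2 hs hc hcl hj in
theorem exists_splitOdd {r : ℕ} (hr : r < D.nroots) :
    ∃ a b, oneOdd D r a b = true ∧ commOdd D r b = true := by
  simp only [splitOddOK, List.all_eq_true, List.mem_range, List.any_eq_true] at hsp
  obtain ⟨a, -, h⟩ := hsp r hr
  split at h
  · exact absurd h Bool.false_ne_true
  · rename_i b _
    simp only [Bool.and_eq_true] at h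
    exact ⟨a, b, h.1, h.2⟩

theorem oddX_proj {r : ℕ} (hr : r < D.nroots) (t : F) : π (oddX C hs r t) = xg C r t := by
  by_cases ht : t = 0
  · subst ht; rw [oddX_zero, map_one, xg_zero]
  · obtain ⟨a, b, h, -⟩ := exists_splitOdd hsp hr
    rw [oddX_eq C h2 hs hc hcl hj hr h ht, pairLiftOdd_proj C h2 hs h, eq_one_of_ne_zero h2 ht]

theorem oddX_add {r : ℕ} (hr : r < D.nroots) (t u : F) :
    oddX C hs r t * oddX C hs r u = oddX C hs r (t + u) := by
  by_cases ht : t = 0
  · subst ht; rw [oddX_zero, one_mul, zero_add]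
  by_cases hu : u = 0
  · subst hu; rw [oddX_zero, mul_one, add_zero]
  obtain rfl := eq_one_of_ne_zero h2 ht
  obtain rfl := eq_one_of_ne_zero h2 hu
  obtain ⟨a, b, h, hb⟩ := exists_splitOdd hsp hr
  obtain ⟨-, hbn, -⟩ := oneOdd_spec h
  rw [one_add_one h2, oddX_zero, oddX_eq C h2 hs hc hcl hj hr h ht, pairLift]
  set B := Function.surjInv hs (xg C b (1 : F))
  set A := Function.surjInv hs (xg C a (1 : F))
  have hcm : Commute B ⁅B, A⁆ := by
    refine (hcl r hr b hbn hb _ _ (1 : F) 1 ?_ (Function.surjInv_eq hs _)).symm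
    exact pairLiftOdd_proj C h2 hs h
  have e : ⁅B * B, A⁆ = ⁅B, A⁆ * ⁅B, A⁆ := by
    rw [commutatorElement_mul_left_eq_conj_mul, hcm.eq, mul_inv_cancel_right]
  rw [← e, Cover.comm_congr π hc (x' := 1) (y' := A) (by
    rw [map_mul, map_one, Function.surjInv_eq hs, xg_add, one_add_one h2, xg_zero]) rfl,
    commutatorElement_one_left]

theorem oddX_conj_n (i : Fin D.rank) {r : ℕ} (hr : r < D.nroots) (g : Γ) (hg : π g = ng C i)
    (t : F) : g * oddX C hs r t * g⁻¹ =
      oddX C hs (D.reflectRoot i.val r) ((C.T.eps i.val r : F) * t) := by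
  by_cases ht : t = 0
  · subst ht; rw [mul_zero, oddX_zero, oddX_zero, mul_one, mul_inv_cancel]
  obtain ⟨a, b, h, -⟩ := exists_splitOdd hsp hr
  obtain ⟨ha, hb, -⟩ := oneOdd_spec h
  rw [oddX_eq C h2 hs hc hcl hj hr h ht,
    oddX_eq C h2 hs hc hcl hj (C.hC.reflect_lt i.isLt hr) (oneOdd_reflect C i h)
      (mul_ne_zero (eps_ne_zero C _ _) ht), pairLift_conj C hs hc h2 i ha hb g hg]

/-- The commutator relation follows from the one at one. -/
theorem good_of_one {r s : ℕ} (hr : r < D.nroots) (hs' : s < D.nroots)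
    (h : ⁅oddX C hs s (1 : F), oddX C hs r 1⁆ ∈ span (oddX C hs) (tgt D r s)) :
    Good D (oddX C hs (F := F)) r s := by
  intro t u
  rcases zero_or_one h2 t with rfl | rfl
  · rw [neg_zero, oddX_zero, one_mul, mul_one]
    exact subset_closure ⟨s, by simp [tgt], u, rfl⟩
  rcases zero_or_one h2 u with rfl | rfl
  · rw [oddX_zero, mul_one, oddX_add C h2 hs hc hcl hj hsp hr, neg_add_cancel, oddX_zero]
    exact one_mem _
  rw [neg_one_eq h2]
  have hinv : ∀ m, m < D.nroots → (oddX C hs m (1 : F))⁻¹ = oddX C hs m 1 := fun m hm => by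
    refine inv_eq_of_mul_eq_one_right ?_
    rw [oddX_add C h2 hs hc hcl hj hsp hm, one_add_one h2, oddX_zero]
  have e : oddX C hs r (1 : F) * oddX C hs s 1 * oddX C hs r 1 =
      oddX C hs s 1 * ⁅oddX C hs s (1 : F), oddX C hs r 1⁆ := by
    rw [commutatorElement_def, hinv s hs', hinv r hr]
    have hss : oddX C hs s (1 : F) * oddX C hs s 1 = 1 := by
      nth_rewrite 1 [← hinv s hs']; exact inv_mul_cancel _
    simp only [← mul_assoc, hss, one_mul]
  rw [e]
  exact mul_mem (subset_closure ⟨s, by simp [tgt], 1, rfl⟩) h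

/-- The relation at a pair with at most one term. -/
theorem good_of_short {r s : ℕ} (hr : r < D.nroots) (hs' : s < D.nroots) (hne : s ≠ r)
    (hne' : s ≠ D.neg r) (h : oddTerms D r s = [] ∨ ∃ k, oddTerms D r s = [k]) :
    Good D (oddX C hs (F := F)) r s := by
  refine good_of_one C h2 hs hc hcl hj hsp hr hs' ?_
  rcases h with h | ⟨k, h⟩
  · rw [commutatorElement_eq_one_iff_commute.2
      (hcl r hr s hs' (by simp [commOdd, hne', h]) _ _ _ _
        (oddX_proj C h2 hs hc hcl hj hsp hr 1) (oddX_proj C h2 hs hc hcl hj hsp hs' 1)).symm]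
    exact one_mem _
  · have hk : k < D.nroots := oddTerms_lt C (r := r) (s := s) (by rw [h]; simp)
    have ho : oneOdd D k r s = true := by simp [oneOdd, hr, hs', hne, hne', h]
    have ef : ⁅oddX C hs s (1 : F), oddX C hs r 1⁆ = oddX C hs k 1 := by
      rw [oddX_eq C h2 hs hc hcl hj hk ho one_ne_zero, pairLift]
      exact Cover.comm_congr π hc
        (by rw [oddX_proj C h2 hs hc hcl hj hsp hs', Function.surjInv_eq hs])
        (by rw [oddX_proj C h2 hs hc hcl hj hsp hr, Function.surjInv_eq hs])
    rw [ef]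
    exact subset_closure ⟨k, oddTerms_tgt (by rw [h]; simp), 1, rfl⟩

theorem good_word : ∀ (w : List ℕ), (∀ i ∈ w, i < D.rank) → ∀ {r s : ℕ}, r < D.nroots →
    s < D.nroots → Good D (oddX C hs (F := F)) (wordRun D r w) (wordRun D s w) →
    Good D (oddX C hs (F := F)) r s := by
  intro w
  induction w with
  | nil => intro _ r s _ _ h; exact h
  | cons i w ih =>
    intro hw r s hr hs' h
    have hw' : ∀ j ∈ w, j < D.rank := fun j hj => hw j (List.mem_cons_of_mem _ hj)
    exact ih hw' hr hs' (good_of_reflect hs hc (oddX C hs)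
      (fun i r hr g hg t => oddX_conj_n C h2 hs hc hcl hj hsp i hr g hg t)
      ⟨i, hw i List.mem_cons_self⟩ (wordRun_lt C w hw' hr) (wordRun_lt C w hw' hs') h)

/-- The lifts, given the relations at the top roots. -/
noncomputable def oddLifts
    (hG : ∀ r < D.nroots, topRoot D r = true → ∀ s < D.nroots, s ≠ r → s ≠ D.neg r →
      Good D (oddX C hs (F := F)) r s) : Lifts C π where
  X := oddX C hs
  proj r hr t := oddX_proj C h2 hs hc hcl hj hsp hr t
  add r hr t u := oddX_add C h2 hs hc hcl hj hsp hr t u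
  conj_n i r hr g hg t := oddX_conj_n C h2 hs hc hcl hj hsp i hr g hg t
  conj_h c r hr g hg t := by
    have hc1 : c = 1 := funext fun i => units_eq_one h2 (c i)
    have hgc : g ∈ center Γ := hc (by rw [MonoidHom.mem_ker, hg, hc1, map_one])
    rw [units_eq_one h2 (chi D c r), Units.val_one, one_mul, ← mem_center_iff.1 hgc,
      mul_inv_cancel_right]
  good := by
    refine root_top_rec C (fun r => ∀ s < D.nroots, s ≠ r → s ≠ D.neg r →
      Good D (oddX C hs (F := F)) r s) hG ?_
    intro i r hr ih s hs' h1 h3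
    exact good_of_reflect hs hc (oddX C hs)
      (fun i r hr g hg t => oddX_conj_n C h2 hs hc hcl hj hsp i hr g hg t) i hr hs'
      (ih _ (C.hC.reflect_lt i.isLt hs') (ne_reflect C i hr hs' h1)
        (ne_neg_reflect C i hr hs' h3))

end H76.Exc
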