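import Cfsg.Agent.H76.F4TwoCheck
import Cfsg.Agent.H76.ExcTwo
import Cfsg.Agent.H76.ExcExact

/-!
The commutator formula over two elements: only terms with odd coefficient remain.
-/

set_option autoImplicit false
set_option linter.unusedSectionVars false

namespace H76.Exc

open Cfsg.Lie Subgroup
open scoped commutatorElement

theorem oddTerms_lt {D : ChevalleyDatum} (C : H54.Ctx D) {r s m : ℕ} (hm : m ∈ oddTerms D r s) :
    m < D.nroots := by
  simp only [oddTerms, List.mem_map, List.mem_filter] at hm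
  obtain ⟨c, ⟨hc, -⟩, rfl⟩ := hm
  exact C.hC.commTerms_lt c hc

theorem oddTerms_tgt {D : ChevalleyDatum} {r s m : ℕ} (hm : m ∈ oddTerms D r s) : m ∈ tgt D r s := by
  simp only [oddTerms, List.mem_map, List.mem_filter] at hm
  obtain ⟨c, ⟨hc, -⟩, rfl⟩ := hm
  exact List.mem_cons_of_mem _ (List.mem_map_of_mem hc)

theorem oddTerms_reflect {D : ChevalleyDatum} (C : H54.Ctx D) (i : Fin D.rank) {r s : ℕ}
    (hr : r < D.nroots) (hs : s < D.nroots) :
    oddTerms D (D.reflectRoot i.val r) (D.reflectRoot i.val s) =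
      (oddTerms D r s).map (D.reflectRoot i.val) := by
  have e : ∀ x y : ℕ, (C.T.eps x y).natAbs = 1 := fun x y => by
    rcases H52.Checked.eps_eq_or (T := C.T) x y with h | h <;> simp [h]
  simp only [oddTerms, C.hC.commTerms_reflect i.isLt hr hs, List.filter_map, List.map_map]
  rw [List.filter_congr (q := fun c => c.2.1.natAbs % 2 == 1) (fun c _ => by
    simp only [Function.comp_apply, Int.natAbs_mul, Int.natAbs_pow, e, one_pow, one_mul])]
  rfl

/-- Words moving roots. -/
theorem wordRun_lt {D : ChevalleyDatum} (C : H54.Ctx D) :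
    ∀ (w : List ℕ), (∀ i ∈ w, i < D.rank) → ∀ {r : ℕ}, r < D.nroots → wordRun D r w < D.nroots := by
  intro w
  induction w with
  | nil => intro _ r hr; exact hr
  | cons i w ih =>
    intro hw r hr
    exact C.hC.reflect_lt (hw i List.mem_cons_self) (ih (fun j hj => hw j (List.mem_cons_of_mem _ hj)) hr)

variable {D : ChevalleyDatum} (C : H54.Ctx D) {F : Type*} [Field F] [Fintype F]
  (h2 : Fintype.card F = 2)
include h2

theorem one_add_one : (1 : F) + 1 = 0 := by
  nth_rewrite 1 [← neg_one_eq h2]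
  exact neg_add_cancel 1

include C in
theorem xg_self_inv (r : ℕ) : (xg C r (1 : F))⁻¹ = xg C r 1 :=
  (xg_inv C r (1 : F)).trans (by rw [neg_one_eq h2])

theorem cast_odd_even (c : ℤ) :
    (c : F) = if c.natAbs % 2 == 1 then 1 else 0 := by
  have h0 : ((2 : ℤ) : F) = 0 := by
    rw [show (2 : ℤ) = 1 + 1 from rfl, Int.cast_add, Int.cast_one]; exact one_add_one h2
  rcases Int.even_or_odd c with ⟨k, rfl⟩ | ⟨k, rfl⟩
  · rw [if_neg (by rw [beq_iff_eq]; omega), show k + k = 2 * k by ring, Int.cast_mul, h0, zero_mul]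
  · rw [if_pos (by rw [beq_iff_eq]; omega), Int.cast_add, Int.cast_mul, h0, zero_mul, zero_add, Int.cast_one]

include C in
/-- The commutator of two root elements at one. -/
theorem xg_comm_odd {r s : ℕ} (hr : r < D.nroots) (hs : s < D.nroots) (hne : s ≠ r)
    (hne' : s ≠ D.neg r) :
    ⁅xg C s (1 : F), xg C r 1⁆ = ((oddTerms D r s).map fun m => xg C m (1 : F)).prod := by
  have h := C.hC.comm_rt hr hs hne hne' (1 : F) 1
  have e : ∀ L : List (ℕ × ℤ × ℕ × ℕ),
      ((L.map fun c => (c.1, (c.2.1 : F) * (-1) ^ c.2.2.1 * 1 ^ c.2.2.2)).map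
          fun p => xg C p.1 p.2).prod =
        (((L.filter fun c => c.2.1.natAbs % 2 == 1).map Prod.fst).map fun m => xg C m (1 : F)).prod := by
    intro L
    induction L with
    | nil => rfl
    | cons c L ih =>
      simp only [List.map_cons, List.prod_cons, List.filter_cons]
      rw [ih, neg_one_eq h2, one_pow, one_pow, mul_one, mul_one, cast_odd_even h2]
      split
      · simp
      · simp [xg_zero]
  rw [oddTerms, ← e, commutatorElement_def, xg_self_inv C h2 r, xg_self_inv C h2 s]
  apply Subtype.ext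
  simp only [Subgroup.coe_mul, SubmonoidClass.coe_list_prod, List.map_map]
  show H52.rt D s 1 * H52.rt D r 1 * H52.rt D s 1 * H52.rt D r 1 = _
  have hinv : ∀ k, (H52.rt D k (1 : F))⁻¹ = H52.rt D k 1 := fun k => by
    rw [C.hC.rt_inv, neg_one_eq h2]
  have hW := (inv_mul_cancel_left (H52.rt D r 1 * H52.rt D s 1)
    (H52.wordRt D (D.commWord F r s 1 1))).symm.trans (congrArg _ h.symm)
  simp only [mul_inv_rev, hinv, H52.wordRt, ChevalleyDatum.commWord, List.map_map, Function.comp_def,
    ← mul_assoc] at hW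
  exact hW.symm

end H76.Exc
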