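import Cfsg.Agent.H75.Asym
import Cfsg.Agent.H75.Irreducible
import Cfsg.Agent.H32.Sylow
import Cfsg.Agent.H74.PRed

/-!
Groups in which a `p`-subgroup `Y` lies in the `p`-core of every proper overgroup of a `p`-group `P`,
and the family `ℌ_G(O_p(M))`.
-/

set_option autoImplicit false

namespace H76

open Subgroup
open scoped commutatorElement
open H70 (cj)

variable {G : Type*} [Group G] [Finite G] {p : ℕ} [Fact p.Prime]

/-- `Y` lies in the `p`-core of every proper subgroup over `P` but not of the whole group. -/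
structure CoreMinimal (p : ℕ) (P Y : Subgroup G) : Prop where
  pgroup : IsPGroup p P
  le : Y ≤ P
  not_le : ¬ Y ≤ Cfsg.pCore p G
  min : ∀ X : Subgroup G, P ≤ X → X ≠ ⊤ → Y ≤ Cfsg.pCoreOf p X

theorem CoreMinimal.not_isPClosed {P Y : Subgroup G} (h : CoreMinimal p P Y) :
    ¬ Cfsg.IsPClosed p G := by
  intro hc
  apply h.not_le
  obtain ⟨S, hS⟩ := h.pgroup.exists_le_sylow
  have hn := hc S
  exact h.le.trans (hS.trans (H1.le_pCore S.isPGroup'))

theorem CoreMinimal.normalClosure_eq_top {P Y : Subgroup G} (h : CoreMinimal p P Y) :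
    normalClosure (P : Set G) = ⊤ := by
  by_contra hne
  exact h.not_le ((h.min _ le_normalClosure hne).trans
    (H75.pCoreOf_le_of_subnormal (Normal.isSubnormal inferInstance)))

theorem CoreMinimal.residual_sup_eq_top {P Y : Subgroup G} (h : CoreMinimal p P Y) :
    Cfsg.pResidual p G ⊔ P = ⊤ := by
  by_contra hne
  have hn := H75.pResidual_normal p G
  set E := Cfsg.pResidual p G
  obtain ⟨K, hK, hXK⟩ := H75.exists_coatom_ge hne
  have hEK : E ≤ K := le_sup_left.trans hXK
  have hq : IsPGroup p (G ⧸ E) := H75.isPGroup_quotient_of_pResidual_le le_rfl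
  set f := QuotientGroup.mk' E
  have hker : f.ker ≤ K := (QuotientGroup.ker_mk' E).le.trans hEK
  have hKc : (K.map f).comap f = K := by rw [comap_map_eq, sup_eq_left.mpr hker]
  have hcoat : IsCoatom (K.map f) := by
    refine ⟨fun e => hK.1 (by rw [← hKc, e, comap_top]), fun b hb => ?_⟩
    have h1 : K < b.comap f := by
      refine lt_of_le_of_ne (hKc.ge.trans (comap_mono hb.le)) fun e => hb.ne ?_
      rw [e, map_comap_eq_self_of_surjective (QuotientGroup.mk'_surjective E)]
    rw [← map_comap_eq_self_of_surjective (QuotientGroup.mk'_surjective E) b, hK.2 _ h1,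
      map_top_of_surjective _ (QuotientGroup.mk'_surjective E)]
  haveI := hq.isNilpotent
  have hKn : (K.map f).Normal :=
    NormalizerCondition.normal_of_coatom _ Group.normalizerCondition_of_isNilpotent hcoat
  have hKn' : K.Normal := hKc ▸ hKn.comap f
  exact hK.1 (top_le_iff.mp (h.normalClosure_eq_top.ge.trans
    (normalClosure_le_normal (show (P : Set G) ⊆ K from fun x hx => hXK (mem_sup_right hx)))))

theorem CoreMinimal.isPIrreducible {P Y : Subgroup G} (h : CoreMinimal p P Y) :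
    Cfsg.IsPIrreducible p G := by
  refine ⟨h.not_isPClosed, fun N hN hnc => ?_⟩
  by_cases htop : N ⊔ P = ⊤
  · exact H75.pResidual_le_of_sup_eq_top h.pgroup htop
  exfalso
  set Q0 := Cfsg.pCore p G with hQ0
  have hQ0n : Q0.Normal := H1.pCore_normal' p G
  set X := N ⊔ P
  have hY := h.min X le_sup_right htop
  have hNY : ⁅N, Y⁆ ≤ Q0 := by
    rw [commutator_le]
    intro n hn y hy
    have h1 : ⁅n, y⁆ ∈ N := by
      rw [commutatorElement_def, mul_assoc, mul_assoc, ← mul_assoc y]
      exact mul_mem hn (hN.conj_mem _ (inv_mem hn) y)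
    have h2 : ⁅n, y⁆ ∈ Cfsg.pCoreOf p X := by
      rw [commutatorElement_def]
      exact mul_mem (H75.conj_mem_of_mem_normalizer (H75.le_normalizer_pCoreOf X (mem_sup_left hn))
        (hY hy)) (inv_mem (hY hy))
    exact H75.pCoreOf_le_of_subnormal hN.isSubnormal (H75.pCoreOf_inf_le le_sup_left ⟨h2, h1⟩)
  obtain ⟨S, hS⟩ := h.pgroup.exists_le_sylow
  set Nz := normalizer (((S : Subgroup G) ⊓ N : Subgroup G) : Set G) with hNz
  have hPNz : P ≤ Nz := hS.trans (H32.sylow_le_normalizer_inf S N)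
  by_cases hNztop : Nz = ⊤
  · apply hnc
    have hnm : ((S : Subgroup G) ⊓ N).Normal := normalizer_eq_top_iff.mp hNztop
    refine H75.isPClosed_of_normal (H32.sylowInf S N) ?_
    rw [H32.coe_sylowInf, ← inf_subgroupOf_right]
    exact hnm.comap N.subtype
  set f := QuotientGroup.mk' Q0
  have hNmn : (N.map f).Normal := hN.map f (QuotientGroup.mk'_surjective Q0)
  set C := (centralizer ((N.map f : Subgroup _) : Set (G ⧸ Q0))).comap f with hC
  have hCn : C.Normal := Normal.comap inferInstance f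
  have hYC : Y ≤ C := by
    rw [hC, ← map_le_iff_le_comap, le_centralizer_iff, ← commutator_eq_bot_iff_le_centralizer,
      ← Subgroup.map_commutator, Subgroup.map_eq_bot_iff, QuotientGroup.ker_mk']
    exact hNY
  set R := Cfsg.pCoreOf p Nz ⊓ C with hR
  have hNzR : Nz ≤ normalizer (R : Set G) :=
    (le_inf (H75.le_normalizer_pCoreOf Nz) (by rw [normalizer_eq_top]; exact le_top)).trans
      (H75.normalizer_inf_le_normalizer_inf _ _)
  have hNR : N ≤ normalizer ((R ⊔ Q0 : Subgroup G) : Set G) := by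
    refine H75.le_normalizer_of_conj fun n hn a ha => ?_
    obtain ⟨r, hr, q, hq, rfl⟩ := mem_sup_of_normal_right.mp ha
    have hc : ⁅n, r⁆ ∈ Q0 := by
      rw [← QuotientGroup.eq_one_iff]
      show f ⁅n, r⁆ = 1
      rw [map_commutatorElement, commutatorElement_eq_one_iff_commute]
      exact (mem_centralizer_iff.mp hr.2 (f n) (mem_map_of_mem _ hn))
    have h1 : n * (r * q) * n⁻¹ = ⁅n, r⁆ * r * (n * q * n⁻¹) := by
      rw [commutatorElement_def]; group
    rw [h1]
    exact mul_mem (mul_mem (mem_sup_right hc) (mem_sup_left hr))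
      (mem_sup_right (hQ0n.conj_mem q hq n))
  have hRn : (R ⊔ Q0).Normal := by
    rw [← normalizer_eq_top_iff, eq_top_iff, ← H32.frattini_inf S N]
    refine sup_le ((le_inf hNzR ?_).trans (H75.normalizer_inf_le_normalizer_sup R Q0)) hNR
    rw [normalizer_eq_top]; exact le_top
  have hp : IsPGroup p ↥(R ⊔ Q0) :=
    ((H75.isPGroup_pCoreOf Nz).to_le inf_le_left).to_sup_of_normal_right (H1.isPGroup_pCore p G)
  exact h.not_le ((le_inf (h.min Nz hPNz hNztop) hYC).trans (le_sup_left.trans (H1.le_pCore hp)))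

omit [Finite G] [Fact p.Prime] in
/-- The relative version. -/
theorem coreMinimal_subgroupOf {U P Y : Subgroup G} (hP : IsPGroup p P) (hYP : Y ≤ P) (hPU : P ≤ U)
    (hYO : ¬ Y ≤ Cfsg.pCoreOf p U)
    (hmin : ∀ X : Subgroup G, P ≤ X → X < U → Y ≤ Cfsg.pCoreOf p X) :
    CoreMinimal p (P.subgroupOf U) (Y.subgroupOf U) := by
  refine ⟨IsPGroup.comap_subtype (K := U) hP, comap_mono hYP, fun hle => hYO ?_, fun X hX hne => ?_⟩
  · intro y hy
    exact ⟨⟨y, hPU (hYP hy)⟩, hle (show (⟨y, hPU (hYP hy)⟩ : U) ∈ Y.subgroupOf U from hy), rfl⟩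
  · have hlt : X.map U.subtype < U := by
      refine lt_of_le_of_ne (map_subtype_le X) fun e => hne ?_
      rw [← comap_map_eq_self_of_injective U.subtype_injective X, e]
      exact subgroupOf_self U
    have hle : P ≤ X.map U.subtype := fun x hx =>
      ⟨⟨x, hPU hx⟩, hX (show (⟨x, hPU hx⟩ : U) ∈ P.subgroupOf U from hx), rfl⟩
    have h1 := hmin _ hle hlt
    rw [H74.pCoreOf_map X _ U.subtype_injective] at h1
    intro y hy
    obtain ⟨z, hz, hzy⟩ := h1 hy
    rwa [← U.subtype_injective hzy]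

theorem frak_normalizer_largest_eq {S : Sylow p G} {M : Subgroup G}
    (hG : Cfsg.IsOfParabolicCharacteristic p G) (hSM : (S : Subgroup G) ≤ M)
    (hM : Cfsg.IsInFrakM p M) :
    normalizer (Cfsg.largestPReducedOf p M : Set G) =
      M ⊔ centralizer (Cfsg.largestPReducedOf p M : Set G) :=
  le_antisymm ((H75.frakFacts hSM hM).unique _ (H75.normalizer_largest_mem hG S hSM hM.1)
    (H75.redIn_largest M).norm) (H75.frakFacts hSM hM).dag_le

theorem frakH_props {S : Sylow p G} {M H : Subgroup G}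
    (hG : Cfsg.IsOfParabolicCharacteristic p G) (hSM : (S : Subgroup G) ≤ M)
    (hM : Cfsg.IsInFrakM p M)
    (hH : Cfsg.IsInFrakH p M H) :
    CoreMinimal p ((Cfsg.pCoreOf p M).subgroupOf H)
        ((Cfsg.largestPReducedOf p M).subgroupOf H) ∧
      normalizer (Cfsg.pCoreOf p M : Set G) ≤ normalizer (Cfsg.largestPReducedOf p M : Set G) := by
  obtain ⟨-, hPH, hYO, hmin⟩ := hH
  refine ⟨coreMinimal_subgroupOf (H75.isPGroup_pCoreOf M) (H75.redIn_largest M).le_pCoreOf hPH hYO
    hmin, ?_⟩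
  exact ((H75.frakFacts hSM hM).normalizer_core_le hG hSM).trans (H75.frakFacts hSM hM).dag_le

/-- A `p`-group over `O_p(M)` normalises `O_p(M)`. -/
theorem core_normalizes {S : Sylow p G} {M R : Subgroup G}
    (hG : Cfsg.IsOfParabolicCharacteristic p G) (hSM : (S : Subgroup G) ≤ M)
    (hM : Cfsg.IsInFrakM p M) (hasym : ¬ Cfsg.IsSymmetricIn (Cfsg.largestPReducedOf p M))
    (hR : IsPGroup p R) (hPR : Cfsg.pCoreOf p M ≤ R) :
    R ≤ normalizer (Cfsg.pCoreOf p M : Set G) :=
  le_normalizer.trans ((H75.frak_asym_props hG hSM hM hasym).1 R hR hPR).1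

theorem pCoreOf_le_normalizer_core {S : Sylow p G} {M U : Subgroup G}
    (hG : Cfsg.IsOfParabolicCharacteristic p G) (hSM : (S : Subgroup G) ≤ M)
    (hM : Cfsg.IsInFrakM p M) (hasym : ¬ Cfsg.IsSymmetricIn (Cfsg.largestPReducedOf p M))
    (hPU : Cfsg.pCoreOf p M ≤ U) :
    Cfsg.pCoreOf p U ≤ normalizer (Cfsg.pCoreOf p M : Set G) :=
  le_sup_left.trans (core_normalizes hG hSM hM hasym
    ((H75.isPGroup_pCoreOf U).to_sup_of_normal_left' (H75.isPGroup_pCoreOf M)
      (hPU.trans (H75.le_normalizer_pCoreOf U))) le_sup_right)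

end H76
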