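import Cfsg.Agent.H76.FrakLModels
import Cfsg.Agent.H75.Asym
import Cfsg.Agent.H32.Sylow

/-!
Members of the family `𝔏_G(Y_M)`: their translation to the abstract situation.
-/

set_option autoImplicit false
set_option linter.unusedSectionVars false
set_option linter.style.haveILetI false

namespace H76

open Subgroup
open H70 (cj)

variable {G : Type*} [Group G] [Finite G] {p : ℕ} [hp : Fact p.Prime]

theorem subgroupOf_pCoreOf (L : Subgroup G) :
    (Cfsg.pCoreOf p L).subgroupOf L = Cfsg.pCore p ↥L :=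
  comap_map_eq_self_of_injective L.subtype_injective _

theorem exists_frakL_model {M L : Subgroup G} (hL : Cfsg.IsInFrakL p M L) :
    LCtx p ((Cfsg.largestPReducedOf p M).subgroupOf L) ∧
      ∀ (φ : ↥L →* ↥L ⧸ Cfsg.pCore p ↥L), φ = QuotientGroup.mk' (Cfsg.pCore p ↥L) →
        TopModel p (((Cfsg.largestPReducedOf p M).subgroupOf L).map φ) := by
  obtain ⟨hYL, hgen, hnorm, hmin, -, ⟨hlt, hmax⟩, hmod⟩ := hL
  have hY := H75.redIn_largest (p := p) M
  set Y := Cfsg.largestPReducedOf p M with hYdef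
  haveI hAn := H1.pCore_normal' p ↥L
  have hN : normalizer (Y.subgroupOf L : Set ↥L) = (normalizer (Y : Set G)).subgroupOf L :=
    (subgroupOf_normalizer_eq hYL).symm
  have hctx : LCtx p (Y.subgroupOf L) := by
    refine ⟨⟨⟨fun a b => ?_⟩⟩, fun y hy => ?_, ?_, ?_, ?_, fun K hK hne => ?_, hmin.1⟩
    · have h2 := congrArg Subtype.val (hY.elem.1.is_comm.comm (⟨a.1.1, a.2⟩ : Y) ⟨b.1.1, b.2⟩)
      exact Subtype.ext (Subtype.ext h2)
    · exact Subtype.ext (by simpa using hY.elem.2 _ hy)
    · rw [hN, ← subgroupOf_pCoreOf]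
      exact comap_mono hnorm
    · have hY' : Y.subgroupOf L ⊓ Cfsg.pCore p ↥L = (Y ⊓ Cfsg.pCoreOf p L).subgroupOf L := by
        rw [← subgroupOf_pCoreOf]; rfl
      rw [hY']
      exact map_injective L.subtype_injective hgen
    · rw [hN]
      intro e
      exact hlt.ne (inf_eq_left.mpr (subgroupOf_eq_top.mp e))
    · rw [hN]
      have hKlt : K.map L.subtype < L := by
        refine lt_of_le_of_ne (map_subtype_le K) fun e => hne ?_
        rw [← comap_map_eq_self_of_injective L.subtype_injective K, e]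
        exact subgroupOf_self L
      have hYK : Y ≤ K.map L.subtype := fun y hy =>
        ⟨⟨y, hYL hy⟩, hK (show (⟨y, hYL hy⟩ : L) ∈ Y.subgroupOf L from hy), rfl⟩
      have h1 := hmax _ hYK hKlt
      exact fun x hx => (h1 (mem_map_of_mem _ hx)).2
  refine ⟨hctx, fun φ hφ => ?_⟩
  have hs : Function.Surjective φ := hφ ▸ QuotientGroup.mk'_surjective _
  have hk : φ.ker = Cfsg.pCore p ↥L := by rw [hφ, QuotientGroup.ker_mk']
  have htop := hctx.topCtx hs hk
  set T := (Y.subgroupOf L).map φ with hTdef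
  have hTp : IsPGroup p T := hctx.isPGroup.map φ
  have hTcard : Nat.card T = (Y ⊓ Cfsg.pCoreOf p L).relIndex Y := by
    rw [hTdef, ← relIndex_ker, hk, inf_comm, inf_relIndex_right]
    conv_rhs => rw [← relIndex_subgroupOf hYL, subgroupOf_pCoreOf]
  have htwo : p = 2 → Nat.card T = 2 → TopModel p T := by
    rintro rfl h
    exact topModel_of_card_two htop h
  rcases hmod with ⟨F, hFf, hFt, hq, ⟨e⟩⟩ | ⟨h2, F, hFf, hFt, m, hF, hq, ⟨e⟩⟩ | ⟨h2, r, hr, hr2, ⟨e⟩⟩
  · obtain ⟨k, hk'⟩ := IsPGroup.iff_card.mp hTp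
    rw [hTcard, ← hq] at hk'
    have hk1 : k ≠ 0 := by
      rintro rfl
      have := Fintype.one_lt_card (α := F)
      simp at hk'; omega
    haveI : CharP F p := by
      obtain ⟨q', hq'⟩ := CharP.exists F
      obtain ⟨n, hq'p, hcard⟩ := FiniteField.card F q'
      rw [hk'] at hcard
      have : q' = p := by
        have hd : q' ∣ p ^ k := hcard ▸ dvd_pow_self q' n.ne_zero
        exact (Nat.prime_dvd_prime_iff_eq hq'p hp.out).mp (hq'p.dvd_of_dvd_pow hd)
      exact this ▸ hq'
    have hTe : Nat.card (T.map e.toMonoidHom) = Fintype.card F := by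
      rw [card_map_of_injective e.injective, hTcard, hq]
    obtain ⟨P, hP⟩ := (hTp.map e.toMonoidHom).exists_le_sylow
    obtain ⟨c, hc⟩ := MulAction.exists_smul_eq (Matrix.SpecialLinearGroup (Fin 2) F)
      (H74.SL2.upperSylow (F := F) p) P
    have hPu : (T.map e.toMonoidHom) = cj c (H74.SL2.upper F) := by
      have hP' : (P : Subgroup _) = cj c (H74.SL2.upper F) := by
        rw [← hc, ← H74.SL2.coe_upperSylow (p := p)]; rfl
      refine eq_of_le_of_card_ge (hP.trans hP'.le) ?_
      rw [H70.card_cj, H74.SL2.card_upper, hTe, Nat.card_eq_fintype_card]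
    have hm := (topModel_sl2 (F := F) (p := p)).map (MulAut.conj c)
    have hm' := hm.map e.symm
    convert hm' using 1
    show T = (cj c (H74.SL2.upper F)).map e.symm.toMonoidHom
    rw [← hPu, Subgroup.map_map]
    simp
  · subst h2
    rcases Nat.eq_zero_or_pos m with rfl | hm
    · exact htwo rfl (by rw [hTcard, ← hq, hF]; rfl)
    haveI : Fact (Nat.Prime 2) := hp
    let e' := e.trans (H57.lieSzEquiv hm hF).symm
    have hTe : Nat.card (T.map e'.toMonoidHom) = Fintype.card F := by
      rw [card_map_of_injective e'.injective, hTcard, hq]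
    obtain ⟨P, hP⟩ := (hTp.map e'.toMonoidHom).exists_le_sylow
    obtain ⟨c, hc⟩ := MulAction.exists_smul_eq (Cfsg.Sz F m) (H63.tSylow hm hF) P
    have hPu : (T.map e'.toMonoidHom) = cj c (szZ (m := m) hF) := by
      have hP' : (P : Subgroup _) = cj c (H57.tSub (m := m) hF) := by
        rw [← hc, ← H63.coe_tSylow hm hF]; rfl
      refine eq_of_le_of_card_ge (fun x hx => ?_) ?_
      · refine H70.mem_cj.mpr (mem_szZ_of_mem_tSub hF (H70.mem_cj.mp (hP'.le (hP hx))) ?_)
        obtain ⟨t, ht, rfl⟩ := hx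
        have h1 : e'.toMonoidHom t ^ 2 = 1 := by rw [← map_pow, htop.pow t ht, map_one]
        have e2 : (c⁻¹ * e'.toMonoidHom t * c) ^ 2 = c⁻¹ * e'.toMonoidHom t ^ 2 * c := by
          simpa using conj_pow (i := 2) (a := c⁻¹) (b := e'.toMonoidHom t)
        rw [e2, h1, mul_one, inv_mul_cancel]
      · rw [H70.card_cj, card_szZ, hTe]
    have hm' := ((topModel_sz hm hF).map (MulAut.conj c)).map e'.symm
    convert hm' using 1
    show T = (cj c (szZ (m := m) hF)).map e'.symm.toMonoidHom
    rw [← hPu, Subgroup.map_map]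
    simp
  · subst h2
    refine htwo rfl ?_
    obtain ⟨k, hk'⟩ := IsPGroup.iff_card.mp hTp
    have hd : Nat.card T ∣ 2 * r := by
      rw [← DihedralGroup.nat_card, ← Nat.card_congr e.toEquiv]
      exact card_subgroup_dvd_card T
    have hne : Nat.card T ≠ 1 := fun h => htop.ne (eq_bot_of_card_eq T h)
    rw [hk'] at hd hne ⊢
    have h1 : k ≤ 1 := by
      by_contra! hk2
      have : 2 ^ 2 ∣ 2 * r := (pow_dvd_pow 2 hk2).trans hd
      have h2 : 2 ∣ r := (Nat.mul_dvd_mul_iff_left (by norm_num : 0 < 2)).mp this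
      exact hr2 ((Nat.prime_dvd_prime_iff_eq Nat.prime_two hr).mp h2).symm
    interval_cases k
    · simp at hne
    · rfl

end H76
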