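import Cfsg.Agent.H75.Basic
import Cfsg.Agent.H70.Conj

/-!
The abstract situation behind the family `𝔏_G(Y)`: a group `L` with an elementary abelian subgroup `Y`
whose normalizer is the unique maximal subgroup over it, and the module `O_p(L) / C_Y(L)`.
-/

set_option autoImplicit false
set_option linter.unusedSectionVars false
set_option linter.style.haveILetI false

namespace H76

open Subgroup
open H70 (cj)
open scoped Pointwise

section Quot

variable {X : Type*} [Group X]

/-- The image of the situation in `L / O_p(L)`. -/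
structure TopCtx (p : ℕ) (T : Subgroup X) : Prop where
  comm : IsMulCommutative T
  pow : ∀ x ∈ T, x ^ p = 1
  ne : T ≠ ⊥
  proper : normalizer (T : Set X) ≠ ⊤
  max : ∀ K : Subgroup X, T ≤ K → K ≠ ⊤ → K ≤ normalizer (T : Set X)
  nclose : normalClosure (T : Set X) = ⊤
  core : Cfsg.pCore p X = ⊥

/-- An element conjugate to a product of nontrivial elements of two distinct conjugates of `T`. -/
def IsTwoProd (T : Subgroup X) (x : X) : Prop :=
  ∃ c g a b : X, g ∉ normalizer (T : Set X) ∧ a ∈ T ∧ a ≠ 1 ∧ b ∈ cj g T ∧ b ≠ 1 ∧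
    c * x * c⁻¹ = a * b

/-- What is used of the structure of `L / O_p(L)`. -/
structure TopModel (p : ℕ) (T : Subgroup X) : Prop where
  omega : ∀ x ∈ normalizer (T : Set X), x ^ p = 1 → x ∈ T
  irred : ∀ V : Subgroup X, V ≤ T → V ≠ ⊥ →
    normalizer (T : Set X) ≤ normalizer (V : Set X) → V = T
  free : ∀ x : X, (orderOf x).Prime → orderOf x ≠ p → IsTwoProd T x ∨
    (p ≠ 2 ∧ ∃ i j : X, IsTwoProd T i ∧ IsTwoProd T j ∧ IsTwoProd T (i * j) ∧
      i ^ 2 = x ∧ j ^ 2 = x ∧ (i * j) ^ 2 = x)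

variable {p : ℕ} {T : Subgroup X}

theorem TopModel.cj_mem [Finite X] (hX : TopCtx p T) (hm : TopModel p T) {g : X}
    (h : cj g T ≤ normalizer (T : Set X)) : g ∈ normalizer (T : Set X) := by
  refine H70.cj_eq_self_iff.mp (H70.eq_of_cj_le fun x hx => ?_)
  refine hm.omega x (h hx) ?_
  have h1 := hX.pow _ (H70.mem_cj.mp hx)
  have e : (g⁻¹ * x * g) ^ p = g⁻¹ * x ^ p * g := by simpa using conj_pow (i := p) (a := g⁻¹) (b := x)
  rw [e] at h1
  calc x ^ p = g * (g⁻¹ * x ^ p * g) * g⁻¹ := by group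
    _ = 1 := by rw [h1]; group

/-- Two distinct conjugates meet trivially. -/
theorem TopModel.eq_one_of_mem_inf [Finite X] [hp : Fact p.Prime] (hX : TopCtx p T)
    (hm : TopModel p T) {g x : X} (hg : g ∉ normalizer (T : Set X)) (hx : x ∈ T)
    (hx' : x ∈ cj g T) : x = 1 := by
  have hsup : T ⊔ cj g T = ⊤ := by
    by_contra h
    exact hg (hm.cj_mem hX (le_sup_right.trans (hX.max _ le_sup_left h)))
  have hc : x ∈ center X := by
    rw [mem_center_iff]
    intro y
    have hy : y ∈ centralizer ({x} : Set X) := by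
      have hle : T ⊔ cj g T ≤ centralizer ({x} : Set X) := by
        refine sup_le (fun t ht => mem_centralizer_singleton_iff.mpr ?_)
          (fun t ht => mem_centralizer_singleton_iff.mpr ?_)
        · exact congrArg Subtype.val (hX.comm.is_comm.comm (⟨t, ht⟩ : T) ⟨x, hx⟩)
        · have e := congrArg Subtype.val (hX.comm.is_comm.comm
            (⟨_, H70.mem_cj.mp ht⟩ : T) ⟨_, H70.mem_cj.mp hx'⟩)
          simp only [Subgroup.coe_mul] at e
          calc t * x = g * ((g⁻¹ * t * g) * (g⁻¹ * x * g)) * g⁻¹ := by group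
            _ = g * ((g⁻¹ * x * g) * (g⁻¹ * t * g)) * g⁻¹ := by rw [e]
            _ = x * t := by group
      rw [hsup] at hle; exact hle (mem_top y)
    exact mem_centralizer_singleton_iff.mp hy
  have hle : zpowers x ≤ Cfsg.pCore p X := by
    haveI : (zpowers x).Normal := ⟨fun z hz y => by
      obtain ⟨k, rfl⟩ := hz
      have := mem_center_iff.mp ((center X).zpow_mem hc k) y
      rw [this]; simp⟩
    refine H1.le_pCore ?_
    rintro ⟨z, k, rfl⟩
    refine ⟨1, Subtype.ext ?_⟩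
    have : (x ^ k) ^ (p ^ 1) = 1 := by
      rw [pow_one, ← zpow_natCast, zpow_comm, zpow_natCast, hX.pow x hx, one_zpow]
    simpa using this
  rw [hX.core] at hle
  exact mem_bot.mp (hle (mem_zpowers x))

end Quot

section Main

variable {L : Type*} [Group L]

/-- The situation in `L` itself. -/
structure LCtx (p : ℕ) (Y : Subgroup L) : Prop where
  comm : IsMulCommutative Y
  pow : ∀ y ∈ Y, y ^ p = 1
  core_le : Cfsg.pCore p L ≤ normalizer (Y : Set L)
  core_gen : Cfsg.pCore p L = normalClosure ((Y ⊓ Cfsg.pCore p L : Subgroup L) : Set L)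
  proper : normalizer (Y : Set L) ≠ ⊤
  max : ∀ K : Subgroup L, Y ≤ K → K ≠ ⊤ → K ≤ normalizer (Y : Set L)
  nclose : normalClosure (Y : Set L) = ⊤

variable [Finite L] {p : ℕ} [hp : Fact p.Prime] {Y : Subgroup L}

theorem LCtx.isPGroup (h : LCtx p Y) : IsPGroup p Y := fun y =>
  ⟨1, Subtype.ext (by simpa using h.pow y y.2)⟩

theorem LCtx.not_le_core (h : LCtx p Y) : ¬ Y ≤ Cfsg.pCore p L := by
  intro hle
  apply h.proper
  rw [eq_top_iff, ← h.nclose]
  exact (normalClosure_le_normal hle).trans h.core_le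

theorem LCtx.normalizer_sup (h : LCtx p Y) :
    normalizer ((Y ⊔ Cfsg.pCore p L : Subgroup L) : Set L) = normalizer (Y : Set L) := by
  refine le_antisymm (h.max _ (le_sup_left.trans le_normalizer) fun he => h.not_le_core ?_) ?_
  · haveI := H75.normal_of_top_le he.ge
    haveI := H1.pCore_normal' p L
    exact le_sup_left.trans (H1.le_pCore
      (h.isPGroup.to_sup_of_normal_right (H1.isPGroup_pCore p L)))
  · haveI := H1.pCore_normal' p L
    refine le_trans (le_inf le_rfl ?_) (H75.normalizer_inf_le_normalizer_sup _ _)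
    rw [normalizer_eq_top (H := Cfsg.pCore p L)]; exact le_top

variable {X : Type*} [Group X] [Finite X]

theorem LCtx.comap_normalizer (h : LCtx p Y) {φ : L →* X} (hs : Function.Surjective φ)
    (hk : φ.ker = Cfsg.pCore p L) :
    (normalizer ((Y.map φ : Subgroup X) : Set X)).comap φ = normalizer (Y : Set L) := by
  rw [comap_normalizer_eq_of_surjective _ hs, comap_map_eq, hk, h.normalizer_sup]

theorem LCtx.topCtx (h : LCtx p Y) {φ : L →* X} (hs : Function.Surjective φ)
    (hk : φ.ker = Cfsg.pCore p L) : TopCtx p (Y.map φ) where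
  comm := ⟨⟨fun a b => by
    obtain ⟨x, hx, e1⟩ := a.2
    obtain ⟨y, hy, e2⟩ := b.2
    apply Subtype.ext
    simp only [Subgroup.coe_mul, ← e1, ← e2, ← map_mul]
    exact congrArg φ (congrArg Subtype.val (h.comm.is_comm.comm (⟨x, hx⟩ : Y) ⟨y, hy⟩))⟩⟩
  pow := by
    rintro _ ⟨y, hy, rfl⟩
    rw [← map_pow, h.pow y hy, map_one]
  ne := by
    intro e
    rw [Subgroup.map_eq_bot_iff, hk] at e
    exact h.not_le_core e
  proper := by
    intro e
    apply h.proper
    rw [← h.comap_normalizer hs hk, e, comap_top]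
  max := by
    intro K hK hne
    have h1 : K.comap φ ≤ normalizer (Y : Set L) :=
      h.max _ (map_le_iff_le_comap.mp hK) fun e => hne (by
        rw [← map_comap_eq_self_of_surjective hs K, e, map_top_of_surjective φ hs])
    rw [← h.comap_normalizer hs hk] at h1
    exact (comap_le_comap_of_surjective hs).mp h1
  nclose := by
    rw [eq_top_iff, ← map_top_of_surjective φ hs, ← h.nclose]
    refine map_le_iff_le_comap.mpr (normalClosure_le_normal fun y hy => ?_)
    exact subset_normalClosure (mem_map_of_mem φ hy)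
  core := by
    haveI := H1.pCore_normal' p X
    have h1 : IsPGroup p ((Cfsg.pCore p X).comap φ) :=
      IsPGroup.comap_of_ker_isPGroup (H1.isPGroup_pCore p X) φ
        (hk ▸ H1.isPGroup_pCore p L)
    have h2 := H1.le_pCore h1
    rw [← hk] at h2
    rw [eq_bot_iff, ← map_comap_eq_self_of_surjective hs (Cfsg.pCore p X)]
    refine (map_mono h2).trans ?_
    rintro _ ⟨x, hx, rfl⟩
    exact mem_bot.mpr hx

theorem LCtx.sup_cj (h : LCtx p Y) {φ : L →* X} (hs : Function.Surjective φ)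
    (hk : φ.ker = Cfsg.pCore p L) (hm : TopModel p (Y.map φ)) {g : L}
    (hg : g ∉ normalizer (Y : Set L)) : Y ⊔ cj g Y = ⊤ := by
  by_contra hne
  apply hg
  rw [← h.comap_normalizer hs hk]
  refine hm.cj_mem (h.topCtx hs hk) ?_
  intro x hx
  obtain ⟨y, hy, e⟩ := H70.mem_cj.mp hx
  have h1 : g * y * g⁻¹ ∈ normalizer (Y : Set L) :=
    h.max _ le_sup_left hne (mem_sup_right (H70.mem_cj.mpr (by simpa [mul_assoc] using hy)))
  rw [← h.comap_normalizer hs hk, mem_comap, map_mul, map_mul, map_inv, e] at h1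
  simpa [mul_assoc] using h1

/-- `h` has no nontrivial fixed point on `O_p(L)` modulo `C_Y(L)`. -/
def IsFree (p : ℕ) (Y : Subgroup L) (x : L) : Prop :=
  ∀ a ∈ Cfsg.pCore p L, x * a * x⁻¹ * a⁻¹ ∈ Y ⊓ center L → a ∈ Y ⊓ center L

/-- The projection to `L / C_Y(L)`. -/
local notation3 "π" => QuotientGroup.mk' (Y ⊓ center L)

omit [Finite L] hp in
theorem center_part_normal : (Y ⊓ center L).Normal := ⟨fun c hc l => by
  rw [mem_center_iff.mp hc.2 l, mul_inv_cancel_right]; exact hc⟩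

attribute [local instance] center_part_normal

omit [Finite L] hp in
theorem commute_mk_iff {l a : L} : Commute (π l) (π a) ↔ l * a * l⁻¹ * a⁻¹ ∈ Y ⊓ center L := by
  rw [← QuotientGroup.eq_one_iff (N := Y ⊓ center L), commute_iff_eq]
  show _ ↔ π (l * a * l⁻¹ * a⁻¹) = 1
  rw [map_mul, map_mul, map_mul, map_inv, map_inv, mul_inv_eq_one, mul_inv_eq_iff_eq_mul]

omit [Finite L] hp in
theorem mk_eq_one_iff {a : L} : π a = 1 ↔ a ∈ Y ⊓ center L := QuotientGroup.eq_one_iff a

omit [Finite L] hp in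
theorem mem_of_mk_eq {K : Subgroup L} (hK : Y ⊓ center L ≤ K) {a b : L} (ha : a ∈ K)
    (h : π a = π b) : b ∈ K := by
  have h1 : a⁻¹ * b ∈ Y ⊓ center L := QuotientGroup.eq.mp h
  simpa using K.mul_mem ha (hK h1)

theorem LCtx.cent_le_core (h : LCtx p Y) : Y ⊓ center L ≤ Cfsg.pCore p L := by
  haveI := center_part_normal (Y := Y)
  exact H1.le_pCore (h.isPGroup.to_le inf_le_left)

theorem LCtx.cent_le_cj (h : LCtx p Y) (g : L) : Y ⊓ center L ≤ cj g (Y ⊓ Cfsg.pCore p L) := by
  intro c hc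
  rw [H70.mem_cj, mem_center_iff.mp hc.2 g⁻¹, mul_assoc, inv_mul_cancel, mul_one]
  exact ⟨hc.1, h.cent_le_core hc⟩

theorem LCtx.core_norm_part (h : LCtx p Y) (g : L) :
    Cfsg.pCore p L ≤ normalizer ((cj g (Y ⊓ Cfsg.pCore p L) : Subgroup L) : Set L) ∧
      cj g (Y ⊓ Cfsg.pCore p L) ≤ Cfsg.pCore p L := by
  haveI := H1.pCore_normal' p L
  have h1 : Cfsg.pCore p L ≤ normalizer ((Y ⊓ Cfsg.pCore p L : Subgroup L) : Set L) :=
    (le_inf h.core_le le_normalizer).trans (H75.normalizer_inf_le_normalizer_inf _ _)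
  constructor
  · refine H75.le_normalizer_of_conj fun k hk a ha => H70.mem_cj.mpr ?_
    have hk' : g⁻¹ * k * g ∈ Cfsg.pCore p L := by
      simpa using (H1.pCore_normal' p L).conj_mem k hk g⁻¹
    have := H75.conj_mem_of_mem_normalizer (h1 hk') (H70.mem_cj.mp ha)
    convert this using 1
    group
  · intro a ha
    simpa [mul_assoc] using (H1.pCore_normal' p L).conj_mem _ (H70.mem_cj.mp ha).2 g

omit hp in
theorem LCtx.commute_left (h : LCtx p Y) {a b : L} (ha : a ∈ Y) (hb : b ∈ Y) : a * b = b * a :=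
  congrArg Subtype.val (h.comm.is_comm.comm (⟨a, ha⟩ : Y) ⟨b, hb⟩)

omit hp in
theorem LCtx.commute_cj (h : LCtx p Y) {g a b : L} (ha : a ∈ cj g Y) (hb : b ∈ cj g Y) :
    a * b = b * a := by
  have e := h.commute_left (H70.mem_cj.mp ha) (H70.mem_cj.mp hb)
  calc a * b = g * ((g⁻¹ * a * g) * (g⁻¹ * b * g)) * g⁻¹ := by group
    _ = g * ((g⁻¹ * b * g) * (g⁻¹ * a * g)) * g⁻¹ := by rw [e]
    _ = b * a := by group

theorem LCtx.commutator_mem (h : LCtx p Y) {x a : L} (hx : x ∈ Y)
    (ha : a ∈ Cfsg.pCore p L) : x * a * x⁻¹ * a⁻¹ ∈ Y ⊓ Cfsg.pCore p L := by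
  refine ⟨?_, (Cfsg.pCore p L).mul_mem ((H1.pCore_normal' p L).conj_mem a ha x) (inv_mem ha)⟩
  rw [mul_assoc, mul_assoc, ← mul_assoc a]
  exact Y.mul_mem hx (H75.conj_mem_of_mem_normalizer (h.core_le ha) (inv_mem hx))

/-- The decomposition of `O_p(L)` given by two conjugates of `Y` generating `L`. -/
theorem LCtx.exists_mul (h : LCtx p Y) {g : L} (hg : Y ⊔ cj g Y = ⊤) {a : L}
    (ha : a ∈ Cfsg.pCore p L) :
    ∃ u ∈ Y ⊓ Cfsg.pCore p L, ∃ v ∈ cj g (Y ⊓ Cfsg.pCore p L), a = u * v := by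
  haveI := H1.pCore_normal' p L
  set U := Y ⊓ Cfsg.pCore p L with hU
  have hVA := (h.core_norm_part g).2
  have hUA : U ≤ Cfsg.pCore p L := inf_le_right
  have hnorm : ∀ y ∈ Y, y ∈ normalizer ((U ⊔ cj g U : Subgroup L) : Set L) := by
    intro y hy
    have hstab : ∀ z ∈ Y, U ⊔ cj g U ≤ (U ⊔ cj g U).comap (MulAut.conj z).toMonoidHom := by
      intro z hz
      refine sup_le (fun u hu => ?_) (fun v hv => ?_)
      · show z * u * z⁻¹ ∈ U ⊔ cj g U
        rw [h.commute_left hz hu.1, mul_inv_cancel_right]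
        exact mem_sup_left hu
      · show z * v * z⁻¹ ∈ U ⊔ cj g U
        rw [show z * v * z⁻¹ = (z * v * z⁻¹ * v⁻¹) * v by group]
        exact mul_mem (mem_sup_left (h.commutator_mem hz (hVA hv))) (mem_sup_right hv)
    rw [mem_normalizer_iff]
    refine fun n => ⟨fun hn => hstab y hy hn, fun hn => ?_⟩
    simpa [mul_assoc] using hstab y⁻¹ (inv_mem hy) hn
  have hnorm' : ∀ y ∈ cj g Y, y ∈ normalizer ((U ⊔ cj g U : Subgroup L) : Set L) := by
    intro y hy
    have hstab : ∀ z ∈ cj g Y, U ⊔ cj g U ≤ (U ⊔ cj g U).comap (MulAut.conj z).toMonoidHom := by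
      intro z hz
      refine sup_le (fun u hu => ?_) (fun v hv => ?_)
      · show z * u * z⁻¹ ∈ U ⊔ cj g U
        rw [show z * u * z⁻¹ = (z * u * z⁻¹ * u⁻¹) * u by group]
        refine mul_mem (mem_sup_right (H70.mem_cj.mpr ?_)) (mem_sup_left hu)
        convert h.commutator_mem (H70.mem_cj.mp hz)
          (show g⁻¹ * u * g ∈ Cfsg.pCore p L by
            simpa using (H1.pCore_normal' p L).conj_mem u (hUA hu) g⁻¹) using 1
        group
      · show z * v * z⁻¹ ∈ U ⊔ cj g U
        rw [h.commute_cj hz (H70.cj_mono g inf_le_left hv), mul_inv_cancel_right]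
        exact mem_sup_right hv
    rw [mem_normalizer_iff]
    refine fun n => ⟨fun hn => hstab y hy hn, fun hn => ?_⟩
    simpa [mul_assoc] using hstab y⁻¹ (inv_mem hy) hn
  haveI : (U ⊔ cj g U).Normal := H75.normal_of_top_le (hg ▸ sup_le hnorm hnorm')
  have hle : Cfsg.pCore p L ≤ U ⊔ cj g U :=
    h.core_gen.le.trans (normalClosure_le_normal (SetLike.coe_subset_coe.mpr le_sup_left))
  have hmul : ((U ⊔ cj g U : Subgroup L) : Set L) = (U : Set L) * ((cj g U : Subgroup L) : Set L) :=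
    coe_mul_of_left_le_normalizer_right U (cj g U) (hUA.trans (h.core_norm_part g).1)
  have hmem : a ∈ ((U ⊔ cj g U : Subgroup L) : Set L) := hle ha
  rw [hmul, Set.mem_mul] at hmem
  obtain ⟨u, hu, v, hv, e⟩ := hmem
  exact ⟨u, hu, v, hv, e.symm⟩

theorem LCtx.inf_part (h : LCtx p Y) {g : L} (hg : Y ⊔ cj g Y = ⊤) {a : L}
    (ha : a ∈ Y ⊓ Cfsg.pCore p L) (ha' : a ∈ cj g (Y ⊓ Cfsg.pCore p L)) : a ∈ Y ⊓ center L := by
  refine ⟨ha.1, mem_center_iff.mpr fun l => ?_⟩
  have hle : Y ⊔ cj g Y ≤ centralizer ({a} : Set L) := sup_le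
    (fun t ht => mem_centralizer_singleton_iff.mpr (h.commute_left ht ha.1))
    (fun t ht => mem_centralizer_singleton_iff.mpr
      (h.commute_cj ht (H70.cj_mono g inf_le_left ha')))
  rw [hg] at hle
  exact mem_centralizer_singleton_iff.mp (hle (mem_top l))

/-- An element of `Y` outside `O_p(L)` centralizes only `(Y ∩ O_p(L))` modulo `C_Y(L)`. -/
theorem LCtx.mem_part_of_commute (h : LCtx p Y) {φ : L →* X} (hs : Function.Surjective φ)
    (hk : φ.ker = Cfsg.pCore p L) (hm : TopModel p (Y.map φ)) {x a : L} (hx : x ∈ Y)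
    (hxA : x ∉ Cfsg.pCore p L) (ha : a ∈ Cfsg.pCore p L) (hc : Commute (π x) (π a)) :
    a ∈ Y ⊓ Cfsg.pCore p L := by
  obtain ⟨g, hg⟩ : ∃ g, g ∉ normalizer (Y : Set L) := by
    by_contra! e
    exact h.proper (eq_top_iff.mpr fun g _ => e g)
  have hsup := h.sup_cj hs hk hm hg
  obtain ⟨u, hu, v, hv, rfl⟩ := h.exists_mul hsup ha
  have hxu : Commute (π x) (π u) := by
    rw [commute_iff_eq, ← map_mul, ← map_mul, h.commute_left hx hu.1]
  have hxv : Commute (π x) (π v) := by
    have := hxu.inv_right.mul_right hc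
    rwa [← map_inv, ← map_mul, inv_mul_cancel_left] at this
  set S : Subgroup L := (centralizer ({π v} : Set (L ⧸ Y ⊓ center L))).comap π with hS
  have hxS : x ∈ S := mem_centralizer_singleton_iff.mpr hxv.eq
  have hYS : cj g Y ≤ S := fun t ht => mem_centralizer_singleton_iff.mpr (by
    rw [← map_mul, ← map_mul, h.commute_cj ht (H70.cj_mono g inf_le_left hv)])
  refine mul_mem hu ?_
  by_cases hST : S = ⊤
  · have hg' : Commute (π g) (π v) :=
      mem_centralizer_singleton_iff.mp (show π g ∈ _ from (hST ▸ mem_top g : g ∈ S))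
    refine mem_of_mk_eq (le_inf inf_le_left h.cent_le_core) (H70.mem_cj.mp hv) ?_
    rw [map_mul, map_mul, map_inv, mul_assoc, ← hg'.eq, inv_mul_cancel_left]
  · exfalso
    have hsub : cj g⁻¹ S ≤ normalizer (Y : Set L) := by
      refine h.max _ ?_ fun e => hST ?_
      · have := H70.cj_mono g⁻¹ hYS
        rwa [H70.cj_cj, inv_mul_cancel, H70.cj_one] at this
      · rw [← H70.cj_one S, ← mul_inv_cancel g, ← H70.cj_cj, e]
        exact map_top_of_surjective _ (MulAut.conj g).surjective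
    have hx' : g⁻¹ * x * g ∈ normalizer (Y : Set L) :=
      hsub (H70.mem_cj.mpr (by simpa [mul_assoc] using hxS))
    rw [← h.comap_normalizer hs hk, mem_comap, map_mul, map_mul, map_inv] at hx'
    have hT := hm.omega _ hx' (by
      have e : ((φ g)⁻¹ * φ x * φ g) ^ p = (φ g)⁻¹ * φ x ^ p * φ g := by
        simpa using conj_pow (i := p) (a := (φ g)⁻¹) (b := φ x)
      rw [e, ← map_pow, h.pow x hx, map_one, mul_one, inv_mul_cancel])
    have hgn : φ g ∉ normalizer (Y.map φ : Set X) := fun e =>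
      hg (by rw [← h.comap_normalizer hs hk]; exact e)
    refine hxA ?_
    rw [← hk]
    exact hm.eq_one_of_mem_inf (h.topCtx hs hk) hgn (mem_map_of_mem φ hx) (H70.mem_cj.mpr hT)

theorem LCtx.core_commute (h : LCtx p Y) {φ : L →* X} (hs : Function.Surjective φ)
    (hk : φ.ker = Cfsg.pCore p L) (hm : TopModel p (Y.map φ)) {a b : L}
    (ha : a ∈ Cfsg.pCore p L) (hb : b ∈ Cfsg.pCore p L) :
    Commute (π a) (π b) ∧ π a ^ p = 1 := by
  obtain ⟨g, hg⟩ : ∃ g, g ∉ normalizer (Y : Set L) := by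
    by_contra! e
    exact h.proper (eq_top_iff.mpr fun g _ => e g)
  have hsup := h.sup_cj hs hk hm hg
  have huv : ∀ u ∈ Y ⊓ Cfsg.pCore p L, ∀ v ∈ cj g (Y ⊓ Cfsg.pCore p L),
      Commute (π u) (π v) := by
    intro u hu v hv
    refine commute_mk_iff.mpr (h.inf_part hsup (h.commutator_mem hu.1 ((h.core_norm_part g).2 hv)) ?_)
    exact mul_mem (H75.conj_mem_of_mem_normalizer ((h.core_norm_part g).1 hu.2) hv) (inv_mem hv)
  obtain ⟨u, hu, v, hv, rfl⟩ := h.exists_mul hsup ha
  obtain ⟨u', hu', v', hv', rfl⟩ := h.exists_mul hsup hb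
  have hv1 := H70.cj_mono g (inf_le_left : Y ⊓ Cfsg.pCore p L ≤ Y) hv
  have hv'1 := H70.cj_mono g (inf_le_left : Y ⊓ Cfsg.pCore p L ≤ Y) hv'
  have cuu : Commute (π u) (π u') := by
    rw [commute_iff_eq, ← map_mul, ← map_mul, h.commute_left hu.1 hu'.1]
  have cvv : Commute (π v) (π v') := by
    rw [commute_iff_eq, ← map_mul, ← map_mul, h.commute_cj hv1 hv'1]
  constructor
  · rw [map_mul, map_mul]
    exact ((cuu.mul_right (huv u hu v' hv')).mul_left
      (((huv u' hu' v hv).symm).mul_right cvv))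
  · rw [map_mul, (huv u hu v hv).mul_pow, ← map_pow, ← map_pow, h.pow u hu.1, map_one, one_mul]
    have hpw := h.pow _ (H70.mem_cj.mp hv1)
    have e : (g⁻¹ * v * g) ^ p = g⁻¹ * v ^ p * g := by
      simpa using conj_pow (i := p) (a := g⁻¹) (b := v)
    rw [e] at hpw
    rw [show v ^ p = g * (g⁻¹ * v ^ p * g) * g⁻¹ by group, hpw]
    simp

/-- A conjugate of a product `x z` of elements from two distinct conjugates of `Y` is free. -/
theorem LCtx.free_of_twoProd (h : LCtx p Y) {φ : L →* X} (hs : Function.Surjective φ)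
    (hk : φ.ker = Cfsg.pCore p L) (hm : TopModel p (Y.map φ)) {w : L}
    (hw : IsTwoProd (Y.map φ) (φ w)) : IsFree p Y w := by
  obtain ⟨c', g', a', b', hg', ha', ha1, hb', hb1, e⟩ := hw
  obtain ⟨c, rfl⟩ := hs c'
  obtain ⟨g, rfl⟩ := hs g'
  obtain ⟨x, hx, rfl⟩ := ha'
  obtain ⟨y, hy, ey⟩ := H70.mem_cj.mp hb'
  have hg : g ∉ normalizer (Y : Set L) := fun hn =>
    hg' (by rw [← h.comap_normalizer hs hk] at hn; exact hn)
  have hsup := h.sup_cj hs hk hm hg
  set z := g * y * g⁻¹ with hz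
  have hzY : z ∈ cj g Y := H70.mem_cj.mpr (by simpa [hz, mul_assoc] using hy)
  have hez : φ z = b' := by
    rw [hz, map_mul, map_mul, map_inv, ey]; group
  have hxA : x ∉ Cfsg.pCore p L := fun hA => ha1 (by rwa [← hk] at hA)
  have hyA : y ∉ Cfsg.pCore p L := fun hA => hb1 (by
    rw [← hk] at hA
    have h1 : φ y = 1 := hA
    rw [← hez, hz, map_mul, map_mul, map_inv, h1, mul_one, mul_inv_cancel])
  clear_value z
  obtain ⟨d, hd, hcd⟩ : ∃ d ∈ Cfsg.pCore p L, c * w * c⁻¹ = x * z * d := by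
    refine ⟨(x * z)⁻¹ * (c * w * c⁻¹), ?_, by group⟩
    rw [← hk]
    show φ _ = 1
    rw [map_mul, map_inv, map_mul, map_mul, map_mul, map_inv, hez, e]
    group
  intro a ha hfix
  have hca : c * a * c⁻¹ ∈ Cfsg.pCore p L := (H1.pCore_normal' p L).conj_mem a ha c
  suffices hC : c * a * c⁻¹ ∈ Y ⊓ center L by
    simpa [mul_assoc] using (center_part_normal (Y := Y)).conj_mem _ hC c⁻¹
  have hXZ : Commute (π x * π z) (π (c * a * c⁻¹)) := by
    have h1 : Commute (π (c * w * c⁻¹)) (π (c * a * c⁻¹)) := by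
      simp only [map_mul, map_inv]
      exact (Commute.conj_iff (π c)).mpr (commute_mk_iff.mpr hfix)
    rw [hcd, map_mul, map_mul] at h1
    have h2 := h1.mul_left ((h.core_commute hs hk hm hd hca).1.inv_left)
    rwa [mul_inv_cancel_right] at h2
  obtain ⟨u, hu, v, hv, euv⟩ := h.exists_mul hsup hca
  have hv1 := H70.cj_mono g (inf_le_left : Y ⊓ Cfsg.pCore p L ≤ Y) hv
  have hvA := (h.core_norm_part g).2 hv
  have cxu : Commute (π x) (π u) := by
    rw [commute_iff_eq, ← map_mul, ← map_mul, h.commute_left hx hu.1]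
  have czv : Commute (π z) (π v) := by
    rw [commute_iff_eq, ← map_mul, ← map_mul, h.commute_cj hzY hv1]
  -- the commutator `t = [z, u]` lies in the second part
  set t := z * u * z⁻¹ * u⁻¹ with ht
  have htV : t ∈ cj g (Y ⊓ Cfsg.pCore p L) := H70.mem_cj.mpr (by
    convert h.commutator_mem (H70.mem_cj.mp hzY)
      (show g⁻¹ * u * g ∈ Cfsg.pCore p L by
        simpa using (H1.pCore_normal' p L).conj_mem u hu.2 g⁻¹) using 1
    rw [ht]; group)
  have htA := (h.core_norm_part g).2 htV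
  have key : π (x * (t * v) * x⁻¹) = π v := by
    have h1 := hXZ.eq
    rw [euv, ← map_mul, ← map_mul, ← map_mul] at h1
    have h2 : π (x * z * (u * v) * (x * z)⁻¹) = π (u * v) := by
      rw [map_mul, h1, ← map_mul, mul_inv_cancel_right]
    have h3 : π (x * z * (u * v) * (x * z)⁻¹) = π (x * t * x⁻¹) * π u * π (x * v * x⁻¹) := by
      simp only [map_mul, map_inv, ht, mul_inv_rev]
      calc π x * π z * (π u * π v) * ((π z)⁻¹ * (π x)⁻¹)
          = π x * π z * π u * (π v * (π z)⁻¹) * (π x)⁻¹ := by group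
        _ = π x * π z * π u * ((π z)⁻¹ * π v) * (π x)⁻¹ := by rw [czv.inv_left.eq]
        _ = π x * (π z * π u * (π z)⁻¹ * (π u)⁻¹) * (π x)⁻¹ * (π x * π u * (π x)⁻¹) *
              (π x * π v * (π x)⁻¹) := by group
        _ = _ := by rw [cxu.eq, mul_inv_cancel_right]
    have hcm : Commute (π (x * t * x⁻¹)) (π u) :=
      (h.core_commute hs hk hm ((H1.pCore_normal' p L).conj_mem t htA x) hu.2).1
    rw [h3, hcm.eq, mul_assoc, ← map_mul, map_mul π u v, mul_right_inj] at h2
    rw [← h2]; congr 1; group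
  have htv : t ∈ Y ⊓ center L := by
    refine h.inf_part hsup ?_ htV
    have hcom := h.commutator_mem hx (mul_mem htA hvA)
    refine mem_of_mk_eq (le_inf inf_le_left h.cent_le_core) (inv_mem hcom) ?_
    rw [map_inv, map_mul, key, map_inv, map_mul]
    group
  have hπt : π t = 1 := mk_eq_one_iff.mpr htv
  have hxv : Commute (π x) (π v) := by
    rw [map_mul, map_mul, map_mul, hπt, one_mul, map_inv, mul_inv_eq_iff_eq_mul] at key
    exact key
  have hzu : Commute (π z) (π u) := commute_mk_iff.mpr htv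
  have hvC : v ∈ Y ⊓ center L :=
    h.inf_part hsup (h.mem_part_of_commute hs hk hm hx hxA hvA hxv) hv
  have huC : u ∈ Y ⊓ center L := by
    refine h.inf_part hsup hu (H70.mem_cj.mpr ?_)
    refine h.mem_part_of_commute hs hk hm (H70.mem_cj.mp hzY)
      (by rw [hz]; simpa [mul_assoc] using hyA) ?_ ?_
    · simpa using (H1.pCore_normal' p L).conj_mem u hu.2 g⁻¹
    · simp only [map_mul, map_inv]
      simpa using (Commute.conj_iff (π g)⁻¹).mpr hzu
  rw [euv]
  exact mul_mem huC hvC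

theorem LCtx.isFree (h : LCtx p Y) {φ : L →* X} (hs : Function.Surjective φ)
    (hk : φ.ker = Cfsg.pCore p L) (hm : TopModel p (Y.map φ)) {w : L}
    (hw : ¬ ∃ k : ℕ, orderOf w = p ^ k) : IsFree p Y w := by
  intro a ha hfix
  obtain ⟨n, hn1, hn⟩ : ∃ n, (orderOf (φ (w ^ n))).Prime ∧ orderOf (φ (w ^ n)) ≠ p := by
    obtain ⟨r, hr, hrd, hrp⟩ : ∃ r, Nat.Prime r ∧ r ∣ orderOf (φ w) ∧ r ≠ p := by
      by_contra! hall
      apply hw
      have hpos : orderOf (φ w) ≠ 0 := (orderOf_pos _).ne'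
      obtain ⟨k, hk'⟩ : ∃ k, orderOf (φ w) = p ^ k := ⟨(orderOf (φ w)).primeFactorsList.length,
        Nat.eq_prime_pow_of_unique_prime_dvd hpos fun {d} hd hdd => hall d hd hdd⟩
      have hwk : w ^ p ^ k ∈ φ.ker := by
        show φ _ = 1
        rw [map_pow, ← hk', pow_orderOf_eq_one]
      rw [hk] at hwk
      obtain ⟨j, hj⟩ := H1.isPGroup_pCore p L ⟨_, hwk⟩
      have hj' : w ^ p ^ (k + j) = 1 := by
        rw [pow_add, pow_mul]; simpa using congrArg Subtype.val hj
      obtain ⟨i, -, hi⟩ := (Nat.dvd_prime_pow hp.out).mp (orderOf_dvd_of_pow_eq_one hj')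
      exact ⟨i, hi⟩
    refine ⟨orderOf (φ w) / r, ?_, ?_⟩ <;>
      rw [map_pow, orderOf_pow_orderOf_div (orderOf_pos _).ne' hrd] <;> assumption
  have hfix' : Commute (π (w ^ n)) (π a) := by
    rw [map_pow]; exact (commute_mk_iff.mpr hfix).pow_left n
  rcases hm.free _ hn1 hn with ht | ⟨hp2, i', j', hi, hj, hij, ei, ej, eij⟩
  · exact h.free_of_twoProd hs hk hm ht a ha (commute_mk_iff.mp hfix')
  obtain ⟨i, rfl⟩ := hs i'
  obtain ⟨j, rfl⟩ := hs j'
  have inv : ∀ s : L, IsFree p Y s → φ s ^ 2 = φ (w ^ n) → π s * π a * (π s)⁻¹ = (π a)⁻¹ := by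
    intro s hs2 e2
    have hd : (w ^ n)⁻¹ * s ^ 2 ∈ Cfsg.pCore p L := by
      rw [← hk]; show φ _ = 1; rw [map_mul, map_inv, map_pow φ s, e2, inv_mul_cancel]
    have h2 : Commute (π s ^ 2) (π a) := by
      have := hfix'.mul_left (h.core_commute hs hk hm hd ha).1
      rwa [← map_mul, mul_inv_cancel_left, map_pow] at this
    have hb := h.core_commute hs hk hm ha ((H1.pCore_normal' p L).conj_mem a ha s)
    have hmem := hs2 (a * (s * a * s⁻¹))
      (mul_mem ha ((H1.pCore_normal' p L).conj_mem a ha s)) (by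
        rw [← commute_mk_iff, map_mul]
        show π s * (π a * π (s * a * s⁻¹)) = π a * π (s * a * s⁻¹) * π s
        rw [hb.1.eq]
        simp only [map_mul, map_inv]
        have e := h2.eq
        rw [pow_two] at e
        calc π s * (π s * π a * (π s)⁻¹ * π a)
            = (π s * π s * π a) * ((π s)⁻¹ * π a) := by group
          _ = (π a * (π s * π s)) * ((π s)⁻¹ * π a) := by rw [e]
          _ = π a * π s * π a := by group
          _ = π a * (π s * π a * (π s)⁻¹) * π s := by group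
          _ = _ := by rw [← (show Commute (π a) (π s * π a * (π s)⁻¹) by
              simpa only [map_mul, map_inv] using hb.1).eq])
    have := mk_eq_one_iff.mpr hmem
    rw [map_mul, map_mul, map_mul, map_inv, mul_eq_one_iff_eq_inv'] at this
    exact this
  have e1 := inv i (h.free_of_twoProd hs hk hm hi) ei
  have e2 := inv j (h.free_of_twoProd hs hk hm hj) ej
  have e3 := inv (i * j) (h.free_of_twoProd hs hk hm (by rwa [map_mul])) (by rwa [map_mul])
  have e4 : (π a)⁻¹ = π a := by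
    rw [← e3, map_mul, mul_inv_rev]
    calc π i * π j * π a * ((π j)⁻¹ * (π i)⁻¹) = π i * (π j * π a * (π j)⁻¹) * (π i)⁻¹ := by group
      _ = (π i * π a * (π i)⁻¹)⁻¹ := by rw [e2]; group
      _ = _ := by rw [e1, inv_inv]
  have h2 : π a ^ 2 = 1 := by rw [pow_two]; nth_rewrite 1 [← e4]; exact inv_mul_cancel _
  have := pow_gcd_eq_one.mpr ⟨h2, (h.core_commute hs hk hm ha ha).2⟩
  rw [(Nat.coprime_primes Nat.prime_two hp.out).mpr (Ne.symm hp2), pow_one] at this
  exact mk_eq_one_iff.mp this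

end Main

end H76
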