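import Cfsg.Agent.H76.FrakLAbstract
import Cfsg.Agent.H74.SL2
import Cfsg.Agent.H57.SzNorm
import Cfsg.Agent.H57.SzSolub
import Cfsg.Agent.H57.SzForm
import Cfsg.Agent.H63.SzBorel

/-!
The three models for `L / O_p(L)` in the family `𝔏_G(Y)`.
-/

set_option autoImplicit false
set_option linter.unusedSectionVars false
set_option linter.style.haveILetI false

namespace H76

open Subgroup
open H70 (cj)

section General

variable {X : Type*} [Group X] [Finite X] {p : ℕ} [Fact p.Prime]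

theorem mem_sylow_of_pow_eq_one (P : Sylow p X) {x : X}
    (hn : x ∈ normalizer ((P : Subgroup X) : Set X)) (hx : x ^ p = 1) : x ∈ (P : Subgroup X) := by
  have hp : IsPGroup p (zpowers x) := by
    rintro ⟨z, k, rfl⟩
    refine ⟨1, Subtype.ext ?_⟩
    have : (x ^ k) ^ (p ^ 1) = 1 := by
      rw [pow_one, ← zpow_natCast, zpow_comm, zpow_natCast, hx, one_zpow]
    simpa using this
  have h := P.is_maximal' (hp.to_sup_of_normal_right' P.isPGroup' (zpowers_le.mpr hn)) le_sup_right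
  exact h.le (mem_sup_left (mem_zpowers x))

omit [Finite X] in
theorem IsTwoProd.of_conj {T : Subgroup X} {x d : X} (h : IsTwoProd T (d * x * d⁻¹)) :
    IsTwoProd T x := by
  obtain ⟨c, g, a, b, h1, h2, h3, h4, h5, e⟩ := h
  exact ⟨c * d, g, a, b, h1, h2, h3, h4, h5, by rw [← e]; group⟩

theorem IsTwoProd.map {X' : Type*} [Group X'] (e : X ≃* X') {T : Subgroup X} {x : X}
    (h : IsTwoProd T x) : IsTwoProd (T.map e.toMonoidHom) (e x) := by
  obtain ⟨c, g, a, b, h1, h2, h3, h4, h5, he⟩ := h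
  refine ⟨e c, e g, e a, e b, ?_, mem_map_of_mem _ h2, by simpa using h3, ?_, by simpa using h5, ?_⟩
  · rw [← map_equiv_normalizer_eq]
    rintro ⟨y, hy, ey⟩
    exact h1 (e.injective ey ▸ hy)
  · obtain hb := H70.mem_cj.mp h4
    exact H70.mem_cj.mpr ⟨_, hb, by simp⟩
  · rw [← map_inv, ← map_mul, ← map_mul, ← map_mul, he]

theorem TopModel.map {X' : Type*} [Group X'] [Finite X'] (e : X ≃* X') {T : Subgroup X}
    (hm : TopModel p T) : TopModel p (T.map e.toMonoidHom) := by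
  have hN : normalizer ((T.map e.toMonoidHom : Subgroup X') : Set X') =
      (normalizer (T : Set X)).map e.toMonoidHom := (map_equiv_normalizer_eq T e).symm
  constructor
  · intro x hx hxp
    rw [hN] at hx
    obtain ⟨y, hy, rfl⟩ := hx
    refine mem_map_of_mem _ (hm.omega y hy (e.injective ?_))
    rw [map_pow, map_one]; exact hxp
  · intro V hV hne hnorm
    have hV' : V = (V.comap e.toMonoidHom).map e.toMonoidHom :=
      (map_comap_eq_self_of_surjective e.surjective V).symm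
    have h1 := hm.irred (V.comap e.toMonoidHom) (fun y hy => ?_) (fun he => hne ?_) ?_
    · rw [hV', h1]
    · obtain ⟨z, hz, ez⟩ := hV hy
      exact e.injective ez ▸ hz
    · rw [hV', he, Subgroup.map_bot]
    · rw [hV', hN, ← map_equiv_normalizer_eq] at hnorm
      intro y hy
      obtain ⟨z, hz, ez⟩ := hnorm (mem_map_of_mem _ hy)
      exact e.injective ez ▸ hz
  · intro x hx hxp
    obtain ⟨y, rfl⟩ := e.surjective x
    rw [MulEquiv.orderOf_eq] at hx hxp
    rcases hm.free y hx hxp with h | ⟨hp, i, j, h1, h2, h3, e1, e2, e3⟩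
    · exact Or.inl (h.map e)
    · exact Or.inr ⟨hp, e i, e j, h1.map e, h2.map e, by rw [← map_mul]; exact h3.map e,
        by rw [← map_pow, e1], by rw [← map_pow, e2], by rw [← map_mul, ← map_pow, e3]⟩

end General

section Two

variable {X : Type*} [Group X] [Finite X]

/-- If the image of `Y` has order two then `L / O_2(L)` is dihedral. -/
theorem topModel_of_card_two {T : Subgroup X} (hX : TopCtx 2 T) (hc : Nat.card T = 2) :
    TopModel 2 T := by
  haveI : Fact (Nat.Prime 2) := ⟨Nat.prime_two⟩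
  obtain ⟨⟨a, ha⟩, b, hab, -⟩ := Nat.card_eq_two_iff.mp hc
  obtain ⟨t, htT, ht1⟩ : ∃ t ∈ T, t ≠ (1 : X) := T.ne_bot_iff_exists_ne_one.mp hX.ne |>
    fun ⟨t, ht⟩ => ⟨t, t.2, fun h => ht (Subtype.ext h)⟩
  have hT : ∀ x ∈ T, x = 1 ∨ x = t := by
    intro x hx
    by_contra! h
    obtain ⟨h1, h2⟩ := h
    obtain ⟨u, v, huv, huniv⟩ := Nat.card_eq_two_iff.mp hc
    have hm : ∀ z : T, z = u ∨ z = v := fun z => by
      have : z ∈ ({u, v} : Set T) := huniv ▸ Set.mem_univ z
      simpa using this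
    rcases hm ⟨x, hx⟩ with e1 | e1 <;> rcases hm ⟨t, htT⟩ with e2 | e2 <;>
      rcases hm 1 with e3 | e3 <;>
      first
        | exact h2 (congrArg Subtype.val (e1.trans e2.symm))
        | exact h1 (congrArg Subtype.val (e1.trans e3.symm))
        | exact ht1 (congrArg Subtype.val (e2.trans e3.symm))
  have ht2 : t * t = 1 := by rw [← sq]; exact hX.pow t htT
  have hti : t⁻¹ = t := inv_eq_of_mul_eq_one_right ht2
  have hN : ∀ x ∈ normalizer (T : Set X), x * t = t * x := by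
    intro x hx
    rcases hT _ (H75.conj_mem_of_mem_normalizer hx htT) with e | e
    · exact absurd (conj_eq_one_iff.mp e) ht1
    · exact mul_inv_eq_iff_eq_mul.mp e
  obtain ⟨g, hg⟩ : ∃ g, ¬ cj g T ≤ normalizer (T : Set X) := by
    by_contra! hall
    apply hX.proper
    rw [eq_top_iff, ← hX.nclose]
    refine (closure_le _).mpr fun y hy => ?_
    obtain ⟨x, hx, hxy⟩ := Group.mem_conjugatesOfSet_iff.mp hy
    obtain ⟨c, rfl⟩ := isConj_iff.mp hxy
    exact hall c (H70.mem_cj.mpr (by simpa [mul_assoc] using hx))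
  have hsup : T ⊔ cj g T = ⊤ := by
    by_contra h
    exact hg (le_sup_right.trans (hX.max _ le_sup_left h))
  obtain ⟨s, hs⟩ : ∃ s, s = g * t * g⁻¹ := ⟨_, rfl⟩
  have hs2 : s * s = 1 := by
    calc s * s = g * (t * t) * g⁻¹ := by rw [hs]; group
      _ = 1 := by rw [ht2, mul_one, mul_inv_cancel]
  obtain ⟨c, hcdef⟩ : ∃ c, c = t * s := ⟨_, rfl⟩
  have htc : t * c * t⁻¹ = c⁻¹ := by
    rw [hcdef, mul_inv_rev, ← mul_assoc, ht2, one_mul, inv_eq_of_mul_eq_one_right hs2]
  have htk : ∀ k : ℤ, t * c ^ k * t⁻¹ = c ^ (-k) := by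
    intro k
    rw [zpow_neg, ← inv_zpow, ← htc]
    exact map_zpow (MulAut.conj t) c k
  have htk' : ∀ k : ℤ, t * c ^ k = c ^ (-k) * t := fun k => mul_inv_eq_iff_eq_mul.mp (htk k)
  have hall : ∀ x : X, ∃ k : ℤ, x = c ^ k ∨ x = c ^ k * t := by
    let D : Subgroup X :=
      { carrier := {x | ∃ k : ℤ, x = c ^ k ∨ x = c ^ k * t}
        one_mem' := ⟨0, Or.inl (by simp)⟩
        mul_mem' := by
          rintro _ _ ⟨k, rfl | rfl⟩ ⟨l, rfl | rfl⟩
          · exact ⟨k + l, Or.inl (zpow_add c k l).symm⟩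
          · exact ⟨k + l, Or.inr (by rw [zpow_add, mul_assoc])⟩
          · refine ⟨k + -l, Or.inr ?_⟩
            rw [mul_assoc, htk' l, ← mul_assoc, ← zpow_add]
          · refine ⟨k + -l, Or.inl ?_⟩
            rw [mul_assoc, ← mul_assoc t, htk' l, mul_assoc, ht2, mul_one, ← zpow_add]
        inv_mem' := by
          rintro _ ⟨k, rfl | rfl⟩
          · exact ⟨-k, Or.inl (zpow_neg c k).symm⟩
          · refine ⟨k, Or.inr ?_⟩
            rw [mul_inv_rev, hti, ← zpow_neg, htk' (-k), neg_neg] }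
    have h1 : T ≤ D := by
      intro x hx
      rcases hT x hx with rfl | rfl
      · exact D.one_mem
      · exact ⟨0, Or.inr (by simp)⟩
    have h2 : cj g T ≤ D := by
      intro x hx
      rcases hT _ (H70.mem_cj.mp hx) with e | e
      · rw [show x = 1 from (conj_eq_one_iff (a := g⁻¹)).mp (by rw [inv_inv]; exact e)]
        exact D.one_mem
      · refine ⟨-1, Or.inr ?_⟩
        rw [show x = g * (g⁻¹ * x * g) * g⁻¹ by group, e, ← hs, zpow_neg_one, hcdef, mul_inv_rev,
          inv_eq_of_mul_eq_one_right hs2, hti, mul_assoc, ht2, mul_one]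
    intro x
    exact (sup_le h1 h2) (hsup ▸ mem_top x)
  have hodd : ∀ z : X, z ∈ zpowers c → z * z = 1 → z = 1 := by
    rintro _ ⟨k, rfl⟩ hz
    have hct : c ^ k * t = t * c ^ k := by
      rw [htk' k, zpow_neg, inv_eq_of_mul_eq_one_right hz]
    haveI : (zpowers (c ^ k)).Normal := ⟨fun y hy x => by
      obtain ⟨l, rfl⟩ := hy
      have hcomm : Commute x ((c ^ k) ^ l) := by
        refine Commute.zpow_right ?_ l
        obtain ⟨j, rfl | rfl⟩ := hall x
        · exact Commute.zpow_zpow_self c j k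
        · exact (Commute.zpow_zpow_self c j k).mul_left hct.symm
      rw [hcomm.eq, mul_inv_cancel_right]
      exact zpow_mem (mem_zpowers _) l⟩
    have hle : zpowers (c ^ k) ≤ Cfsg.pCore 2 X := by
      refine H1.le_pCore ?_
      rintro ⟨y, l, rfl⟩
      refine ⟨1, Subtype.ext ?_⟩
      have : ((c ^ k) ^ l) ^ (2 ^ 1) = 1 := by
        rw [pow_one, ← zpow_natCast, zpow_comm, zpow_natCast, sq, hz, one_zpow]
      simpa using this
    rw [hX.core] at hle
    exact mem_bot.mp (hle (mem_zpowers _))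
  have hcent : ∀ k : ℤ, c ^ k * t = t * c ^ k → c ^ k = 1 := by
    intro k hk
    refine hodd _ ⟨k, rfl⟩ ?_
    rw [htk' k, mul_left_inj, zpow_neg, eq_inv_iff_mul_eq_one] at hk
    exact hk
  refine ⟨fun x hx _ => ?_, fun V hV hne _ => ?_, fun x hx hx2 => Or.inl ?_⟩
  · obtain ⟨k, rfl | rfl⟩ := hall x
    · rw [hcent k (hN _ hx)]; exact T.one_mem
    · rw [hcent k (mul_right_cancel (b := t) (by rw [hN _ hx, mul_assoc]))]
      simpa using htT
  · refine le_antisymm hV fun x hx => ?_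
    rcases hT x hx with rfl | rfl
    · exact V.one_mem
    · obtain ⟨⟨v, hv⟩, hv1⟩ := V.ne_bot_iff_exists_ne_one.mp hne
      rcases hT v (hV hv) with rfl | rfl
      · exact absurd rfl (fun h => hv1 (Subtype.ext h))
      · exact hv
  · obtain ⟨k, rfl | rfl⟩ := hall x
    swap
    · exfalso
      have e : (c ^ k * t) ^ 2 = 1 := by
        rw [sq, mul_assoc, ← mul_assoc t, htk' k, mul_assoc, ht2, mul_one, ← zpow_add,
          add_neg_cancel, zpow_zero]
      exact hx2 ((Nat.prime_dvd_prime_iff_eq hx Nat.prime_two).mp (orderOf_dvd_of_pow_eq_one e))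
    have hne : c ^ k ≠ 1 := fun e => by rw [e, orderOf_one] at hx; exact Nat.not_prime_one hx
    obtain ⟨n, hn⟩ : ∃ n, orderOf (c ^ k) = 2 * n + 1 := hx.odd_of_ne_two hx2
    obtain ⟨d, hd⟩ : ∃ d, d = (c ^ k) ^ ((n : ℤ) + 1) := ⟨_, rfl⟩
    have hdd : d * d = c ^ k := by
      rw [hd, ← zpow_add, show ((n : ℤ) + 1) + (n + 1) = ((2 * n + 1 : ℕ) : ℤ) + 1 by push_cast; ring,
        zpow_add_one, zpow_natCast, ← hn, pow_orderOf_eq_one, one_mul]
    have htd : t * d = d⁻¹ * t := by rw [hd, ← zpow_mul, htk', zpow_neg]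
    refine ⟨1, d⁻¹, t, t * c ^ k, ?_, htT, ht1, H70.mem_cj.mpr ?_, ?_, ?_⟩
    · intro hmem
      have h1 := hN _ hmem
      obtain ⟨j, hj⟩ : ∃ j : ℤ, d⁻¹ = c ^ j := ⟨-(k * ((n : ℤ) + 1)), by rw [hd, ← zpow_mul, zpow_neg]⟩
      rw [hj] at h1
      have := hcent j h1
      rw [← hj, inv_eq_one] at this
      exact hne (by rw [← hdd, this, one_mul])
    · rw [inv_inv, ← hdd]
      have : d * (t * (d * d)) * d⁻¹ = t := by
        calc d * (t * (d * d)) * d⁻¹ = d * (t * d) := by group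
          _ = d * (d⁻¹ * t) := by rw [htd]
          _ = t := by group
      rw [this]; exact htT
    · intro e
      apply hne
      have : c ^ k = t := by rw [← hti]; exact eq_inv_of_mul_eq_one_right e
      refine hodd _ ⟨k, rfl⟩ ?_
      rw [this, ht2]
    · rw [one_mul, inv_one, mul_one, ← mul_assoc, ht2, one_mul]

end Two

section SL2

variable {F : Type*} [Field F]

local notation "SL" => Matrix.SpecialLinearGroup (Fin 2) F

/-- The Weyl element. -/
def sw : SL := ⟨!![0, 1; -1, 0], by simp [Matrix.det_fin_two]⟩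

theorem coe_sw : ((sw : SL) : Matrix (Fin 2) (Fin 2) F) = !![0, 1; -1, 0] := rfl

/-- Diagonal torus element. -/
def sd (a : F) (ha : a ≠ 0) : SL := ⟨!![a, 0; 0, a⁻¹], by simp [Matrix.det_fin_two, ha]⟩

theorem coe_sd (a : F) (ha : a ≠ 0) :
    ((sd a ha : SL) : Matrix (Fin 2) (Fin 2) F) = !![a, 0; 0, a⁻¹] := rfl

/-- A symmetric element of trace zero. -/
def sj (a b : F) (h : -(a * a) - b * b = 1) : SL :=
  ⟨!![a, b; b, -a], by simp [Matrix.det_fin_two]; linear_combination h⟩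

theorem coe_sj (a b : F) (h : -(a * a) - b * b = 1) :
    ((sj a b h : SL) : Matrix (Fin 2) (Fin 2) F) = !![a, b; b, -a] := rfl

theorem sl2_twoProd {M : SL} (hc : (M : Matrix (Fin 2) (Fin 2) F) 1 0 ≠ 0)
    (ht : (M : Matrix (Fin 2) (Fin 2) F) 0 0 + (M : Matrix (Fin 2) (Fin 2) F) 1 1 ≠ 2) :
    IsTwoProd (H74.SL2.upper F) M := by
  have hdet := M.2
  rw [Matrix.det_fin_two] at hdet
  set α := (M : Matrix (Fin 2) (Fin 2) F) 0 0 with hα
  set β := (M : Matrix (Fin 2) (Fin 2) F) 0 1 with hβ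
  set γ := (M : Matrix (Fin 2) (Fin 2) F) 1 0 with hγ
  set δ := (M : Matrix (Fin 2) (Fin 2) F) 1 1 with hδ
  refine ⟨H74.SL2.uT ((δ - 1) / γ), sw, H74.SL2.uT ((α + δ - 2) / γ), H74.SL2.lT γ, ?_,
    H74.SL2.mem_upper.mpr ⟨_, rfl⟩, ?_, H70.mem_cj.mpr ?_, ?_, ?_⟩
  · rw [H74.SL2.mem_normalizer_upper]
    simp [coe_sw]
  · intro e
    have := congrArg (fun z : SL => (z : Matrix (Fin 2) (Fin 2) F) 0 1) e
    simp [H74.SL2.coe_uT] at this
    rcases this with h | h
    · exact ht (sub_eq_zero.mp h)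
    · exact hc h
  · rw [H74.SL2.mem_upper_iff]
    refine ⟨?_, ?_, ?_⟩ <;>
      simp [coe_sw, Matrix.SpecialLinearGroup.coe_mul, Matrix.SpecialLinearGroup.coe_inv,
        H74.SL2.coe_lT, Matrix.mul_apply, Matrix.vecMul, dotProduct, Fin.sum_univ_two, Matrix.adjugate_fin_two]
  · intro e
    have := congrArg (fun z : SL => (z : Matrix (Fin 2) (Fin 2) F) 1 0) e
    simp [H74.SL2.coe_lT] at this
    exact hc this
  · apply Subtype.ext
    ext i j
    fin_cases i <;> fin_cases j <;>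
      simp [Matrix.SpecialLinearGroup.coe_mul, Matrix.SpecialLinearGroup.coe_inv, H74.SL2.coe_uT,
        H74.SL2.coe_lT, Matrix.mul_apply, Matrix.vecMul, dotProduct, Fin.sum_univ_two, Matrix.adjugate_fin_two, ← hα, ← hβ,
        ← hγ, ← hδ] <;>
      field_simp <;> first | ring1 | linear_combination -hdet | linear_combination hdet

theorem sl2_twoProd_of_nonscalar {M : SL}
    (hs : ¬ ((M : Matrix (Fin 2) (Fin 2) F) 1 0 = 0 ∧ (M : Matrix (Fin 2) (Fin 2) F) 0 1 = 0 ∧
      (M : Matrix (Fin 2) (Fin 2) F) 0 0 = (M : Matrix (Fin 2) (Fin 2) F) 1 1))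
    (ht : (M : Matrix (Fin 2) (Fin 2) F) 0 0 + (M : Matrix (Fin 2) (Fin 2) F) 1 1 ≠ 2) :
    IsTwoProd (H74.SL2.upper F) M := by
  by_cases hc : (M : Matrix (Fin 2) (Fin 2) F) 1 0 = 0
  swap
  · exact sl2_twoProd hc ht
  by_cases hb : (M : Matrix (Fin 2) (Fin 2) F) 0 1 = 0
  · apply IsTwoProd.of_conj (d := H74.SL2.lT (1 : F))
    have hne : (M : Matrix (Fin 2) (Fin 2) F) 0 0 ≠ (M : Matrix (Fin 2) (Fin 2) F) 1 1 :=
      fun e => hs ⟨hc, hb, e⟩
    refine sl2_twoProd (fun e => hne ?_) (fun e => ht ?_)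
    · simp [Matrix.SpecialLinearGroup.coe_mul, Matrix.SpecialLinearGroup.coe_inv, H74.SL2.coe_lT,
        Matrix.mul_apply, Matrix.vecMul, dotProduct, Fin.sum_univ_two, Matrix.adjugate_fin_two, hc, hb] at e
      linear_combination e
    · simp [Matrix.SpecialLinearGroup.coe_mul, Matrix.SpecialLinearGroup.coe_inv, H74.SL2.coe_lT,
        Matrix.mul_apply, Matrix.vecMul, dotProduct, Fin.sum_univ_two, Matrix.adjugate_fin_two, hc, hb] at e
      linear_combination e
  · apply IsTwoProd.of_conj (d := (sw : SL))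
    refine sl2_twoProd (fun e => hb ?_) (fun e => ht ?_)
    · simp [coe_sw, Matrix.SpecialLinearGroup.coe_mul, Matrix.SpecialLinearGroup.coe_inv,
        Matrix.mul_apply, Matrix.vecMul, dotProduct, Fin.sum_univ_two, Matrix.adjugate_fin_two] at e
      linear_combination e
    · simp [coe_sw, Matrix.SpecialLinearGroup.coe_mul, Matrix.SpecialLinearGroup.coe_inv,
        Matrix.mul_apply, Matrix.vecMul, dotProduct, Fin.sum_univ_two, Matrix.adjugate_fin_two] at e
      linear_combination e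

theorem sl2_sq_of_trace_zero {M : SL}
    (ht : (M : Matrix (Fin 2) (Fin 2) F) 0 0 + (M : Matrix (Fin 2) (Fin 2) F) 1 1 = 0) :
    M ^ 2 = -1 := by
  have hdet := M.2
  rw [Matrix.det_fin_two] at hdet
  apply Subtype.ext
  ext i j
  fin_cases i <;> fin_cases j <;>
    simp [sq, Matrix.SpecialLinearGroup.coe_mul, Matrix.mul_apply, Matrix.vecMul, dotProduct, Fin.sum_univ_two] <;>
    first
      | linear_combination ht * (M : Matrix (Fin 2) (Fin 2) F) 0 0 - hdet
      | linear_combination ht * (M : Matrix (Fin 2) (Fin 2) F) 0 1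
      | linear_combination ht * (M : Matrix (Fin 2) (Fin 2) F) 1 0
      | linear_combination ht * (M : Matrix (Fin 2) (Fin 2) F) 1 1 - hdet

theorem sl2_twoProd_of_trace_zero (h2 : (2 : F) ≠ 0) {M : SL}
    (ht : (M : Matrix (Fin 2) (Fin 2) F) 0 0 + (M : Matrix (Fin 2) (Fin 2) F) 1 1 = 0) :
    IsTwoProd (H74.SL2.upper F) M := by
  refine sl2_twoProd_of_nonscalar ?_ (by rw [ht]; exact Ne.symm h2)
  rintro ⟨h10, h01, h⟩
  have hdet := M.2
  rw [Matrix.det_fin_two, h10, h01] at hdet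
  rw [← h, ← two_mul, mul_eq_zero] at ht
  rcases ht with e | e
  · exact h2 e
  · rw [e] at hdet; simp at hdet

variable [Fintype F] {p : ℕ} [hp : Fact p.Prime] [CharP F p]

theorem sl2_upper_irred (V : Subgroup SL) (hV : V ≤ H74.SL2.upper F) (hne : V ≠ ⊥)
    (hn : normalizer (H74.SL2.upper F : Set SL) ≤ normalizer (V : Set SL)) :
    V = H74.SL2.upper F := by
  refine le_antisymm hV ?_
  have hsq : ∀ (a x : F), a ≠ 0 → H74.SL2.uT x ∈ V → H74.SL2.uT (a * a * x) ∈ V := by
    intro a x ha hx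
    obtain ⟨d, hdd⟩ : ∃ d : SL, (d : Matrix (Fin 2) (Fin 2) F) = !![a, 0; 0, a⁻¹] := ⟨sd a ha, rfl⟩
    have hd : d ∈ normalizer (H74.SL2.upper F : Set SL) := by
      rw [H74.SL2.mem_normalizer_upper]; simp [hdd]
    have h := H75.conj_mem_of_mem_normalizer (hn hd) hx
    convert h using 1
    apply Subtype.ext
    ext i j
    fin_cases i <;> fin_cases j <;>
      simp [hdd, H74.SL2.coe_uT, Matrix.SpecialLinearGroup.coe_mul, Matrix.SpecialLinearGroup.coe_inv,
        Matrix.mul_apply, Matrix.vecMul, dotProduct, Fin.sum_univ_two, Matrix.adjugate_fin_two, ha] <;> field_simp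
  obtain ⟨⟨v, hv⟩, hv1⟩ := V.ne_bot_iff_exists_ne_one.mp hne
  obtain ⟨x, rfl⟩ := H74.SL2.mem_upper.mp (hV hv)
  have hx : x ≠ 0 := by
    rintro rfl
    apply hv1
    apply Subtype.ext
    apply Subtype.ext
    simp [H74.SL2.coe_uT, Matrix.one_fin_two]
  let S : AddSubgroup F :=
    { carrier := {r | H74.SL2.uT (r * x) ∈ V}
      zero_mem' := by
        show H74.SL2.uT ((0 : F) * x) ∈ V
        convert V.one_mem using 1
        apply Subtype.ext
        simp [H74.SL2.coe_uT, Matrix.one_fin_two]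
      add_mem' := fun {a b} ha hb => by
        show H74.SL2.uT ((a + b) * x) ∈ V
        rw [add_mul, H74.SL2.uT_add]; exact V.mul_mem ha hb
      neg_mem' := fun {a} ha => by
        show H74.SL2.uT (-a * x) ∈ V
        have e : H74.SL2.uT (-a * x) = (H74.SL2.uT (a * x))⁻¹ := by
          apply eq_inv_of_mul_eq_one_left
          rw [← H74.SL2.uT_add, ← add_mul, neg_add_cancel, zero_mul]
          apply Subtype.ext
          simp [H74.SL2.coe_uT, Matrix.one_fin_two]
        rw [e]; exact V.inv_mem ha }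
  have hS : ∀ a : F, a * a ∈ S := by
    intro a
    rcases eq_or_ne a 0 with rfl | ha
    · rw [mul_zero]; exact S.zero_mem
    · show H74.SL2.uT (a * a * x) ∈ V
      exact hsq a x ha hv
  intro u hu
  obtain ⟨y, rfl⟩ := H74.SL2.mem_upper.mp hu
  have : y / x ∈ S := by
    by_cases h2 : ringChar F = 2
    · obtain ⟨a, ha⟩ := FiniteField.isSquare_of_char_two h2 (y / x)
      rw [ha]; exact hS a
    · have h2' : (2 : F) ≠ 0 := Ring.two_ne_zero h2
      have := S.sub_mem (hS ((y / x + 1) / 2)) (hS ((y / x - 1) / 2))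
      convert this using 1
      field_simp
      ring
  have h' : H74.SL2.uT (y / x * x) ∈ V := this
  rwa [div_mul_cancel₀ y hx] at h'

theorem topModel_sl2 : TopModel p (H74.SL2.upper F) := by
  refine ⟨fun x hx hxp => ?_, sl2_upper_irred, fun M hM hMp => ?_⟩
  · rw [← H74.SL2.coe_upperSylow (p := p)] at hx ⊢
    exact mem_sylow_of_pow_eq_one _ hx hxp
  haveI : CharP (Matrix (Fin 2) (Fin 2) F) p := Matrix.charP p
  have hdet := M.2
  rw [Matrix.det_fin_two] at hdet
  have hne : M ≠ 1 := fun e => by rw [e, orderOf_one] at hM; exact Nat.not_prime_one hM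
  by_cases ht : (M : Matrix (Fin 2) (Fin 2) F) 0 0 + (M : Matrix (Fin 2) (Fin 2) F) 1 1 = 2
  · exfalso
    apply hMp
    refine (Nat.prime_dvd_prime_iff_eq hM hp.out).mp (orderOf_dvd_of_pow_eq_one (Subtype.ext ?_))
    have hN : ((M : Matrix (Fin 2) (Fin 2) F) - 1) ^ 2 = 0 := by
      ext i j
      fin_cases i <;> fin_cases j <;>
        simp [sq, Matrix.mul_apply, Matrix.vecMul, dotProduct, Fin.sum_univ_two, Matrix.one_apply] <;>
        first
          | linear_combination ht * ((M : Matrix (Fin 2) (Fin 2) F) 0 0) - hdet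
          | linear_combination ht * ((M : Matrix (Fin 2) (Fin 2) F) 0 1)
          | linear_combination ht * ((M : Matrix (Fin 2) (Fin 2) F) 1 0)
          | linear_combination ht * ((M : Matrix (Fin 2) (Fin 2) F) 1 1) - hdet
    have h1 : ((M : Matrix (Fin 2) (Fin 2) F) - 1) ^ p = 0 :=
      pow_eq_zero_of_le hp.out.two_le hN
    rw [sub_pow_char_of_commute p (Commute.one_right _), one_pow, sub_eq_zero] at h1
    simpa using h1
  by_cases hs : (M : Matrix (Fin 2) (Fin 2) F) 1 0 = 0 ∧ (M : Matrix (Fin 2) (Fin 2) F) 0 1 = 0 ∧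
      (M : Matrix (Fin 2) (Fin 2) F) 0 0 = (M : Matrix (Fin 2) (Fin 2) F) 1 1
  swap
  · exact Or.inl (sl2_twoProd_of_nonscalar hs ht)
  obtain ⟨h10, h01, he⟩ := hs
  rw [h10, h01, mul_zero, sub_zero, ← he, mul_self_eq_one_iff] at hdet
  have hα : (M : Matrix (Fin 2) (Fin 2) F) 0 0 = -1 := by
    rcases hdet with h | h
    · exfalso
      apply hne
      apply Subtype.ext
      ext i j
      fin_cases i <;> fin_cases j <;> simp [h10, h01, h, ← he]
    · exact h
  have hMneg : M = -1 := by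
    apply Subtype.ext
    ext i j
    fin_cases i <;> fin_cases j <;> simp [h10, h01, hα, ← he]
  have h2 : (2 : F) ≠ 0 := by
    intro h2
    apply ht
    rw [← he, hα, h2]; linear_combination -h2
  refine Or.inr ⟨?_, ?_⟩
  · rintro rfl
    exact h2 (by exact_mod_cast (CharP.cast_eq_zero F 2))
  obtain ⟨a, b, hab⟩ := FiniteField.exists_root_sum_quadratic
    (R := F) (f := Polynomial.X ^ 2) (g := Polynomial.X ^ 2 + Polynomial.C 1)
    (by simp) (by rw [Polynomial.degree_add_C]; · simp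
                  · simp)
    (by
      have : Odd (Fintype.card F) := by
        rw [Nat.odd_iff]
        exact FiniteField.odd_card_of_char_ne_two (fun h => h2 (by
          have := ringChar.Nat.cast_ringChar (R := F); rw [h] at this; exact_mod_cast this))
      exact Nat.odd_iff.mp this)
  simp at hab
  obtain ⟨j, hj⟩ : ∃ j : SL, (j : Matrix (Fin 2) (Fin 2) F) = !![a, b; b, -a] :=
    ⟨sj a b (by linear_combination -hab), rfl⟩
  have hi : IsTwoProd (H74.SL2.upper F) (sw : SL) := sl2_twoProd_of_trace_zero h2 (by simp [coe_sw])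
  refine ⟨sw, j, hi, sl2_twoProd_of_trace_zero h2 (by simp [hj]),
    sl2_twoProd_of_trace_zero h2 (by
      simp [hj, coe_sw, Matrix.SpecialLinearGroup.coe_mul, Matrix.mul_apply, Matrix.vecMul, dotProduct, Fin.sum_univ_two]),
    ?_, ?_, ?_⟩ <;> rw [hMneg] <;> refine sl2_sq_of_trace_zero ?_
  · simp [coe_sw]
  · simp [hj]
  · simp [hj, coe_sw, Matrix.SpecialLinearGroup.coe_mul, Matrix.mul_apply, Matrix.vecMul, dotProduct, Fin.sum_univ_two]

end SL2

section Suzuki

open H57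

variable {F : Type*} [Field F] [Fintype F] {m : ℕ}

/-- The centre of the unipotent subgroup of a Suzuki group. -/
def szZ (hF : Fintype.card F = 2 ^ (2 * m + 1)) : Subgroup (Cfsg.Sz F m) where
  carrier := {g | ∃ c, g = tEl hF 0 c}
  one_mem' := ⟨0, (tEl_zero hF).symm⟩
  mul_mem' := by
    rintro _ _ ⟨a, rfl⟩ ⟨b, rfl⟩
    exact ⟨a + b, by rw [tEl_mul]; simp⟩
  inv_mem' := by
    rintro _ ⟨a, rfl⟩
    refine ⟨a, inv_eq_of_mul_eq_one_right ?_⟩
    rw [← sq, tEl_sq]; simp [tEl_zero]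

theorem card_szZ (hF : Fintype.card F = 2 ^ (2 * m + 1)) :
    Nat.card (szZ (m := m) hF) = Fintype.card F := by
  rw [← Nat.card_eq_fintype_card]
  refine (Nat.card_eq_of_bijective (fun c : F => (⟨tEl hF 0 c, c, rfl⟩ : szZ (m := m) hF)) ⟨?_, ?_⟩).symm
  · intro a b h
    exact (tEl_inj hF (congrArg Subtype.val h)).2
  · rintro ⟨_, c, rfl⟩
    exact ⟨c, rfl⟩

theorem mem_szZ_of_mem_tSub (hF : Fintype.card F = 2 ^ (2 * m + 1)) {x : Cfsg.Sz F m}
    (hx : x ∈ tSub hF) (h2 : x ^ 2 = 1) : x ∈ szZ hF := by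
  obtain ⟨a, b, rfl⟩ := hx
  rw [tEl_sq] at h2
  have ha : a = 0 := by
    rcases mul_eq_zero.mp (tEl_inj hF (h2.trans (tEl_zero hF).symm)).2 with h | h
    · exact th_eq_zero.mp h
    · exact h
  exact ⟨b, by rw [ha]⟩

theorem normalizer_szZ_le (hm : 1 ≤ m) (hF : Fintype.card F = 2 ^ (2 * m + 1)) :
    normalizer (szZ (m := m) hF : Set (Cfsg.Sz F m)) ≤ H63.szB hF := by
  intro h hh
  have h1 : h * tEl hF 0 1 * h⁻¹ ∈ szZ hF := H75.conj_mem_of_mem_normalizer hh ⟨1, rfl⟩
  obtain ⟨c, hc⟩ := h1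
  have hc0 : c ≠ 0 := by
    rintro rfl
    rw [tEl_zero, conj_eq_one_iff] at hc
    exact one_ne_zero (tEl_inj hF (hc.trans (tEl_zero hF).symm)).2
  rw [← H63.normalizer_tSub hm hF]
  refine H70.cj_eq_self_iff.mp (H70.eq_of_cj_le fun x hx => ?_)
  have e : tSub (m := m) hF = centralizer {tEl hF 0 (1 : F)} := (centralizer_tEl_zero hm hF one_ne_zero).symm
  have hx' := H70.mem_cj.mp hx
  rw [e, mem_centralizer_singleton_iff] at hx'
  rw [← centralizer_tEl_zero hm hF hc0, mem_centralizer_singleton_iff, ← hc]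
  calc x * (h * tEl hF 0 1 * h⁻¹) = h * ((h⁻¹ * x * h) * tEl hF 0 1) * h⁻¹ := by group
    _ = h * (tEl hF 0 1 * (h⁻¹ * x * h)) * h⁻¹ := by rw [hx']
    _ = _ := by group

theorem sz_odd_inverted (hm : 1 ≤ m) (hF : Fintype.card F = 2 ^ (2 * m + 1)) {x : Cfsg.Sz F m}
    (hx : (orderOf x).Prime) (hx2 : orderOf x ≠ 2) :
    ∃ z, orderOf z = 2 ∧ z * x * z = x⁻¹ := by
  haveI : Fact (Nat.Prime 2) := ⟨Nat.prime_two⟩
  obtain ⟨U, hU, hxU⟩ : ∃ U, IsUTor hF U ∧ x ∈ U := by
    rcases prime_dvd_sz hm hF hx (orderOf_dvd_natCard x) with h | h | h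
    · exact absurd h hx2
    · obtain ⟨s, k, -, hk⟩ := split_el_conj hm hF hx rfl h
      exact ⟨_, Or.inl ⟨s, rfl⟩, mem_map_conj_iff.mpr (hk ▸ ⟨k, rfl⟩)⟩
    · obtain ⟨A, hA, hxA⟩ := tor_of_dvd hm hF
        (fun e => by rw [e, orderOf_one] at hx; exact Nat.not_prime_one hx) h
      exact ⟨A, Or.inr hA, hxA⟩
  obtain ⟨k, hk, hcard⟩ := utor_normalizer_card hm hF hU
  obtain ⟨z, hz⟩ := exists_prime_orderOf_dvd_card'
    (G := normalizer (U : Set (Cfsg.Sz F m))) 2 (by
      rw [hcard]; rcases hk with rfl | rfl <;> exact Dvd.dvd.mul_right (by norm_num) _)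
  rw [← Subgroup.orderOf_coe] at hz
  exact ⟨z, hz, inv_inverts hm hF hU z.2 hz hxU⟩

theorem topModel_sz (hm : 1 ≤ m) (hF : Fintype.card F = 2 ^ (2 * m + 1)) :
    TopModel 2 (szZ (m := m) hF) := by
  haveI : Fact (Nat.Prime 2) := ⟨Nat.prime_two⟩
  refine ⟨fun x hx hx2 => mem_szZ_of_mem_tSub hF ?_ hx2, fun V hV hne hn => ?_, fun x hx hx2 => Or.inl ?_⟩
  · rw [← H63.coe_tSylow hm hF]
    refine mem_sylow_of_pow_eq_one _ ?_ hx2
    rw [H63.coe_tSylow hm hF, H63.normalizer_tSub hm hF]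
    exact normalizer_szZ_le hm hF hx
  · refine le_antisymm hV ?_
    obtain ⟨⟨v, hv⟩, hv1⟩ := V.ne_bot_iff_exists_ne_one.mp hne
    obtain ⟨c, rfl⟩ := hV hv
    have hc : c ≠ 0 := by
      rintro rfl
      exact hv1 (Subtype.ext (tEl_zero hF))
    rintro _ ⟨d, rfl⟩
    rcases eq_or_ne d 0 with rfl | hd
    · rw [tEl_zero]; exact V.one_mem
    obtain ⟨k, hk⟩ := (th_mul_self_bij (m := m) hF).2 (d / c)
    have hk0 : k ≠ 0 := by
      rintro rfl
      exact div_ne_zero hd hc (by rw [← hk]; simp)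
    have hconj : ∀ b : F, dEl hF (Units.mk0 k hk0) * tEl hF 0 b * (dEl hF (Units.mk0 k hk0))⁻¹ =
        tEl hF 0 (th m k * k * b) := by
      intro b
      rw [dEl_tEl, mul_inv_cancel_right]; simp
    have hnz : dEl hF (Units.mk0 k hk0) ∈ normalizer (szZ (m := m) hF : Set (Cfsg.Sz F m)) := by
      refine H70.cj_eq_self_iff.mp (H70.eq_of_cj_le fun y hy => ?_)
      obtain ⟨b, hb⟩ := H70.mem_cj.mp hy
      refine ⟨th m k * k * b, ?_⟩
      rw [← hconj, ← hb]; group
    have := H75.conj_mem_of_mem_normalizer (hn hnz) hv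
    rw [hconj] at this
    convert this using 2
    simp only [] at hk
    rw [hk, div_mul_cancel₀ d hc]
  · obtain ⟨z, hz, hinv⟩ := sz_odd_inverted hm hF hx hx2
    have hne : x ≠ 1 := fun e => by rw [e, orderOf_one] at hx; exact Nat.not_prime_one hx
    have hzz : z * z = 1 := by rw [← sq, ← hz, pow_orderOf_eq_one]
    have hw : orderOf (z * x) = 2 := by
      refine orderOf_eq_prime ?_ ?_
      · rw [sq, ← mul_assoc, hinv, inv_mul_cancel]
      · intro e
        have : x = z := by rw [← inv_eq_of_mul_eq_one_right hzz]; exact eq_inv_of_mul_eq_one_right e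
        exact hx2 (this ▸ hz)
    obtain ⟨s, a, ha, hsa⟩ := two_el_conj hm hF hz
    obtain ⟨r, b, hb, hrb⟩ := two_el_conj hm hF hw
    refine ⟨s⁻¹, s⁻¹ * r, tEl hF 0 a, s⁻¹ * (z * x) * s, ?_, ⟨a, rfl⟩, ?_,
      H70.mem_cj.mpr ⟨b, ?_⟩, ?_, ?_⟩
    · intro hmem
      have h1 : s⁻¹ * (z * x) * s ∈ szZ hF := by
        have h2 := H75.conj_mem_of_mem_normalizer hmem (⟨b, rfl⟩ : tEl hF 0 b ∈ szZ (m := m) hF)
        convert h2 using 1
        rw [← hrb]; group
      have h3 : s⁻¹ * x * s ∈ szZ hF := by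
        have := mul_mem (⟨a, rfl⟩ : tEl hF 0 a ∈ szZ (m := m) hF) h1
        rw [← hsa] at this
        convert this using 1
        calc s⁻¹ * x * s = s⁻¹ * (z * z) * x * s := by rw [hzz, mul_one]
          _ = _ := by group
      obtain ⟨c, hc⟩ := h3
      have hsq : (s⁻¹ * x * s) ^ 2 = 1 := by rw [hc, tEl_sq]; simp [tEl_zero]
      have e : (s⁻¹ * x * s) ^ 2 = s⁻¹ * x ^ 2 * s := by
        simpa using conj_pow (i := 2) (a := s⁻¹) (b := x)
      rw [e, ← inv_inv s, inv_inv s⁻¹] at hsq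
      have : x ^ 2 = 1 := by
        rw [← conj_eq_one_iff (a := s⁻¹)]; simpa using hsq
      exact hx2 ((Nat.prime_dvd_prime_iff_eq hx Nat.prime_two).mp (orderOf_dvd_of_pow_eq_one this))
    · intro e
      exact ha (tEl_inj hF (e.trans (tEl_zero hF).symm)).2
    · rw [← hrb]; group
    · intro e
      have : z * x = 1 := by
        rw [← conj_eq_one_iff (a := s⁻¹)]; simpa using e
      rw [this, orderOf_one] at hw
      omega
    · rw [← hsa]
      calc s⁻¹ * x * s⁻¹⁻¹ = s⁻¹ * (z * z) * x * s := by rw [hzz]; group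
        _ = _ := by group

end Suzuki

end H76
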