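import Cfsg.Agent.H76.G2ThreeData
import Cfsg.Prelude.Def_ChevG2
import Cfsg.Prelude.Def_ChevStructure
import Mathlib.Data.ZMod.Basic
import Mathlib.Tactic.IntervalCases
import Mathlib.Algebra.Field.ZMod

/-!
The monomial action satisfies the relations of G₂(3) up to a cube root of unity.
-/

set_option autoImplicit false
set_option maxRecDepth 100000
set_option Elab.async false

namespace H76.Exc

open Cfsg.Lie

instance factThreePrime : Fact (Nat.Prime 3) := ⟨Nat.prime_three⟩

/-- One root element on a coded point. -/
def g2step (r n : ℕ) : ℕ :=
  let v := ((g2Tab.getD r 0) >>> (11 * (n / 3))) % 2048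
  v / 3 * 3 + (v % 3 + n % 3) % 3

/-- Multiplication by a cube root of unity on coded points. -/
def g2shift (n : ℕ) : ℕ := n / 3 * 3 + (n % 3 + 1) % 3

/-- The word as root indices. -/
def g2expand (w : List (ℕ × ZMod 3)) : List ℕ := w.flatMap fun p => List.replicate p.2.val p.1

/-- A word of root indices on a coded point, rightmost first. -/
def g2run (w : List ℕ) (n : ℕ) : ℕ := w.foldr g2step n

/-- Two words agree up to one and the same cube root of unity at every point. -/
def g2agree (w w' : List ℕ) : Bool :=
  let k := (g2run w 0 % 3 + 3 - g2run w' 0 % 3) % 3
  (List.range 351).all fun p =>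
    g2run w (3 * p) == (let m := g2run w' (3 * p); m / 3 * 3 + (m % 3 + k) % 3)

/-- Each root element is a permutation of order dividing three commuting with the shift. -/
def g2permOK : Bool :=
  (List.range 12).all fun r => (List.range 1053).all fun n =>
    Nat.blt (g2step r n) 1053 && (g2step r (g2step r (g2step r n)) == n) &&
      (g2step r (g2shift n) == g2shift (g2step r n))

theorem g2perm : g2permOK = true := by decide +kernel

/-- The commutator formula for two roots. -/
def g2commOK (r : ℕ) : Bool :=
  (List.range 12).all fun s => (s == r) || (s == chevG2.neg r) ||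
    ([1, 2] : List (ZMod 3)).all fun t => ([1, 2] : List (ZMod 3)).all fun u =>
      g2agree (g2expand [(r, t), (s, u)] ++ g2expand (chevG2.commWord (ZMod 3) r s t u))
        (g2expand [(s, u), (r, t)])

/-- The multiplicativity of the coroot words. -/
def g2torOK : Bool :=
  (List.range 12).all fun r =>
    ([1, 2] : List (ZMod 3)).all fun t => ([1, 2] : List (ZMod 3)).all fun u =>
      g2agree (g2expand (chevG2.hWord r t ++ chevG2.hWord r u)) (g2expand (chevG2.hWord r (t * u)))

theorem g2tor : g2torOK = true := by decide +kernel

theorem g2comm0 : g2commOK 0 = true := by decide +kernel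

theorem g2comm1 : g2commOK 1 = true := by decide +kernel

theorem g2comm2 : g2commOK 2 = true := by decide +kernel

theorem g2comm3 : g2commOK 3 = true := by decide +kernel

theorem g2comm4 : g2commOK 4 = true := by decide +kernel

theorem g2comm5 : g2commOK 5 = true := by decide +kernel

theorem g2comm6 : g2commOK 6 = true := by decide +kernel

theorem g2comm7 : g2commOK 7 = true := by decide +kernel

theorem g2comm8 : g2commOK 8 = true := by decide +kernel

theorem g2comm9 : g2commOK 9 = true := by decide +kernel

theorem g2comm10 : g2commOK 10 = true := by decide +kernel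

theorem g2comm11 : g2commOK 11 = true := by decide +kernel

theorem g2comm : ((List.range 12).all fun r => g2commOK r) = true := by
  simp only [List.all_eq_true, List.mem_range]
  intro r hr
  interval_cases r
  · exact g2comm0
  · exact g2comm1
  · exact g2comm2
  · exact g2comm3
  · exact g2comm4
  · exact g2comm5
  · exact g2comm6
  · exact g2comm7
  · exact g2comm8
  · exact g2comm9
  · exact g2comm10
  · exact g2comm11


/-- The commutator of two commuting root elements is not one. -/
def g2nontrivOK : Bool := g2run [11, 7, 11, 11, 7, 7] 0 != 0

theorem g2nontriv : g2nontrivOK = true := by decide +kernel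

end H76.Exc
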