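import Cfsg.Agent.H76.G2ThreeCheck
import Cfsg.Agent.H76.ExcCtx
import Cfsg.Agent.H76.ExcSchur
import Cfsg.Agent.H52.Simple
import Mathlib.Algebra.Field.ZMod

/-!
A triple cover of G₂(3), as monomial permutations.
-/

set_option autoImplicit false
set_option linter.unusedSectionVars false
set_option maxRecDepth 100000

namespace H76.Exc

open Cfsg.Lie Subgroup
open scoped commutatorElement

theorem g2perm_spec {r : ℕ} (hr : r < 12) {n : ℕ} (hn : n < 1053) :
    g2step r n < 1053 ∧ g2step r (g2step r (g2step r n)) = n ∧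
      g2step r (g2shift n) = g2shift (g2step r n) := by
  have h := g2perm
  simp only [g2permOK, List.all_eq_true, List.mem_range, Bool.and_eq_true, Nat.blt_eq,
    beq_iff_eq] at h
  exact ⟨(h r hr n hn).1.1, (h r hr n hn).1.2, (h r hr n hn).2⟩

/-- Multiplication by a cube root of unity. -/
def g2sigma : Equiv.Perm (Fin 1053) where
  toFun n := ⟨g2shift n.val, by have := n.isLt; unfold g2shift; omega⟩
  invFun n := ⟨g2shift (g2shift n.val), by have := n.isLt; unfold g2shift; omega⟩
  left_inv n := Fin.ext (by show g2shift (g2shift (g2shift n.val)) = n.val; unfold g2shift; omega)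
  right_inv n := Fin.ext (by show g2shift (g2shift (g2shift n.val)) = n.val; unfold g2shift; omega)

/-- The permutation of a root element at one. -/
def g2gen (r : Fin 12) : Equiv.Perm (Fin 1053) where
  toFun n := ⟨g2step r.val n.val, (g2perm_spec r.isLt n.isLt).1⟩
  invFun n := ⟨g2step r.val (g2step r.val n.val),
    (g2perm_spec r.isLt (g2perm_spec r.isLt n.isLt).1).1⟩
  left_inv n := Fin.ext (g2perm_spec r.isLt n.isLt).2.1
  right_inv n := Fin.ext (g2perm_spec r.isLt n.isLt).2.1

/-- The permutations commuting with the scalars. -/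
def g2W : Subgroup (Equiv.Perm (Fin 1053)) := centralizer {g2sigma}

theorem g2gen_mem (r : Fin 12) : g2gen r ∈ g2W := by
  rw [g2W, mem_centralizer_singleton_iff]
  exact Equiv.ext fun n => Fin.ext (g2perm_spec r.isLt n.isLt).2.2

/-- The scalar as an element of the monomial group. -/
def g2z : g2W := ⟨g2sigma, mem_centralizer_singleton_iff.2 rfl⟩

theorem g2z_central : g2z ∈ center g2W :=
  mem_center_iff.2 fun g => Subtype.ext (mem_centralizer_singleton_iff.1 g.2)

/-- The scalars. -/
def g2Z : Subgroup g2W := zpowers g2z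

theorem g2Z_central : g2Z ≤ center g2W := zpowers_le.2 g2z_central

instance g2Z_normal : g2Z.Normal :=
  ⟨fun z hz g => by rw [mem_center_iff.1 (g2Z_central hz) g, mul_inv_cancel_right]; exact hz⟩

/-- A root element at one, in the monomial group. -/
def g2el (r : ℕ) : g2W := if h : r < 12 then ⟨g2gen ⟨r, h⟩, g2gen_mem _⟩ else 1

theorem g2el_apply : ∀ (w : List ℕ), (∀ r ∈ w, r < 12) → ∀ n : Fin 1053,
    ((((w.map g2el).prod : g2W) : Equiv.Perm (Fin 1053)) n).val = g2run w n.val := by
  intro w
  induction w with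
  | nil => intro _ n; rfl
  | cons r w ih =>
    intro h n
    have hr := h r List.mem_cons_self
    rw [List.map_cons, List.prod_cons, Subgroup.coe_mul, Equiv.Perm.mul_apply]
    rw [g2el, dif_pos hr]
    show g2step r _ = _
    rw [ih (fun q hq => h q (List.mem_cons_of_mem _ hq)) n]
    rfl

theorem g2z_pow_apply : ∀ (k : ℕ) (n : Fin 1053),
    (((g2z ^ k : g2W) : Equiv.Perm (Fin 1053)) n).val = n.val / 3 * 3 + (n.val % 3 + k) % 3 := by
  intro k
  induction k with
  | zero => intro n; show n.val = _; omega
  | succ k ih =>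
    intro n
    rw [pow_succ', Subgroup.coe_mul, Equiv.Perm.mul_apply]
    show g2shift _ = _
    rw [ih n]
    unfold g2shift
    omega

theorem g2_class_eq {w w' : List ℕ} (hw : ∀ r ∈ w, r < 12) (hw' : ∀ r ∈ w', r < 12)
    (h : g2agree w w' = true) :
    (QuotientGroup.mk (w.map g2el).prod : g2W ⧸ g2Z) = QuotientGroup.mk (w'.map g2el).prod := by
  simp only [g2agree, List.all_eq_true, List.mem_range, beq_iff_eq] at h
  set k := (g2run w 0 % 3 + 3 - g2run w' 0 % 3) % 3
  set a := (w.map g2el).prod
  set b := (w'.map g2el).prod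
  suffices e : a = g2z ^ k * b by
    rw [e, QuotientGroup.mk_mul, (QuotientGroup.eq_one_iff (N := g2Z) (g2z ^ k)).2 (pow_mem (mem_zpowers g2z) k),
      one_mul]
  have hc : ∀ (x : g2W) (j : ℕ), x * g2z ^ j = g2z ^ j * x := fun x j =>
    mem_center_iff.1 (pow_mem g2z_central j) x
  refine Subtype.ext (Equiv.ext fun n => ?_)
  -- write `n` as a scalar multiple of a point with exponent zero
  set m : Fin 1053 := ⟨3 * (n.val / 3), by have := n.isLt; omega⟩
  have hn : ((g2z ^ (n.val % 3) : g2W) : Equiv.Perm (Fin 1053)) m = n := Fin.ext (by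
    rw [g2z_pow_apply]; show 3 * (n.val / 3) / 3 * 3 + (3 * (n.val / 3) % 3 + n.val % 3) % 3 = n.val; omega)
  have hm : (a : Equiv.Perm (Fin 1053)) m = ((g2z ^ k * b : g2W) : Equiv.Perm (Fin 1053)) m := by
    refine Fin.ext ?_
    rw [Subgroup.coe_mul, Equiv.Perm.mul_apply, g2z_pow_apply, g2el_apply w hw, g2el_apply w' hw']
    exact h (n.val / 3) (by have := n.isLt; omega)
  rw [← hn, ← Equiv.Perm.mul_apply, ← Equiv.Perm.mul_apply, ← Subgroup.coe_mul, ← Subgroup.coe_mul,
    hc a, hc (g2z ^ k * b), Subgroup.coe_mul, Subgroup.coe_mul, Equiv.Perm.mul_apply,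
    Equiv.Perm.mul_apply, hm]

universe u

variable {F : Type u} [Field F] [Fintype F] (h3 : Fintype.card F = 3)
include h3

/-- The homomorphism modulo scalars. -/
theorem exists_g2Hom : ∃ f : ↥(chevG2.group F) →* g2W ⧸ g2Z,
    ∀ r < 12, f (xg ctxG2 r 1) = QuotientGroup.mk (g2el r) := by
  classical
  let e : ZMod 3 ≃+* F := ZMod.ringEquivOfPrime F Nat.prime_three h3
  let v : ℕ → F → g2W ⧸ g2Z := fun r t => (QuotientGroup.mk (g2el r)) ^ (e.symm t).val
  let g : Fin chevG2.nroots × F → g2W ⧸ g2Z := fun p => v p.1.val p.2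
  have hcube : ∀ r < 12, g2el r ^ 3 = 1 := by
    intro r hr
    refine Subtype.ext (Equiv.ext fun n => Fin.ext ?_)
    have := g2el_apply [r, r, r] (by simp [hr]) n
    simp only [List.map_cons, List.map_nil, List.prod_cons, List.prod_nil, mul_one] at this
    rw [pow_succ, pow_succ, pow_one, mul_assoc, this]
    exact (g2perm_spec hr n.isLt).2.1
  have hx : ∀ r < 12, ∀ t : F, FreeGroup.lift g (chevG2.stX r t) = v r t := by
    intro r hr t
    rw [ChevalleyDatum.stX, dif_pos (show r < chevG2.nroots from hr), FreeGroup.lift_apply_of]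
  let em : List (ℕ × F) → List (ℕ × ZMod 3) := fun w => w.map fun p => (p.1, e.symm p.2)
  have hw : ∀ w : List (ℕ × F), (∀ p ∈ w, p.1 < 12) →
      FreeGroup.lift g (chevG2.stWord w) =
        QuotientGroup.mk ((g2expand (em w)).map g2el).prod := by
    intro w
    induction w with
    | nil => intro _; simp [ChevalleyDatum.stWord, em, g2expand]
    | cons p w ih =>
      intro h
      have := ih fun q hq => h q (List.mem_cons_of_mem _ hq)
      simp only [ChevalleyDatum.stWord, List.map_cons, List.prod_cons, map_mul] at this ⊢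
      rw [this, hx _ (h p List.mem_cons_self)]
      simp only [em, g2expand, List.map_cons, List.flatMap_cons, List.map_append, List.prod_append,
        List.map_replicate, List.prod_replicate, QuotientGroup.mk_mul, QuotientGroup.mk_pow, v]
  have hexp : ∀ (w : List (ℕ × ZMod 3)), (∀ p ∈ w, p.1 < 12) → ∀ r ∈ g2expand w, r < 12 := by
    intro w h r hr
    simp only [g2expand, List.mem_flatMap, List.mem_replicate] at hr
    obtain ⟨p, hp, -, rfl⟩ := hr
    exact h p hp
  have hadd : ∀ r < 12, ∀ t u : F, v r t * v r u = v r (t + u) := by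
    intro r hr t u
    show _ ^ _ * _ ^ _ = _ ^ _
    rw [map_add, ZMod.val_add, ← pow_add, ← pow_eq_pow_mod]
    rw [← QuotientGroup.mk_pow, hcube r hr, QuotientGroup.mk_one]
  have h12 : ∀ t : F, t ≠ 0 → e.symm t ∈ ([1, 2] : List (ZMod 3)) := by
    intro t ht
    have : e.symm t ≠ 0 := (map_ne_zero_iff _ e.symm.injective).2 ht
    revert this
    generalize e.symm t = a
    revert a
    decide
  have hv0 : ∀ r, v r 0 = 1 := fun r => by simp [v]
  have hrel : ∀ x ∈ chevG2.steinbergRels F, FreeGroup.lift g x = 1 := by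
    rintro x ((⟨r, t, u, hr, rfl⟩ | ⟨r, s, t, u, hr, hs, hne, hne', rfl⟩) | ⟨r, t, u, hr, ht, hu, rfl⟩)
    · simp only [map_mul, map_inv, hx r hr]
      rw [hadd r hr, mul_inv_cancel]
    · have hlt : ∀ p ∈ chevG2.commWord F r s t u, p.1 < 12 := by
        intro p hp
        obtain ⟨c, hc, rfl⟩ := List.mem_map.1 hp
        exact ctxG2.hC.commTerms_lt (D := chevG2) c hc
      simp only [map_mul, map_inv, hx r hr, hx s hs]
      rw [mul_inv_eq_one]
      by_cases h0 : t = 0 ∨ u = 0
      · have hz : FreeGroup.lift g (chevG2.stWord (chevG2.commWord F r s t u)) = 1 := by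
          have hall : ∀ p ∈ chevG2.commWord F r s t u, p.2 = 0 := by
            intro p hp
            obtain ⟨c, hc, rfl⟩ := List.mem_map.1 hp
            obtain ⟨hi, hj, -⟩ := ctxG2.hC.commTerms_co (D := chevG2) hr hs c hc
            rcases h0 with rfl | rfl
            · simp [zero_pow (by omega : c.2.2.1 ≠ 0)]
            · simp [zero_pow (by omega : c.2.2.2 ≠ 0)]
          revert hall hlt
          generalize chevG2.commWord F r s t u = w
          intro hlt hall
          induction w with
          | nil => simp [ChevalleyDatum.stWord]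
          | cons p w ih =>
            simp only [ChevalleyDatum.stWord, List.map_cons, List.prod_cons, map_mul] at ih ⊢
            rw [hx _ (hlt p List.mem_cons_self), hall p List.mem_cons_self, hv0, one_mul]
            exact ih (fun q hq => hlt q (List.mem_cons_of_mem _ hq))
              fun q hq => hall q (List.mem_cons_of_mem _ hq)
        rw [hz]
        rcases h0 with rfl | rfl <;> simp [hv0]
      push Not at h0
      rw [mul_assoc _ (v s u) (v r t), ← mul_inv_rev, inv_mul_eq_iff_eq_mul]
      have hmap : em (chevG2.commWord F r s t u) =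
          chevG2.commWord (ZMod 3) r s (e.symm t) (e.symm u) := by
        simp only [em, ChevalleyDatum.commWord, List.map_map]
        refine List.map_congr_left fun c _ => Prod.ext rfl ?_
        simp
      have hchk := g2comm
      simp only [g2commOK, List.all_eq_true, List.mem_range, Bool.or_eq_true, beq_iff_eq] at hchk
      have h4 := (hchk r hr s hs).resolve_left (by simp [hne, hne']) _ (h12 t h0.1) _ (h12 u h0.2)
      have hsub : ∀ p ∈ em (chevG2.commWord F r s t u), p.1 < 12 := by
        intro p hp
        obtain ⟨q, hq, rfl⟩ := List.mem_map.1 hp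
        exact hlt q hq
      have e4 := g2_class_eq (by
        intro q hq
        rcases List.mem_append.1 hq with hq | hq
        · exact hexp _ (by simp [show r < 12 from hr, show s < 12 from hs]) q hq
        · rw [← hmap] at hq; exact hexp _ hsub q hq) (hexp _ (by
            simp [show r < 12 from hr, show s < 12 from hs])) h4
      simp only [List.map_append, List.prod_append, QuotientGroup.mk_mul, g2expand, List.flatMap_cons,
        List.flatMap_nil, List.append_nil, List.map_replicate, List.prod_replicate,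
        QuotientGroup.mk_pow] at e4
      rw [hw _ hlt, hmap]
      exact e4.symm
    · have hn : chevG2.neg r < 12 := ctxG2.hC.neg_lt (D := chevG2) hr
      have hlt : ∀ a : F, ∀ p ∈ chevG2.hWord r a, p.1 < 12 := by
        intro a p hp
        simp only [ChevalleyDatum.hWord, ChevalleyDatum.nWord, List.mem_append, List.mem_cons,
          List.not_mem_nil, or_false] at hp
        rcases hp with (rfl | rfl | rfl) | rfl | rfl | rfl <;> first | exact hr | exact hn
      have hem : ∀ a : F, em (chevG2.hWord r a) = chevG2.hWord r (e.symm a) := by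
        intro a
        simp [em, ChevalleyDatum.hWord, ChevalleyDatum.nWord, map_inv₀]
      have hl : ∀ a : ZMod 3, ∀ p ∈ chevG2.hWord r a, p.1 < 12 := by
        intro a p hp
        simp only [ChevalleyDatum.hWord, ChevalleyDatum.nWord, List.mem_append, List.mem_cons,
          List.not_mem_nil, or_false] at hp
        rcases hp with (rfl | rfl | rfl) | rfl | rfl | rfl <;> first | exact hr | exact hn
      have hchk := g2tor
      simp only [g2torOK, List.all_eq_true, List.mem_range] at hchk
      have e4 := g2_class_eq (hexp _ (by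
        intro p hp
        rcases List.mem_append.1 hp with hp | hp <;> exact hl _ p hp)) (hexp _ (hl _))
        (hchk r hr _ (h12 t ht) _ (h12 u hu))
      simp only [map_mul, map_inv, ChevalleyDatum.stH]
      rw [hw _ (hlt t), hw _ (hlt u), hw _ (hlt (t * u)), mul_inv_eq_one, hem, hem, hem, map_mul,
        ← e4, ← QuotientGroup.mk_mul, ← List.prod_append, ← List.map_append, g2expand, g2expand,
        g2expand, List.flatMap_append]
  obtain ⟨θ₀, hθ₀⟩ := H53.exists_stHom (F := F) ctxG2.hC
  have hP : H53.HasPairs chevG2 := H53.hasPairs_of_mem (by simp)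
  have hS := H53.stSys_rel θ₀ hθ₀
  set θ := H53.ChevSys.thetaG ctxG2.hC ctxG2.hok hS hP with hθ
  have hi : Function.Injective θ := by
    rw [← MonoidHom.ker_eq_bot_iff, H53.ChevSys.ker_eq_center ctxG2.hC ctxG2.W ctxG2.hok hS hP]
    exact H53.center_eq_bot_of_injective ctxG2.hC ctxG2.W hP ctxG2.hok
      (H53.torus_injective_of_divisors ctxG2.hC H52.divisorsG2 (by intro i; revert i; exact (by decide : ∀ i : Fin 2, (![1, 1] : Fin 2 → ℕ) i = 1)))
  let em' := MulEquiv.ofBijective θ
    ⟨hi, H53.ChevSys.thetaG_surjective ctxG2.hC ctxG2.W ctxG2.hok hS hP⟩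
  refine ⟨(PresentedGroup.toGroup hrel).comp em'.symm.toMonoidHom, fun r hr => ?_⟩
  have : em'.symm (xg ctxG2 r (1 : F)) = chevG2.stGen F r 1 := by
    rw [MulEquiv.symm_apply_eq]
    exact Subtype.ext (hθ₀ r hr 1).symm
  show PresentedGroup.toGroup hrel (em'.symm _) = _
  rw [this]
  show PresentedGroup.toGroup hrel (PresentedGroup.mk _ (chevG2.stX r 1)) = _
  rw [ChevalleyDatum.stX, dif_pos (show r < chevG2.nroots from hr)]
  refine (PresentedGroup.toGroup.of hrel).trans ?_
  simp [g, v, ZMod.val_one]

/-- A stem extension with kernel of order three. -/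
theorem exists_threeCover : ∃ (Γ : Type u) (_ : Group Γ) (_ : Finite Γ)
    (σ : Γ →* ↥(chevG2.group F)), Cfsg.IsStemExtension σ ∧
      Nonempty (σ.ker ≃* Multiplicative (ZMod 3)) := by
  classical
  obtain ⟨f, hf⟩ := exists_g2Hom h3
  let P : Subgroup (g2W × ↥(chevG2.group F)) :=
    ((QuotientGroup.mk' g2Z).comp (MonoidHom.fst _ _)).eqLocus (f.comp (MonoidHom.snd _ _))
  let π₀ : P →* ↥(chevG2.group F) := (MonoidHom.snd _ _).comp P.subtype
  have h₀s : Function.Surjective π₀ := fun x => by
    obtain ⟨a, ha⟩ := QuotientGroup.mk'_surjective _ (f x)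
    exact ⟨⟨(a, x), ha⟩, rfl⟩
  have h₀k : ∀ z ∈ π₀.ker, z.val.1 ∈ g2Z ∧ z.val.2 = 1 := by
    rintro ⟨⟨a, x⟩, hax⟩ hz
    have hx : x = 1 := hz
    subst hx
    refine ⟨(QuotientGroup.eq_one_iff a).1 ?_, rfl⟩
    exact hax.trans (map_one f)
  have h₀c : π₀.ker ≤ center P := fun z hz => mem_center_iff.2 fun g => by
    obtain ⟨h1, h2⟩ := h₀k z hz
    refine Subtype.ext (Prod.ext (mem_center_iff.1 (g2Z_central h1) _) ?_)
    show g.val.2 * z.val.2 = z.val.2 * g.val.2
    rw [h2, mul_one, one_mul]
  let π : ↥(commutator P) →* ↥(chevG2.group F) := π₀.comp (commutator P).subtype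
  have hex : ∃ a : F, a ≠ 0 ∧ a ≠ 1 := by
    obtain ⟨a, ha⟩ : ∃ a : F, a ∉ ({0, 1} : Finset F) := by
      by_contra hcon
      push Not at hcon
      have h := (Finset.card_le_card (s := Finset.univ) fun x _ => hcon x).trans Finset.card_le_two
      rw [Finset.card_univ] at h
      omega
    exact ⟨a, by simpa using ha⟩
  have hperf : commutator ↥(chevG2.group F) = ⊤ := H52.group_perfect (by simp) fun _ => hex
  have hs : Function.Surjective π := fun x => by
    have hx : x ∈ (commutator P).map π₀ := by
      rw [map_commutator_eq, MonoidHom.range_eq_top.2 h₀s, ← _root_.commutator_def, hperf]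
      exact mem_top _
    obtain ⟨y, hy, rfl⟩ := hx
    exact ⟨⟨y, hy⟩, rfl⟩
  have hc : π.ker ≤ center ↥(commutator P) := fun z hz =>
    mem_center_iff.2 fun g => Subtype.ext (mem_center_iff.1 (h₀c hz) g)
  have hperfP : commutator ↥(commutator P) = ⊤ := by
    apply Subgroup.map_injective (commutator P).subtype_injective
    rw [Subgroup.map_subtype_commutator, ← MonoidHom.range_eq_map, Subgroup.range_subtype]
    apply le_antisymm (commutator P).commutator_le_self
    refine Subgroup.commutator_le.2 fun a _ b _ => ?_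
    obtain ⟨a', ha'⟩ := hs (π₀ a)
    obtain ⟨b', hb'⟩ := hs (π₀ b)
    rw [Cover.comm_congr π₀ h₀c (x' := (a' : P)) (y' := (b' : P)) ha'.symm hb'.symm]
    exact commutator_mem_commutator a'.2 b'.2
  have hmem : ∀ r : ℕ, r < 12 → (g2el r, xg ctxG2 r (1 : F)) ∈ P := fun r hr => (hf r hr).symm
  let ev : π.ker →* g2Z :=
    ((((MonoidHom.fst _ _).comp P.subtype).comp (commutator P).subtype).comp π.ker.subtype).codRestrict
      g2Z fun z => (h₀k _ z.2).1
  have hevinj : Function.Injective ev := fun a b h =>
    Subtype.ext (Subtype.ext (Subtype.ext (Prod.ext (congrArg Subtype.val h)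
      ((h₀k _ a.2).2.trans (h₀k _ b.2).2.symm))))
  have hord : orderOf g2z = 3 := by
    refine orderOf_eq_prime (Subtype.ext (Equiv.ext fun n => Fin.ext ?_)) fun e => ?_
    · rw [g2z_pow_apply]
      show _ = n.val
      omega
    · have := congrArg (fun x : g2W => ((x : Equiv.Perm (Fin 1053)) 0).val) e
      exact absurd this (by decide)
  let c : P := ⁅(⟨_, hmem 11 (by norm_num)⟩ : P), ⟨_, hmem 7 (by norm_num)⟩⁆
  have hc2 : c.val.2 = 1 := commutatorElement_eq_one_iff_commute.2
    (commOK_spec ctxG2 (by decide) (by decide) (by decide +kernel) (1 : F) (1 : F))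
  have hck : (⟨c, commutator_mem_commutator (mem_top _) (mem_top _)⟩ : ↥(commutator P)) ∈ π.ker := hc2
  have hc1 : c.val.1 ≠ 1 := by
    have hinv : ∀ r < 12, (g2el r)⁻¹ = g2el r * g2el r := fun r hr => by
      refine inv_eq_of_mul_eq_one_right ?_
      refine Subtype.ext (Equiv.ext fun n => Fin.ext ?_)
      have := g2el_apply [r, r, r] (by simp [hr]) n
      simp only [List.map_cons, List.map_nil, List.prod_cons, List.prod_nil, mul_one] at this
      rw [this]
      exact (g2perm_spec hr n.isLt).2.1
    show ⁅g2el 11, g2el 7⁆ ≠ 1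
    intro e
    have h1 := g2el_apply [11, 7, 11, 11, 7, 7] (by simp) 0
    simp only [List.map_cons, List.map_nil, List.prod_cons, List.prod_nil, mul_one] at h1
    rw [commutatorElement_def, hinv 11 (by norm_num), hinv 7 (by norm_num)] at e
    simp only [mul_assoc] at e
    rw [e] at h1
    have h2 := g2nontriv
    simp only [g2nontrivOK, bne_iff_ne] at h2
    exact h2 h1.symm
  have : Fintype g2Z := Fintype.ofFinite _
  have hZ : Nat.card g2Z = 3 := by rw [g2Z, Nat.card_zpowers, hord]
  have : Finite π.ker := Finite.of_injective ev hevinj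
  have hcard : Nat.card π.ker = 3 := by
    have hdvd : Nat.card π.ker ∣ 3 := hZ ▸ Subgroup.card_dvd_of_injective ev hevinj
    refine ((Nat.dvd_prime Nat.prime_three).1 hdvd).resolve_left fun h1 => hc1 ?_
    have := (Nat.card_eq_one_iff_unique.1 h1).1
    have e := Subsingleton.elim (⟨_, hck⟩ : π.ker) 1
    exact congrArg (fun z : π.ker => ((z : ↥(commutator P)) : P).val.1) e
  refine ⟨↥(commutator P), inferInstance, inferInstance, π, ⟨hs, hc, hperfP ▸ le_top⟩, ?_⟩
  have := isCyclic_of_prime_card hcard
  exact ⟨mulEquivOfCyclicCardEq (by rw [hcard, Nat.card_congr Multiplicative.toAdd, Nat.card_zmod])⟩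

end H76.Exc
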