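import Cfsg.Agent.H76.G2ThreeCover
import Cfsg.Agent.H76.ExcTorus
import Cfsg.Agent.H76.ExcFinite

/-!
The multiplier of G₂(3) has order at most three: modulo the commutator of lifts of a long and an
orthogonal short root element there are canonical lifts.
-/

set_option autoImplicit false
set_option linter.unusedSectionVars false
set_option maxRecDepth 100000

namespace H76.Exc

open Cfsg.Lie Subgroup
open scoped commutatorElement

universe u

/-- Outside four bad pairs a torus element of order two separates, or the second root is the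
opposite of the first. -/
def g2pairsOK : Bool :=
  (List.range 12).all fun r => !topRoot chevG2 r ||
    (List.range 12).all fun s => (s == r) || (s == chevG2.neg r) ||
      ((List.range 2).any fun i => (chevG2.cartan i r % 2 == 0) && (chevG2.cartan i s % 2 != 0)) ||
      (r == 11 && (s == 7 || s == 4)) || (r == 9 && (s == 5 || s == 6))

/-- Facts on a few roots of G₂, and the parity of the weights. -/
def g2factsOK : Bool :=
  g2pairsOK && ((List.range 12).all fun r => (List.range 2).any fun i => chevG2.cartan i r % 2 != 0) &&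
    (wordRun chevG2 11 [0] == 11) && (wordRun chevG2 7 [0] == 4)

theorem g2facts : g2factsOK = true := by decide +kernel

/-- Words moving the remaining bad pairs to the first one. -/
def g2moveOK : Bool :=
  ([5, 6] : List ℕ).all fun s =>
    ([[], [0], [1], [1, 0], [0, 1], [0, 1, 0], [1, 0, 1], [0, 1, 0, 1], [1, 0, 1, 0], [0, 1, 0, 1, 0],
      [1, 0, 1, 0, 1], [0, 1, 0, 1, 0, 1]] : List (List ℕ)).any fun w =>
      (wordRun chevG2 s w == 11) && (wordRun chevG2 9 w == 7 || wordRun chevG2 9 w == 4)

theorem g2move : g2moveOK = true := by decide +kernel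

variable {D : ChevalleyDatum} {C : H54.Ctx D} {F : Type u} [Field F]

theorem commLift_symm {Γ : Type u} [Group Γ] {π : Γ →* ↥(D.group F)} {r s : ℕ}
    (h : CommLift C π r s) : CommLift C π s r :=
  fun a b t v ha hb => (h b a v t hb ha).symm

theorem commLift_of_word {Γ : Type u} [Group Γ] {π : Γ →* ↥(D.group F)}
    (hs : Function.Surjective π) (hc : π.ker ≤ center Γ) :
    ∀ (w : List ℕ), (∀ i ∈ w, i < D.rank) → ∀ {r s : ℕ}, r < D.nroots → s < D.nroots →
      CommLift C π (wordRun D r w) (wordRun D s w) →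
      CommLift C π r s ∧ wordRun D r w < D.nroots ∧ wordRun D s w < D.nroots := by
  suffices ∀ (w : List ℕ), (∀ i ∈ w, i < D.rank) → ∀ {r s : ℕ}, r < D.nroots → s < D.nroots →
      (CommLift C π (wordRun D r w) (wordRun D s w) → CommLift C π r s) ∧
        wordRun D r w < D.nroots ∧ wordRun D s w < D.nroots from
    fun w hw r s hr hs' h => ⟨(this w hw hr hs').1 h, (this w hw hr hs').2⟩
  intro w
  induction w with
  | nil => intro _ r s hr hs'; exact ⟨id, hr, hs'⟩
  | cons i w ih =>
    intro hw r s hr hs'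
    obtain ⟨h1, h2, h3⟩ := ih (fun j hj => hw j (List.mem_cons_of_mem _ hj)) hr hs'
    have hi := hw i List.mem_cons_self
    exact ⟨fun h => h1 (commLift_of_reflect hs hc ⟨i, hi⟩ h2 h3 h), C.hC.reflect_lt hi h2,
      C.hC.reflect_lt hi h3⟩

variable [Fintype F] (h3 : Fintype.card F = 3)
include h3

/-- Over three elements commuting of two chosen lifts gives commuting of all lifts. -/
theorem commLift_of_one {Γ : Type u} [Group Γ] {π : Γ →* ↥(D.group F)}
    (hc : π.ker ≤ center Γ) {r s : ℕ} {A B : Γ} (hA : π A = xg C r (1 : F))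
    (hB : π B = xg C s (1 : F)) (h : Commute A B) : CommLift C π r s := by
  intro a b t v ha hb
  let e : ZMod 3 ≃+* F := ZMod.ringEquivOfPrime F Nat.prime_three h3
  have key : ∀ (k : ℕ) (x : F) (G : Γ), π G = xg C k (1 : F) → ∀ g, π g = xg C k x →
      ∃ (n : ℕ), ∃ z ∈ center Γ, g = G ^ n * z := by
    intro k x G hG g hg
    refine ⟨(e.symm x).val, (G ^ (e.symm x).val)⁻¹ * g, hc ?_, (mul_inv_cancel_left _ g).symm⟩
    have hx : ((e.symm x).val : F) = x := by
      rw [← map_natCast e, ZMod.natCast_zmod_val, RingEquiv.apply_symm_apply]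
    have hpow : ∀ n : ℕ, xg C k (1 : F) ^ n = xg C k (n : F) := by
      intro n
      induction n with
      | zero => rw [pow_zero, Nat.cast_zero, xg_zero]
      | succ n ih => rw [pow_succ, ih, xg_add, Nat.cast_succ]
    rw [MonoidHom.mem_ker, map_mul, map_inv, map_pow, hG, hg, hpow, hx, inv_mul_cancel]
  obtain ⟨n, z, hz, rfl⟩ := key r t A hA a ha
  obtain ⟨m, w, hw, rfl⟩ := key s v B hB b hb
  refine (Commute.mul_left ?_ (mem_center_iff.1 hz _).symm)
  exact Commute.mul_right (h.pow_pow n m) (mem_center_iff.1 hw _)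

omit h3 in
/-- The commutator of lifts of the long and the short root element. -/
noncomputable def g2val {Γ : Type u} [Group Γ] {π : Γ →* ↥(chevG2.group F)}
    (hs : Function.Surjective π) : Γ :=
  ⁅Function.surjInv hs (xg ctxG2 11 (1 : F)), Function.surjInv hs (xg ctxG2 7 (1 : F))⁆

/-- The kernel of a stem extension is generated by the commutator value, of order three. -/
theorem three_onto {Γ : Type u} [Group Γ] {π : Γ →* ↥(chevG2.group F)}
    (hs : Function.Surjective π) (hc : π.ker ≤ center Γ) (hstem : π.ker ≤ commutator Γ) :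
    ∃ f : Multiplicative (ZMod 3) →* π.ker, Function.Surjective f := by
  classical
  set a := Function.surjInv hs (xg ctxG2 11 (1 : F)) with ha
  set b := Function.surjInv hs (xg ctxG2 7 (1 : F)) with hb
  have πa : π a = xg ctxG2 11 (1 : F) := Function.surjInv_eq hs _
  have πb : π b = xg ctxG2 7 (1 : F) := Function.surjInv_eq hs _
  have hck : g2val hs ∈ π.ker := by
    rw [MonoidHom.mem_ker, g2val, map_commutatorElement, ← ha, ← hb, πa, πb,
      commutatorElement_eq_one_iff_commute]
    exact commOK_spec ctxG2 (by decide) (by decide) (by decide +kernel) (1 : F) (1 : F)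
  have hcube : g2val hs ^ 3 = 1 := by
    have hz : ⁅a, b⁆ ∈ center Γ := hc hck
    have hp : ∀ n : ℕ, ⁅a ^ n, b⁆ = ⁅a, b⁆ ^ n := by
      intro n
      induction n with
      | zero => rw [pow_zero, pow_zero, commutatorElement_one_left]
      | succ n ih =>
        rw [pow_succ, commutatorElement_mul_left_eq_conj_mul, mem_center_iff.1 hz (a ^ n),
          mul_inv_cancel_right, ih, ← pow_succ']
    show ⁅a, b⁆ ^ 3 = 1
    rw [← hp, Cover.comm_congr π hc (x' := 1) (y' := b) ?_ rfl, commutatorElement_one_left]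
    have h30 : (1 : F) + 1 + 1 = 0 := by
      have := Nat.cast_card_eq_zero F
      rw [h3] at this
      norm_num at this ⊢
      exact this
    rw [map_pow, πa, map_one, pow_succ, pow_succ, pow_one, xg_add, xg_add, h30, xg_zero]
  let N : Subgroup Γ := zpowers (g2val hs)
  have hNc : N ≤ center Γ := zpowers_le.2 (hc hck)
  have : N.Normal := ⟨fun z hz g => by
    rw [mem_center_iff.1 (hNc hz) g, mul_inv_cancel_right]; exact hz⟩
  have hN : N ≤ π.ker := zpowers_le.2 hck
  let π' : Γ ⧸ N →* ↥(chevG2.group F) := QuotientGroup.lift N π hN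
  have hs' : Function.Surjective π' := fun x => by
    obtain ⟨y, rfl⟩ := hs x
    exact ⟨QuotientGroup.mk y, rfl⟩
  have hc' : π'.ker ≤ center _ := by
    intro z hz
    obtain ⟨y, rfl⟩ := QuotientGroup.mk_surjective z
    refine mem_center_iff.2 fun g => ?_
    obtain ⟨x, rfl⟩ := QuotientGroup.mk_surjective g
    rw [← QuotientGroup.mk_mul, ← QuotientGroup.mk_mul, mem_center_iff.1 (hc (show π y = 1 from hz)) x]
  have hst : π'.ker ≤ commutator _ := by
    intro z hz
    obtain ⟨y, rfl⟩ := QuotientGroup.mk_surjective z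
    have : QuotientGroup.mk' N y ∈ (commutator Γ).map (QuotientGroup.mk' N) :=
      mem_map_of_mem _ (hstem (show π y = 1 from hz))
    rw [map_commutator_eq] at this
    exact commutator_mono le_top le_top this
  have h117 : CommLift ctxG2 π' 11 7 := commLift_of_one h3 hc'
    (A := QuotientGroup.mk' N a) (B := QuotientGroup.mk' N b) πa πb
    (commutatorElement_eq_one_iff_commute.1 (((map_commutatorElement (QuotientGroup.mk' N) a b).symm.trans
      ((QuotientGroup.eq_one_iff _).2 (mem_zpowers (g2val hs)))) :))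
  have hf := g2facts
  simp only [g2factsOK, Bool.and_eq_true, beq_iff_eq, List.all_eq_true, List.mem_range,
    List.any_eq_true, bne_iff_ne] at hf
  obtain ⟨⟨⟨hpairs, hodd⟩, w11⟩, w7⟩ := hf
  have h114 : CommLift ctxG2 π' 11 4 :=
    commLift_of_reflect hs' hc' ⟨0, by decide⟩ (by decide) (by decide)
      (by
        show CommLift ctxG2 π' (chevG2.reflectRoot 0 11) (chevG2.reflectRoot 0 4)
        rw [show chevG2.reflectRoot 0 11 = 11 by decide +kernel,
          show chevG2.reflectRoot 0 4 = 7 by decide +kernel]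
        exact h117)
  have h9 : ∀ s ∈ ([5, 6] : List ℕ), CommLift ctxG2 π' 9 s := by
    intro s hs₁
    have hm := g2move
    simp only [g2moveOK, List.all_eq_true, List.any_eq_true, Bool.and_eq_true, Bool.or_eq_true,
      beq_iff_eq] at hm
    obtain ⟨w, hw, e1, e2⟩ := hm s hs₁
    have hwlt : ∀ i ∈ w, i < chevG2.rank := (by decide : ∀ w ∈ ([[], [0], [1], [1, 0], [0, 1],
      [0, 1, 0], [1, 0, 1], [0, 1, 0, 1], [1, 0, 1, 0], [0, 1, 0, 1, 0], [1, 0, 1, 0, 1],
      [0, 1, 0, 1, 0, 1]] : List (List ℕ)), ∀ i ∈ w, i < 2) w hw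
    have hslt : s < chevG2.nroots := (by decide : ∀ s ∈ ([5, 6] : List ℕ), s < 12) s hs₁
    refine commLift_symm (commLift_of_word hs' hc' w hwlt hslt (by decide) ?_).1
    rw [e1]
    rcases e2 with e | e <;> rw [e]
    exacts [h117, h114]
  have hS : ∀ r < chevG2.nroots, CommLift ctxG2 π' r r := fun r hr => by
    obtain ⟨A, hA⟩ := hs' (xg ctxG2 r (1 : F))
    exact commLift_of_one h3 hc' hA hA (Commute.refl A)
  have hneg : (-1 : Fˣ) ≠ 1 := fun e => by
    have e' : (-1 : F) = 1 := by simpa using congrArg Units.val e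
    have h30 := Nat.cast_card_eq_zero F
    rw [h3] at h30
    push_cast at h30
    exact one_ne_zero (show (1 : F) = 0 by linear_combination h30 + e')
  have hodd' : ∀ (i : Fin chevG2.rank) (r : ℕ),
      chi chevG2 (Pi.mulSingle i (-1 : Fˣ)) r = if chevG2.cartan i.val r % 2 = 0 then 1 else -1 := by
    intro i r
    rw [chi_mulSingle ctxG2]
    split
    · exact Even.neg_one_zpow (Int.even_iff.2 (by assumption))
    · exact Odd.neg_one_zpow (Int.odd_iff.2 (by omega))
  let L : Lifts ctxG2 π' := torLifts hs' hc' hS (fun r hr => by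
    obtain ⟨i, hi, hio⟩ := hodd r hr
    exact ⟨Pi.mulSingle ⟨i, hi⟩ (-1), by rw [hodd' ⟨i, hi⟩ r, if_neg hio]; exact hneg⟩)
    fun r hr htop s hs₁ h1 h2 => by
      have h := hpairs
      simp only [g2pairsOK, List.all_eq_true, List.mem_range, Bool.or_eq_true, Bool.not_eq_true',
        Bool.and_eq_true, beq_iff_eq, List.any_eq_true, bne_iff_ne] at h
      rcases (h r hr).resolve_left (by simp [htop]) s hs₁ with
        (((h' | h') | ⟨i, hi, he, ho⟩) | ⟨rfl, h'⟩) | ⟨rfl, h'⟩
      · exact absurd h' h1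
      · exact absurd h' h2
      · exact Or.inl ⟨Pi.mulSingle ⟨i, hi⟩ (-1), by rw [hodd' ⟨i, hi⟩ r, if_pos he],
          by rw [hodd' ⟨i, hi⟩ s, if_neg ho]; exact hneg⟩
      · rcases h' with rfl | rfl
        exacts [Or.inr h117, Or.inr h114]
      · rcases h' with rfl | rfl
        exacts [Or.inr (h9 5 (by simp)), Or.inr (h9 6 (by simp))]
  obtain ⟨g, hg⟩ := stem_ker (σ := π') ⟨hs', hc', hst⟩ L
  have htriv : Nat.card (tor ctxG2 (F := F)).ker = 1 := by
    rw [card_tor_ker ctxG2 H52.divisorsG2]
    refine Finset.prod_eq_one fun i _ => ?_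
    rw [(by decide : ∀ j : Fin 2, (![1, 1] : Fin 2 → ℕ) j = 1) i, Nat.gcd_one_right]
  have hker : π.ker ≤ N := by
    intro z hz
    have h1 := card_eq_one_of_hom g hg htriv
    have := (Nat.card_eq_one_iff_unique.1 h1).1
    have e := Subsingleton.elim (⟨QuotientGroup.mk z, show π' _ = 1 from hz⟩ : π'.ker) 1
    exact (QuotientGroup.eq_one_iff z).1 (congrArg Subtype.val e)
  let x : π.ker := ⟨g2val hs, hck⟩
  have hx : x ^ 3 = 1 := Subtype.ext hcube
  refine ⟨MonoidHom.mk' (fun k => x ^ k.toAdd.val) fun p q => ?_, fun z => ?_⟩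
  · show x ^ (p.toAdd + q.toAdd).val = _
    rw [ZMod.val_add, ← pow_eq_pow_mod _ hx, pow_add]
  · obtain ⟨n, hn⟩ := mem_zpowers_iff.1 (hker z.2)
    refine ⟨Multiplicative.ofAdd (n : ZMod 3), Subtype.ext ?_⟩
    show ((x ^ ((n : ZMod 3)).val : π.ker) : Γ) = z
    rw [← hn, SubmonoidClass.coe_pow, ← zpow_natCast, ZMod.val_intCast]
    exact (zpow_eq_zpow_emod' n hcube).symm

end H76.Exc
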