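import Cfsg.Prelude.Def_LocalStructure
import Cfsg.Agent.H75.Irreducible
import Cfsg.Agent.H32.Sylow
import Cfsg.Agent.H70.Conj

/-!
Groups generated modulo their `p`-residual by a transitive family of `p`-minimal or strongly
`p`-irreducible subgroups.
-/

set_option autoImplicit false

namespace H76

open Subgroup H70
open scoped commutatorElement

variable {G : Type*} [Group G] {p : ℕ}

/-! ### generation by `p`-elements -/

/-- `A` is generated by its elements of `p`-power order. -/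
def PGen (p : ℕ) (A : Subgroup G) : Prop :=
  A ≤ closure {x : G | x ∈ A ∧ ∃ k : ℕ, x ^ (p ^ k) = 1}

theorem pgen_sSup {𝒜 : Set (Subgroup G)} (h : ∀ A ∈ 𝒜, PGen p A) : PGen p (sSup 𝒜) :=
  sSup_le fun A hA => (h A hA).trans (closure_mono fun _ hx => ⟨le_sSup hA hx.1, hx.2⟩)

theorem pgen_map {H : Type*} [Group H] (f : G →* H) {A : Subgroup G} (h : PGen p A) :
    PGen p (A.map f) := by
  refine (Subgroup.map_mono h).trans ?_
  rw [MonoidHom.map_closure]
  refine closure_mono ?_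
  rintro _ ⟨x, ⟨hx, k, hk⟩, rfl⟩
  exact ⟨mem_map_of_mem f hx, k, by rw [← map_pow, hk, map_one]⟩

theorem pgen_top_of_normalClosure {T : Subgroup G} (hT : IsPGroup p T)
    (h : normalClosure (T : Set G) = ⊤) : PGen p (⊤ : Subgroup G) := by
  rw [PGen, ← h, normalClosure]
  refine closure_mono fun x hx => ?_
  obtain ⟨t, ht, hc⟩ := Group.mem_conjugatesOfSet_iff.mp hx
  obtain ⟨k, hk⟩ := hT ⟨t, ht⟩
  obtain ⟨c, rfl⟩ := isConj_iff.mp hc
  refine ⟨Subgroup.subset_closure hx, k, ?_⟩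
  have hk' : t ^ (p ^ k) = 1 := by simpa using congrArg Subtype.val hk
  rw [conj_pow, hk', mul_one, mul_inv_cancel]

theorem pgen_of_subtype {A : Subgroup G} (h : PGen p (⊤ : Subgroup A)) : PGen p A := by
  have := pgen_map A.subtype h
  rwa [← MonoidHom.range_eq_map, range_subtype] at this

/-- `a ↦ [a, b]` is a homomorphism into a central subgroup, so it takes values of `p`-power order
on a subgroup generated by `p`-elements. -/
theorem commutator_pElement {A Z : Subgroup G} {b : G} (hA : PGen p A) (hZA : Z ≤ A)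
    (hZ : Z ≤ centralizer (A : Set G)) (hab : ∀ a ∈ A, ⁅a, b⁆ ∈ Z) {a : G} (ha : a ∈ A) :
    ∃ k : ℕ, ⁅a, b⁆ ^ (p ^ k) = 1 := by
  have hom : ∀ x ∈ A, ∀ y ∈ A, ⁅x * y, b⁆ = ⁅y, b⁆ * ⁅x, b⁆ := by
    intro x hx y hy
    have h1 : x * ⁅y, b⁆ = ⁅y, b⁆ * x := mem_centralizer_iff.mp (hZ (hab y hy)) x hx
    calc ⁅x * y, b⁆ = x * ⁅y, b⁆ * x⁻¹ * ⁅x, b⁆ := by simp only [commutatorElement_def]; group
      _ = _ := by rw [h1]; group
  have hcomm : ∀ x ∈ A, ∀ y ∈ A, Commute ⁅x, b⁆ ⁅y, b⁆ := fun x hx y hy =>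
    mem_centralizer_iff.mp (hZ (hab y hy)) _ (hZA (hab x hx))
  suffices h : a ∈ A ∧ ∃ k : ℕ, ⁅a, b⁆ ^ (p ^ k) = 1 from h.2
  refine closure_induction (p := fun x _ => x ∈ A ∧ ∃ k : ℕ, ⁅x, b⁆ ^ (p ^ k) = 1) ?_ ?_ ?_ ?_ (hA ha)
  · rintro x ⟨hx, k, hk⟩
    refine ⟨hx, k, ?_⟩
    have hpow : ∀ n : ℕ, ⁅x ^ n, b⁆ = ⁅x, b⁆ ^ n := by
      intro n
      induction n with
      | zero => simp
      | succ n ih => rw [pow_succ x, hom _ (pow_mem hx n) _ hx, ih, pow_succ']
    rw [← hpow, hk, commutatorElement_one_left]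
  · exact ⟨one_mem _, 0, by simp⟩
  · rintro x y - - ⟨hx, k, hk⟩ ⟨hy, l, hl⟩
    refine ⟨mul_mem hx hy, k + l, ?_⟩
    rw [hom x hx y hy, (hcomm y hy x hx).mul_pow]
    conv_lhs => enter [1]; rw [pow_add, mul_comm, pow_mul, hl, one_pow]
    rw [one_mul, pow_add, pow_mul, hk, one_pow]
  · rintro x - ⟨hx, k, hk⟩
    refine ⟨inv_mem hx, k, ?_⟩
    have e := hom x hx x⁻¹ (inv_mem hx)
    rw [mul_inv_cancel, commutatorElement_one_left] at e
    rw [eq_inv_of_mul_eq_one_left e.symm, inv_pow, hk, inv_one]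

theorem eq_bot_of_pgen_central [Finite G] [Fact p.Prime] {A B : Subgroup G} (hA : PGen p A)
    (hsub : A.IsSubnormal) (hO : Cfsg.pCore p G = ⊥) (hBA : B ≤ normalizer (A : Set G))
    (hz : ⁅⁅A, B⁆, A⁆ = ⊥) : ⁅A, B⁆ = ⊥ := by
  have hZA : ⁅A, B⁆ ≤ A :=
    le_normalizer_iff_commutator_le_left.mp hBA
  have hZc : ⁅A, B⁆ ≤ centralizer (A : Set G) := commutator_eq_bot_iff_le_centralizer.mp hz
  have hZp : IsPGroup p ↥⁅A, B⁆ := by
    rintro ⟨z, hzmem⟩
    suffices h : z ∈ A ∧ z ∈ centralizer (A : Set G) ∧ ∃ k : ℕ, z ^ (p ^ k) = 1 by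
      obtain ⟨k, hk⟩ := h.2.2
      exact ⟨k, Subtype.ext hk⟩
    refine closure_induction (p := fun x _ => x ∈ A ∧ x ∈ centralizer (A : Set G) ∧
      ∃ k : ℕ, x ^ (p ^ k) = 1) ?_ ?_ ?_ ?_ (show z ∈ Subgroup.closure _ from hzmem)
    · rintro x ⟨a, ha, b, hb, rfl⟩
      exact ⟨hZA (commutator_mem_commutator ha hb), hZc (commutator_mem_commutator ha hb),
        commutator_pElement hA hZA hZc (fun c hc => commutator_mem_commutator hc hb) ha⟩
    · exact ⟨one_mem _, one_mem _, 0, one_pow _⟩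
    · rintro x y - - ⟨hx, hx', k, hk⟩ ⟨hy, hy', l, hl⟩
      refine ⟨mul_mem hx hy, mul_mem hx' hy', k + l, ?_⟩
      have hc : Commute x y := mem_centralizer_iff.mp hy' x hx
      rw [hc.mul_pow, pow_add, pow_mul, hk, one_pow, one_mul, mul_comm, pow_mul, hl, one_pow]
    · rintro x - ⟨hx, hx', k, hk⟩
      exact ⟨inv_mem hx, inv_mem hx', k, by rw [inv_pow, hk, inv_one]⟩
  have hAn : A ≤ normalizer ((⁅A, B⁆ : Subgroup G) : Set G) :=
    le_normalizer_iff_commutator_le_left.mpr (hz ▸ bot_le)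
  exact le_bot_iff.mp ((H75.le_pCoreOf hZA hAn hZp).trans
    (H75.pCoreOf_eq_bot_of_subnormal hsub hO).le)

/-! ### strong irreducibility -/

theorem isStronglyPIrreducible_congr {H : Type*} [Group H] (e : G ≃* H)
    (h : Cfsg.IsStronglyPIrreducible p G) : Cfsg.IsStronglyPIrreducible p H := by
  have hcore : (Cfsg.pCore p G).map e.toMonoidHom = Cfsg.pCore p H := H1.map_pCore_equiv p e
  refine ⟨fun hc => h.1 fun P => ?_, fun N hN hle => ?_⟩
  · have hs : IsPGroup p ↥((P : Subgroup G).map e.toMonoidHom) := P.isPGroup'.map _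
    let P' : Sylow p H :=
      { toSubgroup := (P : Subgroup G).map e.toMonoidHom
        isPGroup' := hs
        is_maximal' := fun {Q} hQ hle' => by
          have h1 : (P : Subgroup G) ≤ Q.comap e.toMonoidHom := Subgroup.map_le_iff_le_comap.mp hle'
          have h2 := P.is_maximal' (hQ.comap_of_injective e.toMonoidHom e.injective) h1
          rw [← h2, Subgroup.map_comap_eq_self_of_surjective e.surjective] }
    have := (hc P').comap e.toMonoidHom
    rwa [show ((P' : Subgroup H)).comap e.toMonoidHom = P from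
      Subgroup.comap_map_eq_self_of_injective e.injective _] at this
  · have := hN.comap e.toMonoidHom
    have h2 := h.2 (N.comap e.toMonoidHom) this ?_
    · rw [← H75.map_pResidual_equiv e]
      exact (Subgroup.map_mono h2).trans (Subgroup.map_comap_le _ _)
    · intro h3
      apply hle
      have h4 := Subgroup.map_mono (f := e.toMonoidHom) h3
      rwa [Subgroup.map_commutator, Subgroup.map_comap_eq_self_of_surjective e.surjective,
        Subgroup.map_top_of_surjective _ e.surjective, hcore] at h4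

theorem isStronglyPIrreducible_map_mk [Finite G] [Fact p.Prime] {D E : Subgroup G} [D.Normal]
    (hD : IsPGroup p D) (h : Cfsg.IsStronglyPIrreducible p E) :
    Cfsg.IsStronglyPIrreducible p ↥(E.map (QuotientGroup.mk' D)) := by
  let f := (QuotientGroup.mk' D).subgroupMap E
  have hker : IsPGroup p f.ker := by
    rintro ⟨x, hx⟩
    have hxD : (x : G) ∈ D := (QuotientGroup.eq_one_iff _).mp (congrArg Subtype.val hx)
    obtain ⟨k, hk⟩ := hD ⟨x, hxD⟩
    exact ⟨k, Subtype.ext (Subtype.ext (by simpa using congrArg Subtype.val hk))⟩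
  exact isStronglyPIrreducible_congr (QuotientGroup.quotientKerEquivOfSurjective f
    ((QuotientGroup.mk' D).subgroupMap_surjective E))
    ((H75.isStronglyPIrreducible_quotient_iff hker).mpr h)

theorem strongly_ambient [Finite G] [Fact p.Prime] {A N : Subgroup G}
    (hA : Cfsg.IsStronglyPIrreducible p A) (hO : Cfsg.pCoreOf p A = ⊥) (hNA : N ≤ A)
    (hN : A ≤ normalizer (N : Set G)) : ⁅N, A⁆ = ⊥ ∨ H75.resOf p A ≤ N := by
  by_cases h : ⁅N, A⁆ = ⊥
  · exact Or.inl h
  refine Or.inr ?_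
  have := normal_subgroupOf_of_le_normalizer hN
  have h2 := hA.2 (N.subgroupOf A) this fun h3 => h ?_
  · rw [← H75.map_pResidual_eq_resOf]
    exact (Subgroup.map_mono h2).trans (by rw [subgroupOf_map_subtype]; exact inf_le_left)
  · have h4 := Subgroup.map_mono (f := A.subtype) h3
    rw [Subgroup.map_commutator, subgroupOf_map_subtype, inf_of_le_left hNA,
      ← MonoidHom.range_eq_map, range_subtype, H75.pCore_eq_bot_iff.mp hO, Subgroup.map_bot] at h4
    exact le_bot_iff.mp h4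

/-! ### families in a group with trivial `p`-core -/

theorem normal_sSup_of_invariant {𝒦 : Set (Subgroup G)}
    (hinv : ∀ h : G, ∀ E ∈ 𝒦, cj h E ∈ 𝒦) : (sSup 𝒦).Normal := by
  refine ⟨fun x hx g => ?_⟩
  have h1 : sSup 𝒦 ≤ cj g⁻¹ (sSup 𝒦) :=
    sSup_le fun E hE => cj_le_iff.mp (le_sSup (hinv g E hE))
  simpa using mem_cj.mp (h1 hx)

theorem cj_resOf (g : G) (K : Subgroup G) : cj g (H75.resOf p K) = H75.resOf p (cj g K) := by
  rw [cj, H75.resOf, MonoidHom.map_closure, H75.resOf]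
  congr 1
  ext x
  constructor
  · rintro ⟨y, ⟨hy, ho⟩, rfl⟩
    exact ⟨mem_map_of_mem _ hy,
      by rw [orderOf_injective _ (MulAut.conj g).injective]; exact ho⟩
  · rintro ⟨⟨y, hy, rfl⟩, ho⟩
    rw [orderOf_injective _ (MulAut.conj g).injective] at ho
    exact ⟨y, ⟨hy, ho⟩, rfl⟩

/-- The standing hypotheses on a family of subgroups. -/
structure FamilyHyp (p : ℕ) (𝒜 : Set (Subgroup G)) : Prop where
  nonempty : 𝒜.Nonempty
  inv : ∀ g : G, ∀ A ∈ 𝒜, cj g A ∈ 𝒜
  trans : ∀ A ∈ 𝒜, ∀ B ∈ 𝒜, ∃ g : G, B = cj g A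
  res : Cfsg.pResidual p G ≤ sSup 𝒜
  norm : ∀ A ∈ 𝒜, sSup 𝒜 ≤ normalizer (A : Set G)

theorem FamilyHyp.subnormal {𝒜 : Set (Subgroup G)} (h : FamilyHyp p 𝒜) {A : Subgroup G}
    (hA : A ∈ 𝒜) : A.IsSubnormal :=
  have hn := normal_sSup_of_invariant h.inv
  .step A (sSup 𝒜) (le_sSup hA) hn.isSubnormal
    (normal_subgroupOf_of_le_normalizer (h.norm A hA))

theorem family_strongly [Finite G] [Fact p.Prime] {𝒜 : Set (Subgroup G)} (h : FamilyHyp p 𝒜)
    (hO : Cfsg.pCore p G = ⊥) (hirr : ∀ A ∈ 𝒜, Cfsg.IsStronglyPIrreducible p A) :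
    Cfsg.IsPIrreducible p G ∧
      ∀ A ∈ 𝒜, ∀ B ∈ 𝒜, H75.resOf p A ≤ B ∨ ⁅A, B⁆ = ⊥ := by
  have hRn := normal_sSup_of_invariant h.inv
  set R := sSup 𝒜 with hR
  have hAO : ∀ A ∈ 𝒜, Cfsg.pCoreOf p A = ⊥ := fun A hA =>
    H75.pCoreOf_eq_bot_of_subnormal (h.subnormal hA) hO
  have hgen : ∀ A ∈ 𝒜, PGen p A := fun A hA => by
    obtain ⟨T⟩ := (inferInstance : Nonempty (Sylow p A))
    exact pgen_of_subtype (pgen_top_of_normalClosure T.isPGroup'
      (H75.pirr_normalClosure_sylow (H75.isPIrreducible_of_strongly (hirr A hA)) T))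
  have hnA : ∀ A ∈ 𝒜, ∀ B ∈ 𝒜, A ≤ normalizer (B : Set G) := fun A hA B hB =>
    (le_sSup hA).trans (h.norm B hB)
  refine ⟨⟨?_, ?_⟩, ?_⟩
  · intro hc
    obtain ⟨A, hA⟩ := h.nonempty
    exact (hirr A hA).1 (H75.isPClosed_of_isPClosed hc A)
  · intro N hN hnc
    by_cases hex : ∃ A ∈ 𝒜, ⁅N ⊓ A, A⁆ ≠ ⊥
    · obtain ⟨A, hA, hne⟩ := hex
      have hresA : H75.resOf p A ≤ N := by
        rcases strongly_ambient (hirr A hA) (hAO A hA) inf_le_right
          ((le_inf (le_normalizer_of_normal : A ≤ normalizer (N : Set G)) le_normalizer).trans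
            inf_normalizer_le_normalizer_inf) with e | e
        · exact absurd e hne
        · exact e.trans inf_le_left
      let f := QuotientGroup.mk' N
      have himg : ∀ B ∈ 𝒜, B.map f ≤ Cfsg.pCore p (G ⧸ N) := by
        intro B hB
        obtain ⟨g, rfl⟩ := h.trans A hA B hB
        have hresB : H75.resOf p (cj g A) ≤ N := by
          rw [← cj_resOf]
          refine (cj_mono g hresA).trans (fun x hx => ?_)
          have := hN.conj_mem _ (mem_cj.mp hx) g
          simpa [mul_assoc] using this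
        have hpB : IsPGroup p ↥((cj g A).map f) := by
          rintro ⟨_, x, hx, rfl⟩
          obtain ⟨k, hk⟩ := H75.exists_pow_coprime (p := p) x
          refine ⟨k, Subtype.ext ?_⟩
          show f x ^ (p ^ k) = 1
          rw [← map_pow, QuotientGroup.mk'_apply, QuotientGroup.eq_one_iff]
          exact hresB (subset_closure ⟨pow_mem hx _, hk⟩)
        have hn' : (R.map f).Normal := hRn.map f (QuotientGroup.mk'_surjective N)
        exact H75.le_pCore_of_subnormal
          (.step _ (R.map f) (Subgroup.map_mono (le_sSup hB)) hn'.isSubnormal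
            (normal_subgroupOf_of_le_normalizer
              ((Subgroup.map_mono (h.norm _ hB)).trans (le_normalizer_map f)))) hpB
      rw [Cfsg.pResidual, closure_le]
      intro x hx
      have hxR : x ∈ R := h.res (subset_closure hx)
      have hRle : R ≤ (Cfsg.pCore p (G ⧸ N)).comap f :=
        sSup_le fun B hB => Subgroup.map_le_iff_le_comap.mp (himg B hB)
      rw [SetLike.mem_coe, ← QuotientGroup.eq_one_iff]
      exact H75.eq_one_of_mem_of_coprime (H1.isPGroup_pCore p _) (hRle hxR)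
        (Nat.Coprime.coprime_dvd_left (orderOf_map_dvd f x) hx)
    · refine absurd ?_ hnc
      simp only [not_exists, not_and, ne_eq, not_not] at hex
      set B := N ⊓ R with hB
      have hBn : B.Normal := Subgroup.normal_inf_normal N R
      have hBc : B ≤ centralizer (R : Set G) := by
        rw [le_centralizer_iff]
        refine sSup_le fun A hA => ?_
        rw [← commutator_eq_bot_iff_le_centralizer]
        have hBA : B ≤ normalizer (A : Set G) := inf_le_right.trans (h.norm A hA)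
        refine eq_bot_of_pgen_central (hgen A hA) (h.subnormal hA) hO hBA (le_bot_iff.mp ?_)
        refine (commutator_mono (le_inf ?_ ?_) le_rfl).trans (hex A hA).le
        · exact (commutator_le_right A B).trans inf_le_left
        · exact le_normalizer_iff_commutator_le_left.mp hBA
      have hRgen : PGen p R := pgen_sSup hgen
      have hBp : ∀ x ∈ B, ∀ k : ℕ, x ^ (p ^ k) = 1 → x = 1 := by
        intro x hx k hk
        have hz : IsPGroup p (zpowers x) := by
          rintro ⟨y, hy⟩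
          obtain ⟨i, rfl⟩ := mem_zpowers_iff.mp hy
          refine ⟨k, Subtype.ext ?_⟩
          simp only [coe_pow, coe_one]
          rw [← zpow_natCast, ← zpow_mul, mul_comm, zpow_mul, zpow_natCast, hk, one_zpow]
        have hsub : (zpowers x).IsSubnormal :=
          .step _ B (zpowers_le.mpr hx) hBn.isSubnormal
            (normal_subgroupOf_of_le_normalizer (le_trans
              ((hBc.trans (centralizer_le (show ((zpowers x : Subgroup G) : Set G) ⊆ R from
                fun y hy => (zpowers_le.mpr hx).trans inf_le_right hy))))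
              (centralizer_le_normalizer _)))
        exact mem_bot.mp ((H75.le_pCore_of_subnormal hsub hz).trans hO.le (mem_zpowers x))
      intro P
      rw [← normalizer_eq_top_iff, eq_top_iff, ← H75.pResidual_sup_sylow P]
      refine sup_le ?_ le_normalizer
      refine le_trans ?_ (centralizer_le_normalizer _)
      intro y hy
      have hyB : (y : G) ∈ B := by
        refine ⟨y.2, h.res ?_⟩
        exact H75.map_pResidual_le N.subtype (mem_map_of_mem _ hy)
      rw [mem_centralizer_iff]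
      intro t ht
      obtain ⟨k, hk⟩ := P.isPGroup' ⟨t, ht⟩
      have hk' : (t : G) ^ (p ^ k) = 1 := by
        simpa using congrArg (fun z : ↥(P : Subgroup N) => ((z : N) : G)) hk
      have htc : ∀ a ∈ R, ⁅a, (t : G)⁆ = 1 := by
        intro a ha
        have hmem : ∀ c ∈ R, ⁅c, (t : G)⁆ ∈ B := fun c hc =>
          commutator_le_inf N R (commutator_comm R N ▸ commutator_mem_commutator hc t.2)
        obtain ⟨l, hl⟩ := commutator_pElement hRgen inf_le_right hBc hmem ha
        exact hBp _ (hmem a ha) l hl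
      exact Subtype.ext (commutatorElement_eq_one_iff_commute.mp (htc (y : G) hyB.2)).eq.symm
  · intro A hA B hB
    set D := A ⊓ B with hD
    have hDA : A ≤ normalizer (D : Set G) :=
      (le_inf le_normalizer (hnA A hA B hB)).trans inf_normalizer_le_normalizer_inf
    rcases strongly_ambient (hirr A hA) (hAO A hA) inf_le_left hDA with e | e
    · refine Or.inr (eq_bot_of_pgen_central (hgen A hA) (h.subnormal hA) hO (hnA B hB A hA) ?_)
      refine le_bot_iff.mp ((commutator_mono (le_inf ?_ ?_) le_rfl).trans e.le)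
      · exact le_normalizer_iff_commutator_le_left.mp (hnA B hB A hA)
      · exact le_normalizer_iff_commutator_le_right.mp (hnA A hA B hB)
    · exact Or.inl (e.trans inf_le_right)

/-! ### minimality -/

/-- The join of the proper subgroups of `F` over `T ⊓ F`. -/
def properJoin (T F : Subgroup G) : Subgroup G :=
  sSup {X | T ⊓ F ≤ X ∧ X < F}

theorem family_minimal [Finite G] [Fact p.Prime] {𝒦 : Set (Subgroup G)} (hne : 𝒦.Nonempty)
    (hinv : ∀ h : G, ∀ E ∈ 𝒦, cj h E ∈ 𝒦) (htr : ∀ E ∈ 𝒦, ∀ K ∈ 𝒦, ∃ h : G, K = cj h E)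
    (hres : Cfsg.pResidual p G ≤ sSup 𝒦)
    (hnorm : ∀ E ∈ 𝒦, sSup 𝒦 ⊔ Cfsg.pCore p G ≤
      normalizer ((E ⊔ Cfsg.pCore p G : Subgroup G) : Set G))
    (hmin : ∀ E ∈ 𝒦, ∀ T : Sylow p ↥E, Cfsg.IsMinimalOver (T : Subgroup ↥E))
    (T : Sylow p G) : Cfsg.IsMinimalOver (T : Subgroup G) := by
  set Q := Cfsg.pCore p G with hQ
  have hQn : Q.Normal := H1.pCore_normal' p G
  have hRn := normal_sSup_of_invariant hinv
  set R := sSup 𝒦 with hR
  have hQT : Q ≤ (T : Subgroup G) := H1.pCore_le_sylow T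
  have hcjQ : ∀ (g : G) (E : Subgroup G), cj g (E ⊔ Q) = cj g E ⊔ Q := fun g E => by
    rw [cj, Subgroup.map_sup]
    congr 1
    exact cj_eq_self_iff.mpr (by rw [normalizer_eq_top]; trivial)
  have hRT : R ⊔ (T : Subgroup G) = ⊤ :=
    top_le_iff.mp ((H75.pResidual_sup_sylow T).ge.trans (sup_le_sup_right hres _))
  have hsyl : ∀ E ∈ 𝒦, ∃ P : Sylow p ↥E,
      (P : Subgroup ↥E).map E.subtype = (T : Subgroup G) ⊓ E := by
    intro E hE
    set RQ := R ⊔ Q with hRQdef
    have hRQn : RQ.Normal := Subgroup.sup_normal R Q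
    have hFRQ : E ⊔ Q ≤ RQ := sup_le_sup_right (le_sSup hE) _
    have hFn := normal_subgroupOf_of_le_normalizer (hnorm E hE)
    have hnd := H32.sylow_relIndex_normal_not_dvd (H32.sylowInf T RQ) ((E ⊔ Q).subgroupOf RQ)
    rw [H32.coe_sylowInf, relIndex_subgroupOf hFRQ] at hnd
    let S : Sylow p ↥(E ⊔ Q) := IsPGroup.toSylow
      (IsPGroup.comap_subtype (K := E ⊔ Q) T.isPGroup') hnd
    obtain ⟨P, hP⟩ := (IsPGroup.comap_subtype (K := E) T.isPGroup').exists_le_sylow
    refine ⟨P, le_antisymm ?_ ?_⟩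
    · refine le_inf ?_ (map_subtype_le _)
      have hp1 : IsPGroup p ↥((P : Subgroup E).map E.subtype ⊔ Q) :=
        (P.isPGroup'.map _).to_sup_of_normal_right (H1.isPGroup_pCore p G)
      have hle : (S : Subgroup ↥(E ⊔ Q)) ≤
          ((P : Subgroup E).map E.subtype ⊔ Q).subgroupOf (E ⊔ Q) := by
        rintro ⟨x, hxF⟩ hx
        obtain ⟨e, he, q, hq, rfl⟩ := mem_sup_of_normal_right.mp hxF
        have heT : e ∈ (T : Subgroup G) := (mul_mem_cancel_right (hQT hq)).mp hx
        exact mem_subgroupOf.mpr (mul_mem (mem_sup_left ⟨⟨e, he⟩, hP (show (⟨e, he⟩ : E) ∈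
          (T : Subgroup G).subgroupOf E from heT), rfl⟩) (mem_sup_right hq))
      have heq := S.is_maximal' (IsPGroup.comap_subtype (K := E ⊔ Q) hp1) hle
      intro x hx
      have hxF : x ∈ E ⊔ Q := mem_sup_left (map_subtype_le _ hx)
      have : (⟨x, hxF⟩ : ↥(E ⊔ Q)) ∈ (S : Subgroup ↥(E ⊔ Q)) :=
        heq.le (show _ ∈ ((P : Subgroup E).map E.subtype ⊔ Q).subgroupOf (E ⊔ Q) from
          mem_subgroupOf.mpr (mem_sup_left hx))
      exact this
    · rintro x ⟨hxT, hxE⟩
      exact ⟨⟨x, hxE⟩, hP (show (⟨x, hxE⟩ : E) ∈ (T : Subgroup G).subgroupOf E from hxT), rfl⟩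
  -- the join of the proper overgroups in each member is proper
  have hW : ∀ E ∈ 𝒦, (T : Subgroup G) ⊓ (E ⊔ Q) ≤ properJoin (T : Subgroup G) (E ⊔ Q) ∧
      properJoin (T : Subgroup G) (E ⊔ Q) < E ⊔ Q := by
    intro E hE
    obtain ⟨P, hP⟩ := hsyl E hE
    obtain ⟨M, ⟨hM, hPM⟩, -⟩ := id (hmin E hE P).2
    have hTEM : (T : Subgroup G) ⊓ E ≤ M.map E.subtype := hP ▸ Subgroup.map_mono hPM
    have hup : properJoin (T : Subgroup G) (E ⊔ Q) ≤ M.map E.subtype ⊔ Q := by
      refine sSup_le ?_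
      rintro X ⟨hTX, hX⟩
      have hQX : Q ≤ X := (le_inf hQT le_sup_right).trans hTX
      have hXM : X.subgroupOf E ≤ M := by
        refine H75.le_coatom_of_minimalOver (hmin E hE P) hM hPM ?_ fun e => ?_
        · intro x hx
          have h1 : (x : G) ∈ (T : Subgroup G) ⊓ E := hP ▸ mem_map_of_mem _ hx
          exact hTX ⟨h1.1, mem_sup_left h1.2⟩
        · exact hX.not_ge (sup_le (subgroupOf_eq_top.mp e) hQX)
      intro x hx
      obtain ⟨e, he, q, hq, rfl⟩ := mem_sup_of_normal_right.mp (hX.le hx)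
      exact mul_mem (mem_sup_left ⟨⟨e, he⟩, hXM (show (⟨e, he⟩ : E) ∈ X.subgroupOf E from
        (mul_mem_cancel_right (hQX hq)).mp hx), rfl⟩) (mem_sup_right hq)
    have hproper : M.map E.subtype ⊔ Q < E ⊔ Q := by
      refine lt_of_le_of_ne (sup_le_sup_right (map_subtype_le _) _) fun e => hM.1 ?_
      rw [eq_top_iff]
      rintro ⟨x, hx⟩ -
      have hx' : x ∈ M.map E.subtype ⊔ Q := e.ge (mem_sup_left hx)
      obtain ⟨m, hm, q, hq, hmq⟩ := mem_sup_of_normal_right.mp hx'
      have hqE : q ∈ E := (mul_mem_cancel_left (map_subtype_le _ hm)).mp (hmq ▸ hx)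
      have : x ∈ M.map E.subtype := hmq ▸ mul_mem hm (hTEM ⟨hQT hq, hqE⟩)
      obtain ⟨y, hy, hyx⟩ := this
      rwa [show (⟨x, hx⟩ : E) = y from Subtype.ext hyx.symm]
    refine ⟨le_sSup ⟨le_rfl, ?_⟩, lt_of_le_of_lt hup hproper⟩
    refine lt_of_le_of_lt ?_ hproper
    rintro x ⟨hxT, hxF⟩
    obtain ⟨e, he, q, hq, rfl⟩ := mem_sup_of_normal_right.mp hxF
    exact mul_mem (mem_sup_left (hTEM ⟨(mul_mem_cancel_right (hQT hq)).mp hxT, he⟩))
      (mem_sup_right hq)
  set U : Subgroup G :=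
    { carrier := {g | ∀ E ∈ 𝒦, cj g (properJoin (T : Subgroup G) (E ⊔ Q)) =
        properJoin (T : Subgroup G) (cj g E ⊔ Q)}
      one_mem' := fun E _ => by rw [cj_one, cj_one]
      mul_mem' := fun {a b} ha hb E hE => by
        rw [← cj_cj, hb E hE, ha _ (hinv b E hE), cj_cj]
      inv_mem' := fun {a} ha E hE => by
        have h1 := ha _ (hinv a⁻¹ E hE)
        rw [cj_cj, mul_inv_cancel, cj_one] at h1
        rw [← h1, cj_cj, inv_mul_cancel, cj_one] } with hUdef
  -- a proper overgroup of `T` lies in `U`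
  have hXU : ∀ X : Subgroup G, (T : Subgroup G) ≤ X → X ≠ ⊤ → X ≤ U := by
    intro X hTX hX
    have hnot : ∀ E ∈ 𝒦, ¬ E ⊔ Q ≤ X := by
      intro E hE hle
      apply hX
      rw [eq_top_iff, ← hRT]
      refine sup_le (sSup_le fun K hK => ?_) hTX
      obtain ⟨g, rfl⟩ := htr E hE K hK
      have hg : g ∈ R ⊔ (T : Subgroup G) := hRT ▸ mem_top g
      obtain ⟨r, hr, t, ht, rfl⟩ := mem_sup_of_normal_left.mp hg
      refine le_trans ?_ ((cj_mono t hle).trans (cj_eq_self_iff.mpr (le_normalizer (hTX ht))).le)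
      rw [hcjQ]
      have hnr : cj r (cj t E ⊔ Q) = cj t E ⊔ Q :=
        cj_eq_self_iff.mpr (hnorm _ (hinv t E hE) (mem_sup_left hr))
      rw [← cj_cj]
      exact (cj_mono r le_sup_left).trans hnr.le
    have hcand : ∀ E ∈ 𝒦, X ⊓ (E ⊔ Q) ≤ properJoin (T : Subgroup G) (E ⊔ Q) := fun E hE =>
      le_sSup ⟨inf_le_inf_right _ hTX, lt_of_le_of_ne inf_le_right
        (fun e => hnot E hE (inf_eq_right.mp e))⟩
    have hone : ∀ x ∈ X, ∀ E ∈ 𝒦, cj x (properJoin (T : Subgroup G) (E ⊔ Q)) ≤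
        properJoin (T : Subgroup G) (cj x E ⊔ Q) := by
      intro x hx E hE
      refine le_sSup ⟨?_, ?_⟩
      · refine (inf_le_inf_right _ hTX).trans ?_
        refine le_trans ?_ (cj_mono x (hcand E hE))
        rintro y ⟨hy1, hy2⟩
        rw [mem_cj]
        refine ⟨show x⁻¹ * y * x ∈ X from mul_mem (mul_mem (inv_mem hx) (show y ∈ X from hy1)) hx, ?_⟩
        rw [← hcjQ] at hy2
        exact mem_cj.mp hy2
      · rw [← hcjQ]
        refine lt_of_le_of_ne (cj_mono x (hW E hE).2.le) fun e => (hW E hE).2.ne ?_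
        exact Subgroup.map_injective (MulAut.conj x).injective e
    intro x hx E hE
    refine le_antisymm (hone x hx E hE) ?_
    have h2 := hone x⁻¹ (inv_mem hx) _ (hinv x E hE)
    rw [cj_cj, inv_mul_cancel, cj_one, cj_le_iff, inv_inv] at h2
    exact h2
  -- `U` is proper
  have hUne : U ≠ ⊤ := by
    intro hU
    obtain ⟨E, hE⟩ := hne
    obtain ⟨hW1, hW2⟩ := hW E hE
    set W := properJoin (T : Subgroup G) (E ⊔ Q) with hWdef
    obtain ⟨P, hP⟩ := hsyl E hE
    have hEW : E ≤ normalizer (W : Set G) := by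
      intro x hx
      have hxU : x ∈ U := hU ▸ mem_top x
      have hs : cj x E = E := cj_eq_self_iff.mpr (le_normalizer hx)
      have h1 : cj x W = W := by
        have h2 := hxU E hE
        rwa [hs] at h2
      exact cj_eq_self_iff.mp h1
    have hn := normal_subgroupOf_of_le_normalizer hEW
    have htop : W.subgroupOf E = ⊤ := by
      rw [eq_top_iff, ← (hmin E hE P).1]
      refine normalClosure_le_normal fun x hx => ?_
      have h1 : (x : G) ∈ (T : Subgroup G) ⊓ E := hP ▸ mem_map_of_mem _ hx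
      exact hW1 ⟨h1.1, mem_sup_left h1.2⟩
    exact hW2.not_ge (sup_le (subgroupOf_eq_top.mp htop) ((le_inf hQT le_sup_right).trans hW1))
  have hTne : (T : Subgroup G) ≠ ⊤ := by
    intro e
    obtain ⟨E, hE⟩ := hne
    obtain ⟨P, hP⟩ := hsyl E hE
    obtain ⟨M, ⟨hM, hPM⟩, -⟩ := (hmin E hE P).2
    refine hM.1 (top_le_iff.mp fun x _ => hPM ?_)
    have h1 : (x : G) ∈ (P : Subgroup E).map E.subtype := by
      rw [hP, e, top_inf_eq]; exact x.2
    obtain ⟨y, hy, hyx⟩ := h1
    rwa [← Subtype.ext hyx]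
  have hTU := hXU _ le_rfl hTne
  refine ⟨?_, U, ⟨⟨hUne, fun b hb => by_contra fun hb' => hb.not_ge
    (hXU b (hTU.trans hb.le) hb')⟩, hTU⟩, fun M hM => ?_⟩
  · set N := normalClosure ((T : Subgroup G) : Set G)
    have hTN : (T : Subgroup G) ≤ N := le_normalClosure
    rw [eq_top_iff, ← hRT]
    refine sup_le (sSup_le fun E hE => ?_) hTN
    obtain ⟨P, hP⟩ := hsyl E hE
    have hn : (N.subgroupOf E).Normal := inferInstance
    refine subgroupOf_eq_top.mp (top_le_iff.mp ?_)
    rw [← (hmin E hE P).1]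
    refine normalClosure_le_normal fun x hx => ?_
    have h1 : (x : G) ∈ (T : Subgroup G) ⊓ E := hP ▸ mem_map_of_mem _ hx
    exact hTN h1.1
  · exact le_antisymm (hXU M hM.2 hM.1.1) (by_contra fun hne' =>
      hUne (hM.1.2 U (lt_of_le_not_ge (hXU M hM.2 hM.1.1) hne')))

end H76
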