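import Cfsg.Prelude.Def_LocalEven
import Cfsg.Prelude.Def_Local
import Cfsg.Agent.S2905
import Cfsg.Agent.CompLayer
import Cfsg.Agent.H74.McBride
import Cfsg.Agent.H70.Conj
import Cfsg.Agent.H75.Large

/-!
Components of `p`-minimal groups with trivial `p`-core.
-/

set_option autoImplicit false

namespace H76

open Subgroup H70
open scoped commutatorElement

variable {P : Type*} [Group P] [Finite P] {p : ℕ} [Fact p.Prime]

/-- A subgroup of index prime to `p` has a conjugate containing a given Sylow subgroup. -/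
theorem exists_conj_sylow_le (Y : Subgroup P) (hY : ¬ p ∣ Y.index) (S : Sylow p P) :
    ∃ g : P, (S : Subgroup P) ≤ cj g Y := by
  obtain ⟨S1⟩ := (inferInstance : Nonempty (Sylow p Y))
  obtain ⟨S2, hS2⟩ := (S1.isPGroup'.map Y.subtype).exists_le_sylow
  have h1 : (S2 : Subgroup P) = (S1 : Subgroup Y).map Y.subtype := by
    refine (eq_of_le_of_card_ge hS2 ?_).symm
    refine Nat.le_of_dvd Nat.card_pos ?_
    obtain ⟨n, hn⟩ := IsPGroup.iff_card.mp S2.isPGroup'
    rw [hn, card_map_of_injective Y.subtype_injective]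
    have h2 : p ^ n ∣ (S1 : Subgroup Y).index * Nat.card (S1 : Subgroup Y) * Y.index := by
      rw [index_mul_card, card_mul_index, ← hn]
      exact card_subgroup_dvd_card _
    have hc : Nat.Coprime (p ^ n) ((S1 : Subgroup Y).index * Y.index) :=
      Nat.Coprime.pow_left n ((Fact.out : p.Prime).coprime_iff_not_dvd.mpr
        ((Fact.out : p.Prime).not_dvd_mul S1.not_dvd_index hY))
    rw [mul_right_comm] at h2
    exact hc.dvd_of_dvd_mul_left h2
  obtain ⟨g, hg⟩ := MulAction.exists_smul_eq P S2 S
  refine ⟨g, ?_⟩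
  rw [← hg]
  intro x hx
  exact cj_mono g (h1.le.trans (map_subtype_le _)) hx

theorem iSup_conj_normalized (S Y : Subgroup P) :
    S ≤ normalizer ((⨆ s : ↥S, cj (s : P) Y : Subgroup P) : Set P) := by
  have key : ∀ t ∈ S, cj t (⨆ s : ↥S, cj (s : P) Y) ≤ ⨆ s : ↥S, cj (s : P) Y := by
    intro t ht
    rw [cj, Subgroup.map_iSup]
    refine iSup_le fun s => ?_
    show cj t (cj (s : P) Y) ≤ _
    rw [cj_cj]
    exact le_iSup_of_le ⟨t * s, S.mul_mem ht s.2⟩ le_rfl
  intro t ht
  refine cj_eq_self_iff.mp (le_antisymm (key t ht) ?_)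
  have := cj_mono t (key t⁻¹ (inv_mem ht))
  rwa [cj_cj, mul_inv_cancel, cj_one] at this

theorem pMinimal_components (hP : Cfsg.IsPMinimal p P) (hOp : Cfsg.pCore p P = ⊥) (S : Sylow p P)
    (K : Subgroup P) (hK : Cfsg.IsComponent K) :
    Cfsg.pResidual p P = Cfsg.generalizedFittingSubgroup P ∧
    Cfsg.generalizedFittingSubgroup P = Cfsg.layer P ∧
    Cfsg.layer P = ⨆ s : ↥(S : Subgroup P), cj (s : P) K ∧
    Cfsg.IsPMinimal p ↥(K ⊔ ((S : Subgroup P) ⊓ normalizer (K : Set P))) := by
  classical
  obtain ⟨hSn, M, ⟨hM, hSM⟩, huniq⟩ := hP S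
  obtain ⟨hsub, hprimes, h3, -, -⟩ := Cfsg.Agent.S2905.result hP S M hM hSM
  have hover : ∀ X : Subgroup P, (S : Subgroup P) ≤ X → X ≠ ⊤ → X ≤ M := by
    intro X hSX hX
    obtain ⟨M', hM', hXM'⟩ := H75.exists_coatom_ge hX
    exact hXM'.trans (huniq M' ⟨hM', hSX.trans hXM'⟩).le
  set F := M.normalCore with hFdef
  have hFM : F ≤ M := normalCore_le M
  have hFn : F.Normal := normalCore_normal M
  have hEn := H75.pResidual_normal p P
  set E := Cfsg.pResidual p P with hE
  have hES : E ⊔ (S : Subgroup P) = ⊤ := H75.pResidual_sup_sylow S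
  -- `F` has order prime to `p` and is nilpotent
  have hFS : (S : Subgroup P) ⊓ F = ⊥ := by
    rw [inf_comm]
    exact le_bot_iff.mp ((hsub F (Normal.isSubnormal hFn) hFM).trans hOp.le)
  have hFp : ¬ p ∣ Nat.card F := by
    have h := H32.sylow_relIndex_normal_not_dvd S F
    rwa [← inf_relIndex_right, hFS, relIndex_bot_left] at h
  have hFnil : Group.IsNilpotent F := by
    refine (Group.isNilpotent_of_finite_tfae.out 0 3 rfl rfl).mpr fun r hr R => ?_
    haveI := hr
    set R' := (R : Subgroup F).map F.subtype with hR'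
    have hfr : normalizer (R' : Set P) ⊔ F = ⊤ := Sylow.normalizer_sup_eq_top R
    have htop : normalizer (R' : Set P) = ⊤ := by
      by_contra hne
      have hnd : ¬ p ∣ (normalizer (R' : Set P)).index := by
        rw [← relIndex_top_right, ← hfr, ← H32.relIndex_normal_eq]
        exact fun h => hFp (h.trans (relIndex_dvd_card _ _))
      obtain ⟨g, hg⟩ := exists_conj_sylow_le _ hnd S
      refine hM.1 (top_le_iff.mp ?_)
      have h1 : cj g (normalizer (R' : Set P) ⊔ F) = ⊤ := by
        rw [hfr, cj, map_top_of_surjective _ (MulAut.conj g).surjective]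
      rw [← h1, cj, Subgroup.map_sup]
      refine sup_le (hover _ hg fun h => hne ?_)
        ((cj_eq_self_iff.mpr (by rw [normalizer_eq_top]; trivial)).le.trans hFM)
      exact map_injective (f := (MulAut.conj g).toMonoidHom) (MulAut.conj g).injective
        (h.trans (map_top_of_surjective _ (MulAut.conj g).surjective).symm)
    have hR'n : R'.Normal := normalizer_eq_top_iff.mp htop
    have := hR'n.comap F.subtype
    rwa [hR', comap_map_eq_self_of_injective F.subtype_injective] at this
  have hnotnil : ∀ N : Subgroup P, Group.IsNilpotent N → ¬ K ≤ N := by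
    intro N hN hKN
    have := hN
    exact Cfsg.Comp.isComponent_not_isSolvable hK
      (Group.isSolvable_of_isSolvable_injective (inclusion_injective hKN))
  -- the layer is `O^p(P)`
  have hln : (Cfsg.layer P).Normal := inferInstance
  have hKl : K ≤ Cfsg.layer P := Cfsg.Comp.le_layer hK
  have hEl : E = Cfsg.layer P := by
    refine le_antisymm ((h3 _ hln).resolve_right fun h => hnotnil F hFnil (hKl.trans h)) ?_
    haveI := hEn
    have hp' : IsPGroup p (P ⧸ E) := H75.isPGroup_quotient_of_pResidual_le le_rfl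
    set X := (Cfsg.layer P).map (QuotientGroup.mk' E) with hX
    have hperf : ⁅X, X⁆ = X := by rw [hX, ← map_commutator, Cfsg.Comp.layer_perfect]
    have hXbot : X = ⊥ := by
      by_contra hne
      exact (H75.commutator_lt (hp'.to_subgroup X) (hp'.to_subgroup X) le_normalizer hne).ne hperf
    rw [hX, Subgroup.map_eq_bot_iff, QuotientGroup.ker_mk'] at hXbot
    exact hXbot
  -- the Fitting subgroup lies in `O^p(P)`
  have hFit : Cfsg.fittingSubgroup P ≤ E := by
    refine sSup_le ?_
    rintro N ⟨hN, hNnil⟩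
    rcases h3 N hN with h | h
    · exact absurd ((hKl.trans hEl.ge).trans h) (hnotnil N hNnil)
    · intro x hx
      refine H75.coprime_mem_pResidual ?_
      refine Nat.Coprime.symm ((Fact.out : p.Prime).coprime_iff_not_dvd.mpr fun hd => hFp ?_)
      exact hd.trans ((orderOf_mk x (h hx)) ▸ orderOf_dvd_natCard (⟨x, h hx⟩ : F))
  have hstar : Cfsg.generalizedFittingSubgroup P = Cfsg.layer P :=
    sup_eq_left.mpr (hFit.trans hEl.le)
  -- the layer is generated by the `S`-conjugates of `K`
  have hcomp : ∀ s : P, Cfsg.IsComponent (cj s K) := fun s => Cfsg.Comp.isComponent_conj hK s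
  set L := ⨆ s : ↥(S : Subgroup P), cj (s : P) K with hL
  have hKL : K ≤ L := le_iSup_of_le (1 : ↥(S : Subgroup P)) (by simp)
  have hLE : L ≤ E := (iSup_le fun s : ↥(S : Subgroup P) =>
    Cfsg.Comp.le_layer (hcomp s)).trans hEl.ge
  have hLn : L.Normal := by
    rw [← normalizer_eq_top_iff, eq_top_iff, ← hES]
    refine sup_le ?_ (iSup_conj_normalized _ K)
    intro x hx
    refine cj_eq_self_iff.mp ?_
    rw [hL, cj, Subgroup.map_iSup]
    refine iSup_congr fun s => ?_
    exact cj_eq_self_iff.mpr (Cfsg.Comp.layer_le_normalizer_component (hcomp s) (hEl.le hx))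
  have hLeq : L = E := le_antisymm hLE
    ((h3 L hLn).resolve_right fun h => hnotnil F hFnil (hKL.trans h))
  refine ⟨hstar.symm ▸ hEl, hstar, hEl.symm.trans hLeq.symm, ?_⟩
  -- `p`-minimality of `K N_S(K)`
  set SK := (S : Subgroup P) ⊓ normalizer (K : Set P) with hSK
  set J := K ⊔ SK with hJ
  have hKJ : K ≤ J := le_sup_left
  have hJN : J ≤ normalizer (K : Set P) := sup_le le_normalizer inf_le_right
  have hKJn : (K.subgroupOf J).Normal := normal_subgroupOf_of_le_normalizer hJN
  have hSKK : SK.relIndex K = (S : Subgroup P).relIndex K := by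
    rw [← inf_relIndex_right SK, ← inf_relIndex_right (S : Subgroup P), hSK, inf_assoc,
      inf_eq_right.mpr (le_normalizer : K ≤ normalizer (K : Set P))]
  have hSKnd : ¬ p ∣ (S : Subgroup P).relIndex K := by
    haveI := hln
    have hn := normal_subgroupOf_of_le_normalizer (Cfsg.Comp.layer_le_normalizer_component hK)
    have h := H32.sylow_relIndex_normal_not_dvd (H32.sylowInf S (Cfsg.layer P))
      (K.subgroupOf (Cfsg.layer P))
    rwa [H32.coe_sylowInf, relIndex_subgroupOf hKl] at h
  have hidx : ¬ p ∣ (SK.subgroupOf J).index := by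
    have h1 : (SK.subgroupOf J).index = SK.relIndex K := by
      rw [← relIndex_subgroupOf (H := SK) hKJ, H32.relIndex_normal_eq,
        ← subgroupOf_sup le_sup_right hKJ,
        show (SK ⊔ K).subgroupOf J = ⊤ from subgroupOf_eq_top.mpr (sup_le le_sup_left le_sup_right |>.trans' (sup_comm K SK).le), relIndex_top_right]
    rw [h1, hSKK]; exact hSKnd
  let SJ : Sylow p J :=
    IsPGroup.toSylow (IsPGroup.comap_subtype (K := J) S.isPGroup'.to_inf_left) hidx
  have hSJ : (SJ : Subgroup J) = SK.subgroupOf J := rfl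
  refine H74.isPMinimal_of_one SJ ?_ ?_
  · -- `SJ` is not normal
    intro hn
    rw [hSJ] at hn
    have hJle : J ≤ normalizer (SK : Set P) :=
      (normal_subgroupOf_iff_le_normalizer le_sup_right).mp hn
    have hKn : K ≤ normalizer ((SK ⊓ K : Subgroup P) : Set P) :=
      (le_inf (hKJ.trans hJle) le_normalizer).trans inf_normalizer_le_normalizer_inf
    have hbot : SK ⊓ K = ⊥ := by
      have hsubn : (SK ⊓ K).IsSubnormal :=
        .step _ K inf_le_right hK.1 (normal_subgroupOf_of_le_normalizer hKn)
      exact le_bot_iff.mp ((H75.le_pCore_of_subnormal hsubn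
        (IsPGroup.to_inf_left S.isPGroup'.to_inf_left)).trans hOp.le)
    have hKp : ¬ p ∣ Nat.card K := by
      rw [← relIndex_bot_left, ← hbot, inf_relIndex_right, hSKK]
      exact hSKnd
    have hEp : ¬ p ∣ Nat.card E := by
      intro hd
      have hle : E ≤ Cfsg.pPrimeCore p P := by
        rw [← hLeq, hL]
        refine iSup_le fun s => Cfsg.Comp.le_pPrimeCore_of_subnormal (hcomp s).1 ?_
        rw [card_cj]; exact hKp
      exact Cfsg.Comp.not_dvd_card_pPrimeCore p (hd.trans (card_dvd_of_le hle))
    have hTE : ∀ T : Sylow p ↥E, (T : Subgroup ↥E).Normal := by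
      intro T
      have h1 : (T : Subgroup ↥E) = ⊥ := by
        obtain ⟨n, hn⟩ := IsPGroup.iff_card.mp T.isPGroup'
        rcases Nat.eq_zero_or_pos n with rfl | hn'
        · exact card_eq_one.mp (by rw [hn, pow_zero])
        · exact absurd ((dvd_pow_self p hn'.ne').trans (hn ▸ card_subgroup_dvd_card _)) hEp
      rw [h1]; infer_instance
    have hc2 := hprimes hTE
    have hpP : p ∈ (Nat.card P).primeFactors := by
      refine Nat.mem_primeFactors.mpr ⟨Fact.out, ?_, Nat.card_pos.ne'⟩
      by_contra hd
      apply hSn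
      obtain ⟨n, hn⟩ := IsPGroup.iff_card.mp S.isPGroup'
      rcases Nat.eq_zero_or_pos n with rfl | hn'
      · rw [card_eq_one.mp (by rw [hn, pow_zero] : Nat.card (S : Subgroup P) = 1)]; infer_instance
      · exact absurd ((dvd_pow_self p hn'.ne').trans (hn ▸ card_subgroup_dvd_card _)) hd
    have hsubset : (Nat.card E).primeFactors ⊆ (Nat.card P).primeFactors.erase p := by
      intro q hq
      refine Finset.mem_erase.mpr ⟨?_,
        Nat.primeFactors_mono (card_subgroup_dvd_card E) Nat.card_pos.ne' hq⟩
      rintro rfl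
      exact hEp (Nat.dvd_of_mem_primeFactors hq)
    have hcard1 : (Nat.card E).primeFactors.card ≤ 1 := by
      refine (Finset.card_le_card hsubset).trans ?_
      rw [Finset.card_erase_of_mem hpP]
      omega
    have hnil : Group.IsNilpotent E := by
      rcases Finset.card_le_one_iff_subset_singleton.mp hcard1 with ⟨q, hq⟩
      by_cases h1 : Nat.card E = 1
      · haveI := (Nat.card_eq_one_iff_unique.mp h1).1
        infer_instance
      · obtain ⟨r, hr, hrd⟩ := Nat.exists_prime_and_dvd h1
        have hrq : r = q := Finset.mem_singleton.mp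
          (hq (Nat.mem_primeFactors.mpr ⟨hr, hrd, Nat.card_pos.ne'⟩))
        subst hrq
        haveI := Fact.mk hr
        refine IsPGroup.isNilpotent (p := r) (IsPGroup.of_card (n := (Nat.card E).factorization r) ?_)
        exact Nat.eq_pow_of_factorization_eq_single Nat.card_pos.ne'
          (Finsupp.eq_single_iff.mpr ⟨by rw [Nat.support_factorization]; exact hq, rfl⟩)
    exact hnotnil E hnil (hKL.trans hLE)
  · -- a unique maximal subgroup above `SJ`
    have hLM : ¬ K ≤ M := by
      intro h
      refine hM.1 (top_le_iff.mp (hES.ge.trans (sup_le ?_ hSM)))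
      rw [← hLeq, hL]
      exact iSup_le fun s => (cj_mono _ h).trans
        (cj_eq_self_iff.mpr (le_normalizer (hSM s.2))).le
    have hperf : ⁅K, K⁆ = K := Cfsg.Comp.isComponent_perfect hK
    have hmain : ∀ X : Subgroup P, SK ≤ X → X < J → X ⊓ K ≤ M := by
      intro X hSX hXJ
      set Y := X ⊓ K with hY
      have hYlt : ¬ K ≤ Y := fun h => hXJ.not_ge (sup_le (h.trans inf_le_left) hSX)
      set Yh := ⨆ s : ↥(S : Subgroup P), cj (s : P) Y with hYh
      have hYYh : Y ≤ Yh := le_iSup_of_le (1 : ↥(S : Subgroup P)) (by simp)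
      by_cases htop : Yh ⊔ (S : Subgroup P) = ⊤
      · exfalso
        have hn : Yh.Normal := by
          rw [← normalizer_eq_top_iff, eq_top_iff, ← htop]
          exact sup_le le_normalizer (iSup_conj_normalized _ _)
        have hKY : K ≤ Yh := (hKL.trans hLE).trans (H75.pResidual_le_of_sup_eq_top S.isPGroup' htop)
        have hb : Yh ≤ Y ⊔ centralizer (K : Set P) := by
          refine iSup_le fun s => ?_
          rcases Cfsg.Comp.component_eq_or_commute (hcomp s) hK with h | h
          · have hsN : (s : P) ∈ normalizer (K : Set P) := cj_eq_self_iff.mp h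
            refine le_trans (le_of_eq (cj_eq_self_iff.mpr ?_)) le_sup_left
            exact inf_normalizer_le_normalizer_inf
              ⟨le_normalizer (hSX ⟨s.2, hsN⟩), hsN⟩
          · exact ((cj_mono _ inf_le_right).trans
              (commutator_eq_bot_iff_le_centralizer.mp h)).trans le_sup_right
        have hYC : Y ≤ normalizer (centralizer (K : Set P) : Set P) :=
          (inf_le_right.trans le_normalizer).trans (H75.normalizer_le_normalizer_centralizer K)
        apply hYlt
        rw [← hperf, commutator_le]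
        intro a ha b hb'
        have haS : a ∈ ((Y ⊔ centralizer (K : Set P) : Subgroup P) : Set P) := hb (hKY ha)
        have hbS : b ∈ ((Y ⊔ centralizer (K : Set P) : Subgroup P) : Set P) := hb (hKY hb')
        rw [coe_mul_of_left_le_normalizer_right _ _ hYC] at haS hbS
        obtain ⟨y, hy, z, hz, rfl⟩ := haS
        obtain ⟨y', hy', z', hz', rfl⟩ := hbS
        have hzK : z ∈ K := (mul_mem_cancel_left (show y ∈ K from hy.2)).mp ha
        have hz'K : z' ∈ K := (mul_mem_cancel_left (show y' ∈ K from hy'.2)).mp hb'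
        have c1 : z * y' = y' * z := (mem_centralizer_iff.mp hz y' hy'.2).symm
        have c2 : z' * y = y * z' := (mem_centralizer_iff.mp hz' y hy.2).symm
        have c3 : z * z' = z' * z := (mem_centralizer_iff.mp hz z' hz'K).symm
        have : ⁅y * z, y' * z'⁆ = ⁅y, y'⁆ := by
          have e1 : y * z * (y' * z') = y * y' * (z * z') := by
            rw [mul_assoc, ← mul_assoc z, c1, mul_assoc, ← mul_assoc]
          have e2 : y' * z' * (y * z) = y' * y * (z * z') := by
            rw [mul_assoc, ← mul_assoc z', c2, mul_assoc, ← mul_assoc, c3]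
          calc ⁅y * z, y' * z'⁆ = (y * z * (y' * z')) * (y' * z' * (y * z))⁻¹ := by
                simp only [commutatorElement_def]; group
            _ = _ := by rw [e1, e2]; simp only [commutatorElement_def]; group
        rw [this]
        have h1 : ⁅Y, Y⁆ ≤ Y := commutator_le_self Y
        exact h1 (commutator_mem_commutator hy hy')
      · exact (hYYh.trans le_sup_left).trans (hover _ le_sup_right htop)
    set MJ := (M ⊓ K) ⊔ SK with hMJ
    have hMJM : MJ ≤ M := sup_le inf_le_left (inf_le_left.trans hSM)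
    have hMJJ : MJ ≤ J := sup_le_sup_right inf_le_right _
    have hX : ∀ X : Subgroup J, (SJ : Subgroup J) ≤ X → X ≠ ⊤ → X ≤ MJ.subgroupOf J := by
      intro X hSX hne
      set X' := X.map J.subtype with hX'
      have hSX' : SK ≤ X' := fun x hx =>
        ⟨⟨x, mem_sup_right hx⟩, hSX (show _ ∈ SK.subgroupOf J from hx), rfl⟩
      have hX'J : X' < J := by
        refine lt_of_le_of_ne (map_subtype_le _) fun e => hne ?_
        rw [← comap_map_eq_self_of_injective J.subtype_injective X, ← hX', e]
        exact subgroupOf_self J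
      intro x hx
      have hxJ : (x : P) ∈ ((K ⊔ SK : Subgroup P) : Set P) := x.2
      rw [coe_mul_of_right_le_normalizer_left K SK inf_le_right] at hxJ
      obtain ⟨k, hk, t, ht, hkt⟩ := hxJ
      have hkX : k ∈ X' :=
        (mul_mem_cancel_right (hSX' ht)).mp (show k * t ∈ X' by rw [show k * t = (x : P) from hkt]; exact mem_map_of_mem _ hx)
      refine mem_subgroupOf.mpr ?_
      show (x : P) ∈ MJ
      rw [← hkt]
      exact mul_mem (mem_sup_left ⟨hmain X' hSX' hX'J ⟨hkX, hk⟩, hk⟩) (mem_sup_right ht)
    have hMJne : MJ.subgroupOf J ≠ ⊤ := fun h =>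
      hLM ((hKJ.trans (subgroupOf_eq_top.mp h)).trans hMJM)
    have hle : (SJ : Subgroup J) ≤ MJ.subgroupOf J := fun x hx =>
      mem_subgroupOf.mpr (mem_sup_right (show (x : P) ∈ SK from hx))
    refine ⟨MJ.subgroupOf J, ⟨⟨hMJne, fun b hb => by_contra fun hb' =>
      hb.not_ge (hX b (hle.trans hb.le) hb')⟩, hle⟩, fun N hN => ?_⟩
    exact le_antisymm (hX N hN.2 hN.1.1) (by_contra fun hne' =>
      hMJne (hN.1.2 _ (lt_of_le_not_ge (hX N hN.2 hN.1.1) hne')))

end H76
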